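import Cfsg.Agent.Lib.Helper27.Fi22.F0.Seed

set_option autoImplicit false
set_option maxRecDepth 100000
set_option Elab.async false
set_option linter.all false

namespace Cfsg.Agent.Helper27.Fi22TC.F0

open Cfsg.Agent.Helper28 Cfsg.Agent.Helper27.Fi22TC
open Cfsg.Spor.Fi22 (Gen)

noncomputable section

theorem ep_e_0 : D.chkEntR cert Gen.e (0 * 1024) 1024 = true := by decide +kernel
theorem ep_e_1 : D.chkEntR cert Gen.e (1 * 1024) 1024 = true := by decide +kernel
theorem ep_e_2 : D.chkEntR cert Gen.e (2 * 1024) 1024 = true := by decide +kernel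
theorem ep_e_3 : D.chkEntR cert Gen.e (3 * 1024) 1024 = true := by decide +kernel
theorem ep_e_4 : D.chkEntR cert Gen.e (4 * 1024) 1024 = true := by decide +kernel
theorem ep_e_5 : D.chkEntR cert Gen.e (5 * 1024) 1024 = true := by decide +kernel
theorem ep_e_6 : D.chkEntR cert Gen.e (6 * 1024) 1024 = true := by decide +kernel
theorem ep_e_7 : D.chkEntR cert Gen.e (7 * 1024) 1024 = true := by decide +kernel
theorem ep_e_8 : D.chkEntR cert Gen.e (8 * 1024) 1024 = true := by decide +kernel
theorem ep_e_9 : D.chkEntR cert Gen.e (9 * 1024) 1024 = true := by decide +kernel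
theorem ep_e_10 : D.chkEntR cert Gen.e (10 * 1024) 1024 = true := by decide +kernel
theorem ep_e_11 : D.chkEntR cert Gen.e (11 * 1024) 1024 = true := by decide +kernel
theorem ep_e_12 : D.chkEntR cert Gen.e (12 * 1024) 1024 = true := by decide +kernel
theorem ep_e_13 : D.chkEntR cert Gen.e (13 * 1024) 1024 = true := by decide +kernel

end

end Cfsg.Agent.Helper27.Fi22TC.F0
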