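import Cfsg.Agent.Lib.Helper27.Fi22.F0.Data

set_option autoImplicit false
set_option maxRecDepth 100000
set_option Elab.async false
set_option linter.all false

namespace Cfsg.Agent.Helper27.Fi22TC.F0

open Cfsg.Agent.Helper28 Cfsg.Agent.Helper27.Fi22TC
open Cfsg.Spor.Fi22 (Gen)

noncomputable section

theorem rp_13_0 : D.chkRelR R13 (0 * 12500) 12500 = true := by decide +kernel
theorem rp_13_1 : D.chkRelR R13 (1 * 12500) 12500 = true := by decide +kernel
theorem rp_14_0 : D.chkRelR R14 (0 * 12500) 12500 = true := by decide +kernel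
theorem rp_14_1 : D.chkRelR R14 (1 * 12500) 12500 = true := by decide +kernel
theorem rp_15_0 : D.chkRelR R15 (0 * 12500) 12500 = true := by decide +kernel
theorem rp_15_1 : D.chkRelR R15 (1 * 12500) 12500 = true := by decide +kernel
theorem rp_16_0 : D.chkRelR R16 (0 * 12500) 12500 = true := by decide +kernel
theorem rp_16_1 : D.chkRelR R16 (1 * 12500) 12500 = true := by decide +kernel
theorem rp_17_0 : D.chkRelR R17 (0 * 8333) 8333 = true := by decide +kernel
theorem rp_17_1 : D.chkRelR R17 (1 * 8333) 8333 = true := by decide +kernel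
theorem rp_18_0 : D.chkRelR R18 (0 * 12500) 12500 = true := by decide +kernel
theorem rp_18_1 : D.chkRelR R18 (1 * 12500) 12500 = true := by decide +kernel
theorem rp_19_0 : D.chkRelR R19 (0 * 12500) 12500 = true := by decide +kernel
theorem rp_19_1 : D.chkRelR R19 (1 * 12500) 12500 = true := by decide +kernel

end

end Cfsg.Agent.Helper27.Fi22TC.F0
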