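import Cfsg.Agent.Lib.Helper27.Fi22.F0.Data

set_option autoImplicit false
set_option maxRecDepth 100000
set_option Elab.async false
set_option linter.all false

namespace Cfsg.Agent.Helper27.Fi22TC.F0

open Cfsg.Agent.Helper28 Cfsg.Agent.Helper27.Fi22TC
open Cfsg.Spor.Fi22 (Gen)

noncomputable section

theorem rp_20_0 : D.chkRelR R20 (0 * 12500) 12500 = true := by decide +kernel
theorem rp_20_1 : D.chkRelR R20 (1 * 12500) 12500 = true := by decide +kernel
theorem rp_21_0 : D.chkRelR R21 (0 * 12500) 12500 = true := by decide +kernel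
theorem rp_21_1 : D.chkRelR R21 (1 * 12500) 12500 = true := by decide +kernel
theorem rp_22_0 : D.chkRelR R22 (0 * 12500) 12500 = true := by decide +kernel
theorem rp_22_1 : D.chkRelR R22 (1 * 12500) 12500 = true := by decide +kernel
theorem rp_23_0 : D.chkRelR R23 (0 * 12500) 12500 = true := by decide +kernel
theorem rp_23_1 : D.chkRelR R23 (1 * 12500) 12500 = true := by decide +kernel
theorem rp_24_0 : D.chkRelR R24 (0 * 8333) 8333 = true := by decide +kernel
theorem rp_24_1 : D.chkRelR R24 (1 * 8333) 8333 = true := by decide +kernel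
theorem rp_25_0 : D.chkRelR R25 (0 * 12500) 12500 = true := by decide +kernel
theorem rp_25_1 : D.chkRelR R25 (1 * 12500) 12500 = true := by decide +kernel
theorem rp_26_0 : D.chkRelR R26 (0 * 12500) 12500 = true := by decide +kernel
theorem rp_26_1 : D.chkRelR R26 (1 * 12500) 12500 = true := by decide +kernel

end

end Cfsg.Agent.Helper27.Fi22TC.F0
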