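import Cfsg.Agent.Lib.Helper27.Fi22.F0.Data

set_option autoImplicit false
set_option maxRecDepth 100000
set_option Elab.async false
set_option linter.all false

namespace Cfsg.Agent.Helper27.Fi22TC.F0

open Cfsg.Agent.Helper28 Cfsg.Agent.Helper27.Fi22TC
open Cfsg.Spor.Fi22 (Gen)

noncomputable section

theorem rp_27_0 : D.chkRelR R27 (0 * 12500) 12500 = true := by decide +kernel
theorem rp_27_1 : D.chkRelR R27 (1 * 12500) 12500 = true := by decide +kernel
theorem rp_28_0 : D.chkRelR R28 (0 * 12500) 12500 = true := by decide +kernel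
theorem rp_28_1 : D.chkRelR R28 (1 * 12500) 12500 = true := by decide +kernel
theorem rp_29_0 : D.chkRelR R29 (0 * 12500) 12500 = true := by decide +kernel
theorem rp_29_1 : D.chkRelR R29 (1 * 12500) 12500 = true := by decide +kernel
theorem rp_30_0 : D.chkRelR R30 (0 * 8333) 8333 = true := by decide +kernel
theorem rp_30_1 : D.chkRelR R30 (1 * 8333) 8333 = true := by decide +kernel
theorem rp_31_0 : D.chkRelR R31 (0 * 12500) 12500 = true := by decide +kernel
theorem rp_31_1 : D.chkRelR R31 (1 * 12500) 12500 = true := by decide +kernel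
theorem rp_32_0 : D.chkRelR R32 (0 * 12500) 12500 = true := by decide +kernel
theorem rp_32_1 : D.chkRelR R32 (1 * 12500) 12500 = true := by decide +kernel
theorem rp_33_0 : D.chkRelR R33 (0 * 8333) 8333 = true := by decide +kernel
theorem rp_33_1 : D.chkRelR R33 (1 * 8333) 8333 = true := by decide +kernel

end

end Cfsg.Agent.Helper27.Fi22TC.F0
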