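import Cfsg.Agent.Lib.Helper27.Fi22.F0.Data

set_option autoImplicit false
set_option maxRecDepth 100000
set_option Elab.async false
set_option linter.all false

namespace Cfsg.Agent.Helper27.Fi22TC.F0

open Cfsg.Agent.Helper28 Cfsg.Agent.Helper27.Fi22TC
open Cfsg.Spor.Fi22 (Gen)

noncomputable section

theorem rp_34_0 : D.chkRelR R34 (0 * 12500) 12500 = true := by decide +kernel
theorem rp_34_1 : D.chkRelR R34 (1 * 12500) 12500 = true := by decide +kernel
theorem rp_35_0 : D.chkRelR R35 (0 * 8333) 8333 = true := by decide +kernel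
theorem rp_35_1 : D.chkRelR R35 (1 * 8333) 8333 = true := by decide +kernel
theorem rp_36_0 : D.chkRelR R36 (0 * 12500) 12500 = true := by decide +kernel
theorem rp_36_1 : D.chkRelR R36 (1 * 12500) 12500 = true := by decide +kernel
theorem rp_37_0 : D.chkRelR R37 (0 * 12500) 12500 = true := by decide +kernel
theorem rp_37_1 : D.chkRelR R37 (1 * 12500) 12500 = true := by decide +kernel
theorem rp_38_0 : D.chkRelR R38 (0 * 12500) 12500 = true := by decide +kernel
theorem rp_38_1 : D.chkRelR R38 (1 * 12500) 12500 = true := by decide +kernel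
theorem rp_39_0 : D.chkRelR R39 (0 * 8333) 8333 = true := by decide +kernel
theorem rp_39_1 : D.chkRelR R39 (1 * 8333) 8333 = true := by decide +kernel
theorem rp_40_0 : D.chkRelR R40 (0 * 12500) 12500 = true := by decide +kernel
theorem rp_40_1 : D.chkRelR R40 (1 * 12500) 12500 = true := by decide +kernel

end

end Cfsg.Agent.Helper27.Fi22TC.F0
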