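import Cfsg.Agent.Lib.Helper27.Fi22.F0.Data

set_option autoImplicit false
set_option maxRecDepth 100000
set_option Elab.async false
set_option linter.all false

namespace Cfsg.Agent.Helper27.Fi22TC.F0

open Cfsg.Agent.Helper28 Cfsg.Agent.Helper27.Fi22TC
open Cfsg.Spor.Fi22 (Gen)

noncomputable section

theorem rp_41_0 : D.chkRelR R41 (0 * 12500) 12500 = true := by decide +kernel
theorem rp_41_1 : D.chkRelR R41 (1 * 12500) 12500 = true := by decide +kernel
theorem rp_42_0 : D.chkRelR R42 (0 * 12500) 12500 = true := by decide +kernel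
theorem rp_42_1 : D.chkRelR R42 (1 * 12500) 12500 = true := by decide +kernel
theorem rp_43_0 : D.chkRelR R43 (0 * 12500) 12500 = true := by decide +kernel
theorem rp_43_1 : D.chkRelR R43 (1 * 12500) 12500 = true := by decide +kernel
theorem rp_44_0 : D.chkRelR R44 (0 * 8333) 8333 = true := by decide +kernel
theorem rp_44_1 : D.chkRelR R44 (1 * 8333) 8333 = true := by decide +kernel
theorem rp_45_0 : D.chkRelR R45 (0 * 555) 555 = true := by decide +kernel
theorem rp_45_1 : D.chkRelR R45 (1 * 555) 555 = true := by decide +kernel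
theorem rp_45_2 : D.chkRelR R45 (2 * 555) 555 = true := by decide +kernel
theorem rp_45_3 : D.chkRelR R45 (3 * 555) 555 = true := by decide +kernel
theorem rp_45_4 : D.chkRelR R45 (4 * 555) 555 = true := by decide +kernel
theorem rp_45_5 : D.chkRelR R45 (5 * 555) 555 = true := by decide +kernel

end

end Cfsg.Agent.Helper27.Fi22TC.F0
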