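import Cfsg.Agent.Lib.Helper27.Fi22.F0.Data

set_option autoImplicit false
set_option maxRecDepth 100000
set_option Elab.async false
set_option linter.all false

namespace Cfsg.Agent.Helper27.Fi22TC.F0

open Cfsg.Agent.Helper28 Cfsg.Agent.Helper27.Fi22TC
open Cfsg.Spor.Fi22 (Gen)

noncomputable section

theorem rp_45_6 : D.chkRelR R45 (6 * 555) 555 = true := by decide +kernel
theorem rp_45_7 : D.chkRelR R45 (7 * 555) 555 = true := by decide +kernel
theorem rp_45_8 : D.chkRelR R45 (8 * 555) 555 = true := by decide +kernel
theorem rp_45_9 : D.chkRelR R45 (9 * 555) 555 = true := by decide +kernel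
theorem rp_45_10 : D.chkRelR R45 (10 * 555) 555 = true := by decide +kernel
theorem rp_45_11 : D.chkRelR R45 (11 * 555) 555 = true := by decide +kernel
theorem rp_45_12 : D.chkRelR R45 (12 * 555) 555 = true := by decide +kernel
theorem rp_45_13 : D.chkRelR R45 (13 * 555) 555 = true := by decide +kernel
theorem rp_45_14 : D.chkRelR R45 (14 * 555) 555 = true := by decide +kernel
theorem rp_45_15 : D.chkRelR R45 (15 * 555) 555 = true := by decide +kernel
theorem rp_45_16 : D.chkRelR R45 (16 * 555) 555 = true := by decide +kernel
theorem rp_45_17 : D.chkRelR R45 (17 * 555) 555 = true := by decide +kernel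
theorem rp_45_18 : D.chkRelR R45 (18 * 555) 555 = true := by decide +kernel
theorem rp_45_19 : D.chkRelR R45 (19 * 555) 555 = true := by decide +kernel

end

end Cfsg.Agent.Helper27.Fi22TC.F0
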