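import Cfsg.Agent.Lib.Helper27.Fi22.F0.Data

set_option autoImplicit false
set_option maxRecDepth 100000
set_option Elab.async false
set_option linter.all false

namespace Cfsg.Agent.Helper27.Fi22TC.F0

open Cfsg.Agent.Helper28 Cfsg.Agent.Helper27.Fi22TC
open Cfsg.Spor.Fi22 (Gen)

noncomputable section

theorem rp_45_20 : D.chkRelR R45 (20 * 555) 555 = true := by decide +kernel
theorem rp_45_21 : D.chkRelR R45 (21 * 555) 555 = true := by decide +kernel
theorem rp_45_22 : D.chkRelR R45 (22 * 555) 555 = true := by decide +kernel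
theorem rp_45_23 : D.chkRelR R45 (23 * 555) 555 = true := by decide +kernel
theorem rp_45_24 : D.chkRelR R45 (24 * 555) 555 = true := by decide +kernel
theorem rp_45_25 : D.chkRelR R45 (25 * 555) 555 = true := by decide +kernel
theorem rp_46_0 : D.chkRelR R46 (0 * 793) 793 = true := by decide +kernel
theorem rp_46_1 : D.chkRelR R46 (1 * 793) 793 = true := by decide +kernel
theorem rp_46_2 : D.chkRelR R46 (2 * 793) 793 = true := by decide +kernel
theorem rp_46_3 : D.chkRelR R46 (3 * 793) 793 = true := by decide +kernel
theorem rp_46_4 : D.chkRelR R46 (4 * 793) 793 = true := by decide +kernel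
theorem rp_46_5 : D.chkRelR R46 (5 * 793) 793 = true := by decide +kernel
theorem rp_46_6 : D.chkRelR R46 (6 * 793) 793 = true := by decide +kernel
theorem rp_46_7 : D.chkRelR R46 (7 * 793) 793 = true := by decide +kernel

end

end Cfsg.Agent.Helper27.Fi22TC.F0
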