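import Cfsg.Agent.Lib.Helper27.Fi22.F0.Data

set_option autoImplicit false
set_option maxRecDepth 100000
set_option Elab.async false
set_option linter.all false

namespace Cfsg.Agent.Helper27.Fi22TC.F0

open Cfsg.Agent.Helper28 Cfsg.Agent.Helper27.Fi22TC
open Cfsg.Spor.Fi22 (Gen)

noncomputable section

theorem rp_46_8 : D.chkRelR R46 (8 * 793) 793 = true := by decide +kernel
theorem rp_46_9 : D.chkRelR R46 (9 * 793) 793 = true := by decide +kernel
theorem rp_46_10 : D.chkRelR R46 (10 * 793) 793 = true := by decide +kernel
theorem rp_46_11 : D.chkRelR R46 (11 * 793) 793 = true := by decide +kernel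
theorem rp_46_12 : D.chkRelR R46 (12 * 793) 793 = true := by decide +kernel
theorem rp_46_13 : D.chkRelR R46 (13 * 793) 793 = true := by decide +kernel
theorem rp_46_14 : D.chkRelR R46 (14 * 793) 793 = true := by decide +kernel
theorem rp_46_15 : D.chkRelR R46 (15 * 793) 793 = true := by decide +kernel
theorem rp_46_16 : D.chkRelR R46 (16 * 793) 793 = true := by decide +kernel
theorem rp_46_17 : D.chkRelR R46 (17 * 793) 793 = true := by decide +kernel

end

end Cfsg.Agent.Helper27.Fi22TC.F0
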