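import Cfsg.Agent.Lib.Helper27.Fi22.F0.Rel0
import Cfsg.Agent.Lib.Helper27.Fi22.F0.Rel1
import Cfsg.Agent.Lib.Helper27.Fi22.F0.Rel2
import Cfsg.Agent.Lib.Helper27.Fi22.F0.Rel3
import Cfsg.Agent.Lib.Helper27.Fi22.F0.Rel4
import Cfsg.Agent.Lib.Helper27.Fi22.F0.Rel5
import Cfsg.Agent.Lib.Helper27.Fi22.F0.Rel6
import Cfsg.Agent.Lib.Helper27.Fi22.F0.Rel7
import Cfsg.Agent.Lib.Helper27.Fi22.F0.Rel8

set_option autoImplicit false
set_option maxRecDepth 100000
set_option Elab.async false
set_option linter.all false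

namespace Cfsg.Agent.Helper27.Fi22TC.F0

open Cfsg.Agent.Helper28 Cfsg.Agent.Helper27.Fi22TC
open Cfsg.Spor.Fi22 (Gen)

noncomputable section

theorem rel_0 : ∀ p, D.beq (act D.fwd D.fwd R0 p) p = true :=
  D.allFR_cover _ 14080 1 (by decide) (fun i hi => by
    match i, hi with
    | 0, _ => exact rp_0_0
    | (k + 1), h => omega)
theorem rel_1 : ∀ p, D.beq (act D.fwd D.fwd R1 p) p = true :=
  D.allFR_cover _ 14080 1 (by decide) (fun i hi => by
    match i, hi with
    | 0, _ => exact rp_1_0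
    | (k + 1), h => omega)
theorem rel_2 : ∀ p, D.beq (act D.fwd D.fwd R2 p) p = true :=
  D.allFR_cover _ 14080 1 (by decide) (fun i hi => by
    match i, hi with
    | 0, _ => exact rp_2_0
    | (k + 1), h => omega)
theorem rel_3 : ∀ p, D.beq (act D.fwd D.fwd R3 p) p = true :=
  D.allFR_cover _ 14080 1 (by decide) (fun i hi => by
    match i, hi with
    | 0, _ => exact rp_3_0
    | (k + 1), h => omega)
theorem rel_4 : ∀ p, D.beq (act D.fwd D.fwd R4 p) p = true :=
  D.allFR_cover _ 14080 1 (by decide) (fun i hi => by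
    match i, hi with
    | 0, _ => exact rp_4_0
    | (k + 1), h => omega)
theorem rel_5 : ∀ p, D.beq (act D.fwd D.fwd R5 p) p = true :=
  D.allFR_cover _ 14080 1 (by decide) (fun i hi => by
    match i, hi with
    | 0, _ => exact rp_5_0
    | (k + 1), h => omega)
theorem rel_6 : ∀ p, D.beq (act D.fwd D.fwd R6 p) p = true :=
  D.allFR_cover _ 14080 1 (by decide) (fun i hi => by
    match i, hi with
    | 0, _ => exact rp_6_0
    | (k + 1), h => omega)
theorem rel_7 : ∀ p, D.beq (act D.fwd D.fwd R7 p) p = true :=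
  D.allFR_cover _ 14080 1 (by decide) (fun i hi => by
    match i, hi with
    | 0, _ => exact rp_7_0
    | (k + 1), h => omega)
theorem rel_8 : ∀ p, D.beq (act D.fwd D.fwd R8 p) p = true :=
  D.allFR_cover _ 14080 1 (by decide) (fun i hi => by
    match i, hi with
    | 0, _ => exact rp_8_0
    | (k + 1), h => omega)
theorem rel_9 : ∀ p, D.beq (act D.fwd D.fwd R9 p) p = true :=
  D.allFR_cover _ 8333 2 (by decide) (fun i hi => by
    match i, hi with
    | 0, _ => exact rp_9_0
    | 1, _ => exact rp_9_1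
    | (k + 2), h => omega)
theorem rel_10 : ∀ p, D.beq (act D.fwd D.fwd R10 p) p = true :=
  D.allFR_cover _ 12500 2 (by decide) (fun i hi => by
    match i, hi with
    | 0, _ => exact rp_10_0
    | 1, _ => exact rp_10_1
    | (k + 2), h => omega)
theorem rel_11 : ∀ p, D.beq (act D.fwd D.fwd R11 p) p = true :=
  D.allFR_cover _ 12500 2 (by decide) (fun i hi => by
    match i, hi with
    | 0, _ => exact rp_11_0
    | 1, _ => exact rp_11_1
    | (k + 2), h => omega)
theorem rel_12 : ∀ p, D.beq (act D.fwd D.fwd R12 p) p = true :=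
  D.allFR_cover _ 12500 2 (by decide) (fun i hi => by
    match i, hi with
    | 0, _ => exact rp_12_0
    | 1, _ => exact rp_12_1
    | (k + 2), h => omega)
theorem rel_13 : ∀ p, D.beq (act D.fwd D.fwd R13 p) p = true :=
  D.allFR_cover _ 12500 2 (by decide) (fun i hi => by
    match i, hi with
    | 0, _ => exact rp_13_0
    | 1, _ => exact rp_13_1
    | (k + 2), h => omega)
theorem rel_14 : ∀ p, D.beq (act D.fwd D.fwd R14 p) p = true :=
  D.allFR_cover _ 12500 2 (by decide) (fun i hi => by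
    match i, hi with
    | 0, _ => exact rp_14_0
    | 1, _ => exact rp_14_1
    | (k + 2), h => omega)
theorem rel_15 : ∀ p, D.beq (act D.fwd D.fwd R15 p) p = true :=
  D.allFR_cover _ 12500 2 (by decide) (fun i hi => by
    match i, hi with
    | 0, _ => exact rp_15_0
    | 1, _ => exact rp_15_1
    | (k + 2), h => omega)
theorem rel_16 : ∀ p, D.beq (act D.fwd D.fwd R16 p) p = true :=
  D.allFR_cover _ 12500 2 (by decide) (fun i hi => by
    match i, hi with
    | 0, _ => exact rp_16_0
    | 1, _ => exact rp_16_1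
    | (k + 2), h => omega)
theorem rel_17 : ∀ p, D.beq (act D.fwd D.fwd R17 p) p = true :=
  D.allFR_cover _ 8333 2 (by decide) (fun i hi => by
    match i, hi with
    | 0, _ => exact rp_17_0
    | 1, _ => exact rp_17_1
    | (k + 2), h => omega)
theorem rel_18 : ∀ p, D.beq (act D.fwd D.fwd R18 p) p = true :=
  D.allFR_cover _ 12500 2 (by decide) (fun i hi => by
    match i, hi with
    | 0, _ => exact rp_18_0
    | 1, _ => exact rp_18_1
    | (k + 2), h => omega)
theorem rel_19 : ∀ p, D.beq (act D.fwd D.fwd R19 p) p = true :=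
  D.allFR_cover _ 12500 2 (by decide) (fun i hi => by
    match i, hi with
    | 0, _ => exact rp_19_0
    | 1, _ => exact rp_19_1
    | (k + 2), h => omega)
theorem rel_20 : ∀ p, D.beq (act D.fwd D.fwd R20 p) p = true :=
  D.allFR_cover _ 12500 2 (by decide) (fun i hi => by
    match i, hi with
    | 0, _ => exact rp_20_0
    | 1, _ => exact rp_20_1
    | (k + 2), h => omega)
theorem rel_21 : ∀ p, D.beq (act D.fwd D.fwd R21 p) p = true :=
  D.allFR_cover _ 12500 2 (by decide) (fun i hi => by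
    match i, hi with
    | 0, _ => exact rp_21_0
    | 1, _ => exact rp_21_1
    | (k + 2), h => omega)
theorem rel_22 : ∀ p, D.beq (act D.fwd D.fwd R22 p) p = true :=
  D.allFR_cover _ 12500 2 (by decide) (fun i hi => by
    match i, hi with
    | 0, _ => exact rp_22_0
    | 1, _ => exact rp_22_1
    | (k + 2), h => omega)
theorem rel_23 : ∀ p, D.beq (act D.fwd D.fwd R23 p) p = true :=
  D.allFR_cover _ 12500 2 (by decide) (fun i hi => by
    match i, hi with
    | 0, _ => exact rp_23_0
    | 1, _ => exact rp_23_1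
    | (k + 2), h => omega)
theorem rel_24 : ∀ p, D.beq (act D.fwd D.fwd R24 p) p = true :=
  D.allFR_cover _ 8333 2 (by decide) (fun i hi => by
    match i, hi with
    | 0, _ => exact rp_24_0
    | 1, _ => exact rp_24_1
    | (k + 2), h => omega)
theorem rel_25 : ∀ p, D.beq (act D.fwd D.fwd R25 p) p = true :=
  D.allFR_cover _ 12500 2 (by decide) (fun i hi => by
    match i, hi with
    | 0, _ => exact rp_25_0
    | 1, _ => exact rp_25_1
    | (k + 2), h => omega)
theorem rel_26 : ∀ p, D.beq (act D.fwd D.fwd R26 p) p = true :=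
  D.allFR_cover _ 12500 2 (by decide) (fun i hi => by
    match i, hi with
    | 0, _ => exact rp_26_0
    | 1, _ => exact rp_26_1
    | (k + 2), h => omega)
theorem rel_27 : ∀ p, D.beq (act D.fwd D.fwd R27 p) p = true :=
  D.allFR_cover _ 12500 2 (by decide) (fun i hi => by
    match i, hi with
    | 0, _ => exact rp_27_0
    | 1, _ => exact rp_27_1
    | (k + 2), h => omega)
theorem rel_28 : ∀ p, D.beq (act D.fwd D.fwd R28 p) p = true :=
  D.allFR_cover _ 12500 2 (by decide) (fun i hi => by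
    match i, hi with
    | 0, _ => exact rp_28_0
    | 1, _ => exact rp_28_1
    | (k + 2), h => omega)
theorem rel_29 : ∀ p, D.beq (act D.fwd D.fwd R29 p) p = true :=
  D.allFR_cover _ 12500 2 (by decide) (fun i hi => by
    match i, hi with
    | 0, _ => exact rp_29_0
    | 1, _ => exact rp_29_1
    | (k + 2), h => omega)
theorem rel_30 : ∀ p, D.beq (act D.fwd D.fwd R30 p) p = true :=
  D.allFR_cover _ 8333 2 (by decide) (fun i hi => by
    match i, hi with
    | 0, _ => exact rp_30_0
    | 1, _ => exact rp_30_1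
    | (k + 2), h => omega)
theorem rel_31 : ∀ p, D.beq (act D.fwd D.fwd R31 p) p = true :=
  D.allFR_cover _ 12500 2 (by decide) (fun i hi => by
    match i, hi with
    | 0, _ => exact rp_31_0
    | 1, _ => exact rp_31_1
    | (k + 2), h => omega)
theorem rel_32 : ∀ p, D.beq (act D.fwd D.fwd R32 p) p = true :=
  D.allFR_cover _ 12500 2 (by decide) (fun i hi => by
    match i, hi with
    | 0, _ => exact rp_32_0
    | 1, _ => exact rp_32_1
    | (k + 2), h => omega)
theorem rel_33 : ∀ p, D.beq (act D.fwd D.fwd R33 p) p = true :=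
  D.allFR_cover _ 8333 2 (by decide) (fun i hi => by
    match i, hi with
    | 0, _ => exact rp_33_0
    | 1, _ => exact rp_33_1
    | (k + 2), h => omega)
theorem rel_34 : ∀ p, D.beq (act D.fwd D.fwd R34 p) p = true :=
  D.allFR_cover _ 12500 2 (by decide) (fun i hi => by
    match i, hi with
    | 0, _ => exact rp_34_0
    | 1, _ => exact rp_34_1
    | (k + 2), h => omega)
theorem rel_35 : ∀ p, D.beq (act D.fwd D.fwd R35 p) p = true :=
  D.allFR_cover _ 8333 2 (by decide) (fun i hi => by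
    match i, hi with
    | 0, _ => exact rp_35_0
    | 1, _ => exact rp_35_1
    | (k + 2), h => omega)
theorem rel_36 : ∀ p, D.beq (act D.fwd D.fwd R36 p) p = true :=
  D.allFR_cover _ 12500 2 (by decide) (fun i hi => by
    match i, hi with
    | 0, _ => exact rp_36_0
    | 1, _ => exact rp_36_1
    | (k + 2), h => omega)
theorem rel_37 : ∀ p, D.beq (act D.fwd D.fwd R37 p) p = true :=
  D.allFR_cover _ 12500 2 (by decide) (fun i hi => by
    match i, hi with
    | 0, _ => exact rp_37_0
    | 1, _ => exact rp_37_1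
    | (k + 2), h => omega)
theorem rel_38 : ∀ p, D.beq (act D.fwd D.fwd R38 p) p = true :=
  D.allFR_cover _ 12500 2 (by decide) (fun i hi => by
    match i, hi with
    | 0, _ => exact rp_38_0
    | 1, _ => exact rp_38_1
    | (k + 2), h => omega)
theorem rel_39 : ∀ p, D.beq (act D.fwd D.fwd R39 p) p = true :=
  D.allFR_cover _ 8333 2 (by decide) (fun i hi => by
    match i, hi with
    | 0, _ => exact rp_39_0
    | 1, _ => exact rp_39_1
    | (k + 2), h => omega)
theorem rel_40 : ∀ p, D.beq (act D.fwd D.fwd R40 p) p = true :=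
  D.allFR_cover _ 12500 2 (by decide) (fun i hi => by
    match i, hi with
    | 0, _ => exact rp_40_0
    | 1, _ => exact rp_40_1
    | (k + 2), h => omega)
theorem rel_41 : ∀ p, D.beq (act D.fwd D.fwd R41 p) p = true :=
  D.allFR_cover _ 12500 2 (by decide) (fun i hi => by
    match i, hi with
    | 0, _ => exact rp_41_0
    | 1, _ => exact rp_41_1
    | (k + 2), h => omega)
theorem rel_42 : ∀ p, D.beq (act D.fwd D.fwd R42 p) p = true :=
  D.allFR_cover _ 12500 2 (by decide) (fun i hi => by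
    match i, hi with
    | 0, _ => exact rp_42_0
    | 1, _ => exact rp_42_1
    | (k + 2), h => omega)
theorem rel_43 : ∀ p, D.beq (act D.fwd D.fwd R43 p) p = true :=
  D.allFR_cover _ 12500 2 (by decide) (fun i hi => by
    match i, hi with
    | 0, _ => exact rp_43_0
    | 1, _ => exact rp_43_1
    | (k + 2), h => omega)
theorem rel_44 : ∀ p, D.beq (act D.fwd D.fwd R44 p) p = true :=
  D.allFR_cover _ 8333 2 (by decide) (fun i hi => by
    match i, hi with
    | 0, _ => exact rp_44_0
    | 1, _ => exact rp_44_1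
    | (k + 2), h => omega)
theorem rel_45 : ∀ p, D.beq (act D.fwd D.fwd R45 p) p = true :=
  D.allFR_cover _ 555 26 (by decide) (fun i hi => by
    match i, hi with
    | 0, _ => exact rp_45_0
    | 1, _ => exact rp_45_1
    | 2, _ => exact rp_45_2
    | 3, _ => exact rp_45_3
    | 4, _ => exact rp_45_4
    | 5, _ => exact rp_45_5
    | 6, _ => exact rp_45_6
    | 7, _ => exact rp_45_7
    | 8, _ => exact rp_45_8
    | 9, _ => exact rp_45_9
    | 10, _ => exact rp_45_10
    | 11, _ => exact rp_45_11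
    | 12, _ => exact rp_45_12
    | 13, _ => exact rp_45_13
    | 14, _ => exact rp_45_14
    | 15, _ => exact rp_45_15
    | 16, _ => exact rp_45_16
    | 17, _ => exact rp_45_17
    | 18, _ => exact rp_45_18
    | 19, _ => exact rp_45_19
    | 20, _ => exact rp_45_20
    | 21, _ => exact rp_45_21
    | 22, _ => exact rp_45_22
    | 23, _ => exact rp_45_23
    | 24, _ => exact rp_45_24
    | 25, _ => exact rp_45_25
    | (k + 26), h => omega)
theorem rel_46 : ∀ p, D.beq (act D.fwd D.fwd R46 p) p = true :=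
  D.allFR_cover _ 793 18 (by decide) (fun i hi => by
    match i, hi with
    | 0, _ => exact rp_46_0
    | 1, _ => exact rp_46_1
    | 2, _ => exact rp_46_2
    | 3, _ => exact rp_46_3
    | 4, _ => exact rp_46_4
    | 5, _ => exact rp_46_5
    | 6, _ => exact rp_46_6
    | 7, _ => exact rp_46_7
    | 8, _ => exact rp_46_8
    | 9, _ => exact rp_46_9
    | 10, _ => exact rp_46_10
    | 11, _ => exact rp_46_11
    | 12, _ => exact rp_46_12
    | 13, _ => exact rp_46_13
    | 14, _ => exact rp_46_14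
    | 15, _ => exact rp_46_15
    | 16, _ => exact rp_46_16
    | 17, _ => exact rp_46_17
    | (k + 18), h => omega)
theorem h2 : ∀ w ∈ D.relL, ∀ p, D.beq (act D.fwd D.fwd w p) p = true :=
  show ∀ w ∈ relL, _ from
    List.forall_mem_cons.2 ⟨rel_0,
    List.forall_mem_cons.2 ⟨rel_1,
    List.forall_mem_cons.2 ⟨rel_2,
    List.forall_mem_cons.2 ⟨rel_3,
    List.forall_mem_cons.2 ⟨rel_4,
    List.forall_mem_cons.2 ⟨rel_5,
    List.forall_mem_cons.2 ⟨rel_6,
    List.forall_mem_cons.2 ⟨rel_7,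
    List.forall_mem_cons.2 ⟨rel_8,
    List.forall_mem_cons.2 ⟨rel_9,
    List.forall_mem_cons.2 ⟨rel_10,
    List.forall_mem_cons.2 ⟨rel_11,
    List.forall_mem_cons.2 ⟨rel_12,
    List.forall_mem_cons.2 ⟨rel_13,
    List.forall_mem_cons.2 ⟨rel_14,
    List.forall_mem_cons.2 ⟨rel_15,
    List.forall_mem_cons.2 ⟨rel_16,
    List.forall_mem_cons.2 ⟨rel_17,
    List.forall_mem_cons.2 ⟨rel_18,
    List.forall_mem_cons.2 ⟨rel_19,
    List.forall_mem_cons.2 ⟨rel_20,
    List.forall_mem_cons.2 ⟨rel_21,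
    List.forall_mem_cons.2 ⟨rel_22,
    List.forall_mem_cons.2 ⟨rel_23,
    List.forall_mem_cons.2 ⟨rel_24,
    List.forall_mem_cons.2 ⟨rel_25,
    List.forall_mem_cons.2 ⟨rel_26,
    List.forall_mem_cons.2 ⟨rel_27,
    List.forall_mem_cons.2 ⟨rel_28,
    List.forall_mem_cons.2 ⟨rel_29,
    List.forall_mem_cons.2 ⟨rel_30,
    List.forall_mem_cons.2 ⟨rel_31,
    List.forall_mem_cons.2 ⟨rel_32,
    List.forall_mem_cons.2 ⟨rel_33,
    List.forall_mem_cons.2 ⟨rel_34,
    List.forall_mem_cons.2 ⟨rel_35,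
    List.forall_mem_cons.2 ⟨rel_36,
    List.forall_mem_cons.2 ⟨rel_37,
    List.forall_mem_cons.2 ⟨rel_38,
    List.forall_mem_cons.2 ⟨rel_39,
    List.forall_mem_cons.2 ⟨rel_40,
    List.forall_mem_cons.2 ⟨rel_41,
    List.forall_mem_cons.2 ⟨rel_42,
    List.forall_mem_cons.2 ⟨rel_43,
    List.forall_mem_cons.2 ⟨rel_44,
    List.forall_mem_cons.2 ⟨rel_45,
    List.forall_mem_cons.2 ⟨rel_46,
    (fun _ hw => (List.not_mem_nil hw).elim)⟩⟩⟩⟩⟩⟩⟩⟩⟩⟩⟩⟩⟩⟩⟩⟩⟩⟩⟩⟩⟩⟩⟩⟩⟩⟩⟩⟩⟩⟩⟩⟩⟩⟩⟩⟩⟩⟩⟩⟩⟩⟩⟩⟩⟩⟩⟩

end

end Cfsg.Agent.Helper27.Fi22TC.F0
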