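import Cfsg.Agent.Lib.Helper27.Fi22.F0.EntP_a
import Cfsg.Agent.Lib.Helper27.Fi22.F0.EntP_b
import Cfsg.Agent.Lib.Helper27.Fi22.F0.EntP_c
import Cfsg.Agent.Lib.Helper27.Fi22.F0.EntP_d
import Cfsg.Agent.Lib.Helper27.Fi22.F0.EntP_e
import Cfsg.Agent.Lib.Helper27.Fi22.F0.EntP_f
import Cfsg.Agent.Lib.Helper27.Fi22.F0.EntP_g
import Cfsg.Agent.Lib.Helper27.Fi22.F0.EntP_h
import Cfsg.Agent.Lib.Helper27.Fi22.F0.EntP_i
import Cfsg.Agent.Lib.Helper27.Fi22.F0.RelAll

set_option autoImplicit false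
set_option maxRecDepth 100000
set_option Elab.async false
set_option linter.all false

namespace Cfsg.Agent.Helper27.Fi22TC.F0

open Cfsg.Agent.Helper28 Cfsg.Agent.Helper27.Fi22TC
open Cfsg.Spor.Fi22 (Gen)

noncomputable section

theorem ent_a : ∀ p, orB (D.isSeed Gen.a p) (chkEntry D.rels D.S D.fwd D.fwd D.o D.lvl D.plet D.idx D.beq leqG Gen.a (cert Gen.a p) p) = true :=
  D.allFR_cover _ 1024 14 (by decide) (fun i hi => by
    match i, hi with
    | 0, _ => exact ep_a_0
    | 1, _ => exact ep_a_1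
    | 2, _ => exact ep_a_2
    | 3, _ => exact ep_a_3
    | 4, _ => exact ep_a_4
    | 5, _ => exact ep_a_5
    | 6, _ => exact ep_a_6
    | 7, _ => exact ep_a_7
    | 8, _ => exact ep_a_8
    | 9, _ => exact ep_a_9
    | 10, _ => exact ep_a_10
    | 11, _ => exact ep_a_11
    | 12, _ => exact ep_a_12
    | 13, _ => exact ep_a_13
    | (k + 14), h => omega)
theorem ent_b : ∀ p, orB (D.isSeed Gen.b p) (chkEntry D.rels D.S D.fwd D.fwd D.o D.lvl D.plet D.idx D.beq leqG Gen.b (cert Gen.b p) p) = true :=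
  D.allFR_cover _ 1024 14 (by decide) (fun i hi => by
    match i, hi with
    | 0, _ => exact ep_b_0
    | 1, _ => exact ep_b_1
    | 2, _ => exact ep_b_2
    | 3, _ => exact ep_b_3
    | 4, _ => exact ep_b_4
    | 5, _ => exact ep_b_5
    | 6, _ => exact ep_b_6
    | 7, _ => exact ep_b_7
    | 8, _ => exact ep_b_8
    | 9, _ => exact ep_b_9
    | 10, _ => exact ep_b_10
    | 11, _ => exact ep_b_11
    | 12, _ => exact ep_b_12
    | 13, _ => exact ep_b_13
    | (k + 14), h => omega)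
theorem ent_c : ∀ p, orB (D.isSeed Gen.c p) (chkEntry D.rels D.S D.fwd D.fwd D.o D.lvl D.plet D.idx D.beq leqG Gen.c (cert Gen.c p) p) = true :=
  D.allFR_cover _ 1024 14 (by decide) (fun i hi => by
    match i, hi with
    | 0, _ => exact ep_c_0
    | 1, _ => exact ep_c_1
    | 2, _ => exact ep_c_2
    | 3, _ => exact ep_c_3
    | 4, _ => exact ep_c_4
    | 5, _ => exact ep_c_5
    | 6, _ => exact ep_c_6
    | 7, _ => exact ep_c_7
    | 8, _ => exact ep_c_8
    | 9, _ => exact ep_c_9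
    | 10, _ => exact ep_c_10
    | 11, _ => exact ep_c_11
    | 12, _ => exact ep_c_12
    | 13, _ => exact ep_c_13
    | (k + 14), h => omega)
theorem ent_d : ∀ p, orB (D.isSeed Gen.d p) (chkEntry D.rels D.S D.fwd D.fwd D.o D.lvl D.plet D.idx D.beq leqG Gen.d (cert Gen.d p) p) = true :=
  D.allFR_cover _ 1024 14 (by decide) (fun i hi => by
    match i, hi with
    | 0, _ => exact ep_d_0
    | 1, _ => exact ep_d_1
    | 2, _ => exact ep_d_2
    | 3, _ => exact ep_d_3
    | 4, _ => exact ep_d_4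
    | 5, _ => exact ep_d_5
    | 6, _ => exact ep_d_6
    | 7, _ => exact ep_d_7
    | 8, _ => exact ep_d_8
    | 9, _ => exact ep_d_9
    | 10, _ => exact ep_d_10
    | 11, _ => exact ep_d_11
    | 12, _ => exact ep_d_12
    | 13, _ => exact ep_d_13
    | (k + 14), h => omega)
theorem ent_e : ∀ p, orB (D.isSeed Gen.e p) (chkEntry D.rels D.S D.fwd D.fwd D.o D.lvl D.plet D.idx D.beq leqG Gen.e (cert Gen.e p) p) = true :=
  D.allFR_cover _ 1024 14 (by decide) (fun i hi => by
    match i, hi with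
    | 0, _ => exact ep_e_0
    | 1, _ => exact ep_e_1
    | 2, _ => exact ep_e_2
    | 3, _ => exact ep_e_3
    | 4, _ => exact ep_e_4
    | 5, _ => exact ep_e_5
    | 6, _ => exact ep_e_6
    | 7, _ => exact ep_e_7
    | 8, _ => exact ep_e_8
    | 9, _ => exact ep_e_9
    | 10, _ => exact ep_e_10
    | 11, _ => exact ep_e_11
    | 12, _ => exact ep_e_12
    | 13, _ => exact ep_e_13
    | (k + 14), h => omega)
theorem ent_f : ∀ p, orB (D.isSeed Gen.f p) (chkEntry D.rels D.S D.fwd D.fwd D.o D.lvl D.plet D.idx D.beq leqG Gen.f (cert Gen.f p) p) = true :=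
  D.allFR_cover _ 1024 14 (by decide) (fun i hi => by
    match i, hi with
    | 0, _ => exact ep_f_0
    | 1, _ => exact ep_f_1
    | 2, _ => exact ep_f_2
    | 3, _ => exact ep_f_3
    | 4, _ => exact ep_f_4
    | 5, _ => exact ep_f_5
    | 6, _ => exact ep_f_6
    | 7, _ => exact ep_f_7
    | 8, _ => exact ep_f_8
    | 9, _ => exact ep_f_9
    | 10, _ => exact ep_f_10
    | 11, _ => exact ep_f_11
    | 12, _ => exact ep_f_12
    | 13, _ => exact ep_f_13
    | (k + 14), h => omega)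
theorem ent_g : ∀ p, orB (D.isSeed Gen.g p) (chkEntry D.rels D.S D.fwd D.fwd D.o D.lvl D.plet D.idx D.beq leqG Gen.g (cert Gen.g p) p) = true :=
  D.allFR_cover _ 1024 14 (by decide) (fun i hi => by
    match i, hi with
    | 0, _ => exact ep_g_0
    | 1, _ => exact ep_g_1
    | 2, _ => exact ep_g_2
    | 3, _ => exact ep_g_3
    | 4, _ => exact ep_g_4
    | 5, _ => exact ep_g_5
    | 6, _ => exact ep_g_6
    | 7, _ => exact ep_g_7
    | 8, _ => exact ep_g_8
    | 9, _ => exact ep_g_9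
    | 10, _ => exact ep_g_10
    | 11, _ => exact ep_g_11
    | 12, _ => exact ep_g_12
    | 13, _ => exact ep_g_13
    | (k + 14), h => omega)
theorem ent_h : ∀ p, orB (D.isSeed Gen.h p) (chkEntry D.rels D.S D.fwd D.fwd D.o D.lvl D.plet D.idx D.beq leqG Gen.h (cert Gen.h p) p) = true :=
  D.allFR_cover _ 1024 14 (by decide) (fun i hi => by
    match i, hi with
    | 0, _ => exact ep_h_0
    | 1, _ => exact ep_h_1
    | 2, _ => exact ep_h_2
    | 3, _ => exact ep_h_3
    | 4, _ => exact ep_h_4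
    | 5, _ => exact ep_h_5
    | 6, _ => exact ep_h_6
    | 7, _ => exact ep_h_7
    | 8, _ => exact ep_h_8
    | 9, _ => exact ep_h_9
    | 10, _ => exact ep_h_10
    | 11, _ => exact ep_h_11
    | 12, _ => exact ep_h_12
    | 13, _ => exact ep_h_13
    | (k + 14), h => omega)
theorem ent_i : ∀ p, orB (D.isSeed Gen.i p) (chkEntry D.rels D.S D.fwd D.fwd D.o D.lvl D.plet D.idx D.beq leqG Gen.i (cert Gen.i p) p) = true :=
  D.allFR_cover _ 1024 14 (by decide) (fun i hi => by
    match i, hi with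
    | 0, _ => exact ep_i_0
    | 1, _ => exact ep_i_1
    | 2, _ => exact ep_i_2
    | 3, _ => exact ep_i_3
    | 4, _ => exact ep_i_4
    | 5, _ => exact ep_i_5
    | 6, _ => exact ep_i_6
    | 7, _ => exact ep_i_7
    | 8, _ => exact ep_i_8
    | 9, _ => exact ep_i_9
    | 10, _ => exact ep_i_10
    | 11, _ => exact ep_i_11
    | 12, _ => exact ep_i_12
    | 13, _ => exact ep_i_13
    | (k + 14), h => omega)

theorem ent_all : ∀ (x : Gen) (p : Fin D.n), orB (D.isSeed x p) (chkEntry D.rels D.S D.fwd D.fwd D.o D.lvl D.plet D.idx D.beq leqG x (cert x p) p) = true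
  | .a => ent_a | .b => ent_b | .c => ent_c | .d => ent_d | .e => ent_e
  | .f => ent_f | .g => ent_g | .h => ent_h | .i => ent_i

theorem index_eq : (subH D.rels D.S).index = 14080 :=
  D.index_eq_n' h1 h2 h3 h4 cert ent_all hseed

end

end Cfsg.Agent.Helper27.Fi22TC.F0
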