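import Cfsg.Agent.Lib.Helper27.Fi22.F0.Data

set_option autoImplicit false
set_option maxRecDepth 100000
set_option Elab.async false
set_option linter.all false

namespace Cfsg.Agent.Helper27.Fi22TC.F0

open Cfsg.Agent.Helper28 Cfsg.Agent.Helper27.Fi22TC
open Cfsg.Spor.Fi22 (Gen)

noncomputable section

theorem rp_0_0 : D.chkRelR R0 (0 * 14080) 14080 = true := by decide +kernel
theorem rp_1_0 : D.chkRelR R1 (0 * 14080) 14080 = true := by decide +kernel
theorem rp_2_0 : D.chkRelR R2 (0 * 14080) 14080 = true := by decide +kernel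
theorem rp_3_0 : D.chkRelR R3 (0 * 14080) 14080 = true := by decide +kernel
theorem rp_4_0 : D.chkRelR R4 (0 * 14080) 14080 = true := by decide +kernel
theorem rp_5_0 : D.chkRelR R5 (0 * 14080) 14080 = true := by decide +kernel
theorem rp_6_0 : D.chkRelR R6 (0 * 14080) 14080 = true := by decide +kernel
theorem rp_7_0 : D.chkRelR R7 (0 * 14080) 14080 = true := by decide +kernel
theorem rp_8_0 : D.chkRelR R8 (0 * 14080) 14080 = true := by decide +kernel
theorem rp_9_0 : D.chkRelR R9 (0 * 8333) 8333 = true := by decide +kernel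
theorem rp_9_1 : D.chkRelR R9 (1 * 8333) 8333 = true := by decide +kernel
theorem rp_10_0 : D.chkRelR R10 (0 * 12500) 12500 = true := by decide +kernel
theorem rp_10_1 : D.chkRelR R10 (1 * 12500) 12500 = true := by decide +kernel
theorem rp_11_0 : D.chkRelR R11 (0 * 12500) 12500 = true := by decide +kernel
theorem rp_11_1 : D.chkRelR R11 (1 * 12500) 12500 = true := by decide +kernel
theorem rp_12_0 : D.chkRelR R12 (0 * 12500) 12500 = true := by decide +kernel
theorem rp_12_1 : D.chkRelR R12 (1 * 12500) 12500 = true := by decide +kernel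

end

end Cfsg.Agent.Helper27.Fi22TC.F0
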