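import Cfsg.Agent.Lib.Helper27.Fi22.F0.Certs

set_option autoImplicit false
set_option maxRecDepth 100000
set_option linter.all false

namespace Cfsg.Agent.Helper27.Fi22TC.F0

open Cfsg.Agent.Helper28 Cfsg.Agent.Helper27.Fi22TC
open Cfsg.Spor.Fi22 (Gen)

noncomputable section

abbrev Q : Type := PresentedGroup D.rels ⧸ subH D.rels D.S
abbrev ed (y : Gen) (c : Q) : Q := lG D.rels (y, true) • c
def V_14080 : Q := ed Gen.c (D.P 103)
def V_14081 : Q := ed Gen.e (D.P 104)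
def V_14082 : Q := ed Gen.a V_14081
def V_14083 : Q := ed Gen.a (D.P 135)
def V_14084 : Q := ed Gen.b V_14080
def V_14085 : Q := ed Gen.e V_14084
def V_14086 : Q := ed Gen.f V_14084
def V_14087 : Q := ed Gen.e (D.P 103)
def V_14088 : Q := ed Gen.d V_14082
def V_14089 : Q := ed Gen.f V_14082
def V_14090 : Q := ed Gen.e V_14089
def V_14091 : Q := ed Gen.f V_14090
def V_14093 : Q := ed Gen.e (D.P 679)
def V_14094 : Q := ed Gen.h (D.P 1104)
def V_14095 : Q := ed Gen.a V_14094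
def V_14096 : Q := ed Gen.b V_14095
def V_14097 : Q := ed Gen.c V_14096
def V_14098 : Q := ed Gen.d V_14097
def V_14099 : Q := ed Gen.e V_14098
def V_14100 : Q := ed Gen.f V_14099
def V_14101 : Q := ed Gen.h V_14100
def V_14102 : Q := ed Gen.a V_14101
def V_14103 : Q := ed Gen.b V_14102
def V_14104 : Q := ed Gen.c V_14103
def V_14105 : Q := ed Gen.d V_14104
def V_14106 : Q := ed Gen.e V_14105
def V_14107 : Q := ed Gen.f V_14106
def V_14108 : Q := ed Gen.h V_14107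
def V_14109 : Q := ed Gen.a V_14108
def V_14110 : Q := ed Gen.b V_14109
def V_14111 : Q := ed Gen.c V_14110
def V_14112 : Q := ed Gen.d V_14111
def V_14113 : Q := ed Gen.e V_14112
def V_14114 : Q := ed Gen.f V_14113
def V_14115 : Q := ed Gen.h V_14114
def V_14116 : Q := ed Gen.a V_14115
def V_14117 : Q := ed Gen.b V_14116
def V_14118 : Q := ed Gen.c V_14117
def V_14119 : Q := ed Gen.f (D.P 683)
def V_14120 : Q := ed Gen.e V_14119
def V_14121 : Q := ed Gen.d V_14120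
def V_14122 : Q := ed Gen.c V_14121
def V_14123 : Q := ed Gen.b V_14122
def V_14124 : Q := ed Gen.a V_14123
def V_14125 : Q := ed Gen.h V_14124
def V_14126 : Q := ed Gen.e V_14125
def V_14127 : Q := ed Gen.d V_14126
def V_14128 : Q := ed Gen.c V_14127
def V_14129 : Q := ed Gen.b V_14128
def V_14130 : Q := ed Gen.a V_14129
def V_14131 : Q := ed Gen.h V_14130
def V_14132 : Q := ed Gen.f V_14131
def V_14133 : Q := ed Gen.e V_14132
def V_14134 : Q := ed Gen.d V_14133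
def V_14135 : Q := ed Gen.c V_14134
def V_14136 : Q := ed Gen.b V_14135
def V_14137 : Q := ed Gen.a V_14136
def V_14138 : Q := ed Gen.h V_14137
def V_14139 : Q := ed Gen.f V_14138
def V_14140 : Q := ed Gen.e V_14139
def V_14141 : Q := ed Gen.d V_14140
def V_14142 : Q := ed Gen.c V_14141
def V_14143 : Q := ed Gen.b V_14142
def V_14144 : Q := ed Gen.a V_14143
def V_14145 : Q := ed Gen.h V_14144
def V_14146 : Q := ed Gen.f V_14145
def V_14147 : Q := ed Gen.e V_14146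
def V_14148 : Q := ed Gen.d V_14147
def V_14149 : Q := ed Gen.c V_14148
def V_14150 : Q := ed Gen.b V_14149
def V_14151 : Q := ed Gen.a V_14150
def V_14152 : Q := ed Gen.h V_14151
def V_14153 : Q := ed Gen.f V_14152
def V_14154 : Q := ed Gen.e V_14153
def V_14155 : Q := ed Gen.d V_14154
def V_14156 : Q := ed Gen.c V_14155
def V_14157 : Q := ed Gen.b V_14156
def V_14158 : Q := ed Gen.a V_14157
def V_14159 : Q := ed Gen.h V_14158
def V_14160 : Q := ed Gen.f V_14159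
def V_14161 : Q := ed Gen.e V_14160
def V_14162 : Q := ed Gen.d V_14161
def V_14163 : Q := ed Gen.c V_14162
def V_14164 : Q := ed Gen.b V_14163
def V_14165 : Q := ed Gen.a V_14164
def V_14166 : Q := ed Gen.h V_14165
def V_14167 : Q := ed Gen.e V_14086
def V_14168 : Q := ed Gen.d V_14167
def V_14169 : Q := ed Gen.c V_14168
def V_14170 : Q := ed Gen.b V_14169
def V_14171 : Q := ed Gen.a V_14170
def V_14172 : Q := ed Gen.h V_14171
def V_14173 : Q := ed Gen.f V_14172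
def V_14174 : Q := ed Gen.e V_14173
def V_14175 : Q := ed Gen.d V_14174
def V_14176 : Q := ed Gen.c V_14175
def V_14177 : Q := ed Gen.b V_14176
def V_14178 : Q := ed Gen.a V_14177
def V_14179 : Q := ed Gen.h V_14178
def V_14180 : Q := ed Gen.e V_14179
def V_14181 : Q := ed Gen.d V_14180
def V_14182 : Q := ed Gen.c V_14181
def V_14183 : Q := ed Gen.b V_14182
def V_14184 : Q := ed Gen.a V_14183
def V_14185 : Q := ed Gen.h V_14184
def V_14186 : Q := ed Gen.f V_14185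
def V_14187 : Q := ed Gen.e V_14186
def V_14188 : Q := ed Gen.d V_14187
def V_14189 : Q := ed Gen.c V_14188
def V_14190 : Q := ed Gen.b V_14189
def V_14191 : Q := ed Gen.a V_14190
def V_14192 : Q := ed Gen.h V_14191
def V_14193 : Q := ed Gen.e V_14192
def V_14194 : Q := ed Gen.d V_14193
def V_14195 : Q := ed Gen.h (D.P 1411)
def V_14196 : Q := ed Gen.e (D.P 3265)
def V_14197 : Q := ed Gen.d V_14196
def V_14198 : Q := ed Gen.c V_14197
def V_14199 : Q := ed Gen.b V_14198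
def V_14200 : Q := ed Gen.a V_14199
def V_14201 : Q := ed Gen.h V_14200
def V_14202 : Q := ed Gen.e V_14201
def V_14203 : Q := ed Gen.d V_14202
def V_14204 : Q := ed Gen.c V_14203
def V_14205 : Q := ed Gen.b V_14204
def V_14206 : Q := ed Gen.a V_14205
def V_14207 : Q := ed Gen.h V_14206
def V_14208 : Q := ed Gen.f V_14207
def V_14209 : Q := ed Gen.e V_14208
def V_14210 : Q := ed Gen.d V_14209
def V_14211 : Q := ed Gen.c V_14210
def V_14212 : Q := ed Gen.b V_14211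
def V_14213 : Q := ed Gen.a V_14212
def V_14214 : Q := ed Gen.h V_14213
def V_14215 : Q := ed Gen.f V_14214
def V_14216 : Q := ed Gen.e V_14215
def V_14217 : Q := ed Gen.d V_14216
def V_14218 : Q := ed Gen.c V_14217
def V_14219 : Q := ed Gen.b V_14218
def V_14220 : Q := ed Gen.a V_14219
def V_14221 : Q := ed Gen.h V_14220
def V_14222 : Q := ed Gen.f V_14221
def V_14223 : Q := ed Gen.e V_14222
def V_14224 : Q := ed Gen.d V_14223
def V_14225 : Q := ed Gen.c V_14224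
def V_14226 : Q := ed Gen.b V_14225
def V_14227 : Q := ed Gen.b V_14088
def V_14228 : Q := ed Gen.h V_14227
def V_14229 : Q := ed Gen.f V_14228
def V_14230 : Q := ed Gen.e V_14229
def V_14231 : Q := ed Gen.d V_14230
def V_14232 : Q := ed Gen.c V_14231
def V_14233 : Q := ed Gen.b V_14232
def V_14234 : Q := ed Gen.a V_14233
def V_14235 : Q := ed Gen.h V_14234
def V_14236 : Q := ed Gen.d V_14235
def V_14237 : Q := ed Gen.c V_14236
def V_14238 : Q := ed Gen.b V_14237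
def V_14239 : Q := ed Gen.a V_14238
def V_14240 : Q := ed Gen.h V_14239
def V_14241 : Q := ed Gen.e V_14240
def V_14242 : Q := ed Gen.d V_14241
def V_14243 : Q := ed Gen.c V_14242
def V_14244 : Q := ed Gen.b V_14243
def V_14245 : Q := ed Gen.a V_14244
def V_14246 : Q := ed Gen.h V_14245
def V_14247 : Q := ed Gen.f V_14246
def V_14248 : Q := ed Gen.e V_14247
def V_14249 : Q := ed Gen.d V_14248
def V_14250 : Q := ed Gen.c V_14249
def V_14251 : Q := ed Gen.b V_14250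
def V_14252 : Q := ed Gen.a V_14251
def V_14253 : Q := ed Gen.h V_14252
def V_14254 : Q := ed Gen.f V_14253
def V_14255 : Q := ed Gen.e V_14254
def V_14256 : Q := ed Gen.f (D.P 513)
def V_14257 : Q := ed Gen.e V_14256
def V_14258 : Q := ed Gen.b V_14257
def V_14259 : Q := ed Gen.c V_14258
def V_14260 : Q := ed Gen.d V_14259
def V_14261 : Q := ed Gen.h (D.P 1756)
def V_14262 : Q := ed Gen.d V_14261
def V_14263 : Q := ed Gen.f V_14262
def V_14264 : Q := ed Gen.e V_14263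
def V_14265 : Q := ed Gen.d V_14264
def V_14266 : Q := ed Gen.c V_14265
def V_14267 : Q := ed Gen.d V_14266
def V_14268 : Q := ed Gen.i V_14267
def V_14269 : Q := ed Gen.h V_14268
def V_14270 : Q := ed Gen.d V_14269
def V_14271 : Q := ed Gen.f V_14270
def V_14272 : Q := ed Gen.e V_14271
def V_14273 : Q := ed Gen.d V_14272
def V_14274 : Q := ed Gen.b V_14273
def V_14275 : Q := ed Gen.c V_14274
def V_14276 : Q := ed Gen.d V_14275
def V_14277 : Q := ed Gen.i V_14276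
def V_14278 : Q := ed Gen.h V_14277
def V_14279 : Q := ed Gen.d V_14278
def V_14280 : Q := ed Gen.f V_14279
def V_14281 : Q := ed Gen.e V_14280
def V_14282 : Q := ed Gen.d V_14281
def V_14283 : Q := ed Gen.b V_14282
def V_14284 : Q := ed Gen.c V_14283
def V_14285 : Q := ed Gen.d V_14284
def V_14286 : Q := ed Gen.i V_14285
def V_14287 : Q := ed Gen.h V_14286
def V_14288 : Q := ed Gen.d V_14287
def V_14289 : Q := ed Gen.f V_14288
def V_14290 : Q := ed Gen.e V_14289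
def V_14291 : Q := ed Gen.d V_14290
def V_14292 : Q := ed Gen.b V_14291
def V_14293 : Q := ed Gen.c V_14292
def V_14294 : Q := ed Gen.d V_14293
def V_14295 : Q := ed Gen.i V_14294
def V_14296 : Q := ed Gen.h V_14295
def V_14297 : Q := ed Gen.d V_14296
def V_14298 : Q := ed Gen.f V_14297
def V_14299 : Q := ed Gen.e V_14298
def V_14300 : Q := ed Gen.d V_14299
def V_14301 : Q := ed Gen.b V_14300
def V_14302 : Q := ed Gen.c V_14301
def V_14303 : Q := ed Gen.d V_14302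
def V_14304 : Q := ed Gen.i V_14303
def V_14305 : Q := ed Gen.h V_14304
def V_14306 : Q := ed Gen.d V_14305
def V_14307 : Q := ed Gen.f V_14306
def V_14308 : Q := ed Gen.e V_14307
def V_14309 : Q := ed Gen.d V_14308
def V_14310 : Q := ed Gen.b V_14309
def V_14311 : Q := ed Gen.c V_14310
def V_14312 : Q := ed Gen.d V_14311
def V_14313 : Q := ed Gen.i V_14312
def V_14314 : Q := ed Gen.h V_14313
def V_14315 : Q := ed Gen.d V_14314
def V_14316 : Q := ed Gen.f V_14315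
def V_14317 : Q := ed Gen.e V_14316
def V_14318 : Q := ed Gen.d V_14317
def V_14319 : Q := ed Gen.b V_14318
def V_14320 : Q := ed Gen.c V_14319
def V_14321 : Q := ed Gen.d V_14320
def V_14322 : Q := ed Gen.i V_14321
def V_14323 : Q := ed Gen.h V_14322
def V_14324 : Q := ed Gen.d V_14164
def V_14325 : Q := ed Gen.c V_14317
def V_14326 : Q := ed Gen.d V_14325
def V_14327 : Q := ed Gen.e V_14326
def V_14328 : Q := ed Gen.f V_14327
def V_14329 : Q := ed Gen.d V_14328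
def V_14330 : Q := ed Gen.h V_14329
def V_14331 : Q := ed Gen.i V_14330
def V_14332 : Q := ed Gen.d V_14331
def V_14333 : Q := ed Gen.c V_14332
def V_14334 : Q := ed Gen.b V_14333
def V_14335 : Q := ed Gen.d V_14334
def V_14336 : Q := ed Gen.e V_14335
def V_14337 : Q := ed Gen.f V_14336
def V_14338 : Q := ed Gen.d V_14337
def V_14339 : Q := ed Gen.h V_14338
def V_14340 : Q := ed Gen.i V_14339
def V_14341 : Q := ed Gen.d V_14340
def V_14342 : Q := ed Gen.c V_14341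
def V_14343 : Q := ed Gen.b V_14342
def V_14344 : Q := ed Gen.d V_14343
def V_14345 : Q := ed Gen.e V_14344
def V_14346 : Q := ed Gen.f V_14345
def V_14347 : Q := ed Gen.d V_14346
def V_14348 : Q := ed Gen.h V_14347
def V_14349 : Q := ed Gen.i V_14348
def V_14350 : Q := ed Gen.d V_14349
def V_14351 : Q := ed Gen.c V_14350
def V_14352 : Q := ed Gen.b V_14351
def V_14353 : Q := ed Gen.d V_14352
def V_14354 : Q := ed Gen.e V_14353
def V_14355 : Q := ed Gen.f V_14354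
def V_14356 : Q := ed Gen.d V_14355
def V_14357 : Q := ed Gen.h V_14356
def V_14358 : Q := ed Gen.i V_14357
def V_14415 : Q := ed Gen.c V_14227
def V_14416 : Q := ed Gen.h V_14415
def V_14417 : Q := ed Gen.d V_14416
def V_14418 : Q := ed Gen.f V_14417
def V_14419 : Q := ed Gen.e V_14418
def V_14420 : Q := ed Gen.d V_14419
def V_14421 : Q := ed Gen.c V_14420
def V_14422 : Q := ed Gen.i V_14421
def V_14423 : Q := ed Gen.h V_14422
def V_14424 : Q := ed Gen.d V_14423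
def V_14425 : Q := ed Gen.f V_14424
def V_14426 : Q := ed Gen.e V_14425
def V_14427 : Q := ed Gen.d V_14426
def V_14428 : Q := ed Gen.b V_14427
def V_14429 : Q := ed Gen.c V_14428
def V_14430 : Q := ed Gen.d V_14429
def V_14431 : Q := ed Gen.i V_14430
def V_14432 : Q := ed Gen.h V_14431
def V_14433 : Q := ed Gen.d V_14432
def V_14434 : Q := ed Gen.f V_14433
def V_14435 : Q := ed Gen.e V_14434
def V_14436 : Q := ed Gen.d V_14435
def V_14437 : Q := ed Gen.b V_14436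
def V_14438 : Q := ed Gen.c V_14437
def V_14439 : Q := ed Gen.d V_14438
def V_14440 : Q := ed Gen.i V_14439
def V_14441 : Q := ed Gen.h V_14440
def V_14442 : Q := ed Gen.d V_14441
def V_14443 : Q := ed Gen.f V_14442
def V_14444 : Q := ed Gen.e V_14443
def V_14445 : Q := ed Gen.d V_14444
def V_14446 : Q := ed Gen.b V_14445
def V_14447 : Q := ed Gen.c V_14446
def V_14448 : Q := ed Gen.d V_14447
def V_14449 : Q := ed Gen.i V_14448
def V_14450 : Q := ed Gen.h V_14449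
def V_14451 : Q := ed Gen.d V_14450
def V_14452 : Q := ed Gen.f V_14451
def V_14453 : Q := ed Gen.e V_14452
def V_14454 : Q := ed Gen.d V_14453
def V_14455 : Q := ed Gen.b V_14454
def V_14456 : Q := ed Gen.c V_14455
def V_14457 : Q := ed Gen.d V_14456
def V_14458 : Q := ed Gen.i V_14457
def V_14459 : Q := ed Gen.h V_14458
def V_14460 : Q := ed Gen.d V_14459
def V_14461 : Q := ed Gen.f V_14357
def V_14463 : Q := ed Gen.e V_14322
def V_14464 : Q := ed Gen.h V_14463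
def V_14465 : Q := ed Gen.a V_14464
def V_14466 : Q := ed Gen.a (D.P 316)
def V_14548 : Q := ed Gen.d V_14463
def V_14549 : Q := ed Gen.c V_14548
def V_14550 : Q := ed Gen.b V_14549
def V_14551 : Q := ed Gen.a V_14550
def V_14569 : Q := ed Gen.h (D.P 854)
def V_14570 : Q := ed Gen.f V_14569
def V_14571 : Q := ed Gen.e V_14570
def V_14572 : Q := ed Gen.d V_14571
def V_14573 : Q := ed Gen.c V_14572
def V_14574 : Q := ed Gen.b V_14573
def V_14575 : Q := ed Gen.a V_14574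
def V_14576 : Q := ed Gen.h V_14575
def V_14577 : Q := ed Gen.f V_14576
def V_14578 : Q := ed Gen.e V_14577
def V_14579 : Q := ed Gen.d V_14578
def V_14580 : Q := ed Gen.c V_14579
def V_14581 : Q := ed Gen.b V_14580
def V_14582 : Q := ed Gen.a V_14581
def V_14583 : Q := ed Gen.h V_14582
def V_14584 : Q := ed Gen.f V_14583
def V_14585 : Q := ed Gen.e V_14584
def V_14586 : Q := ed Gen.d V_14585
def V_14587 : Q := ed Gen.c V_14586
def V_14588 : Q := ed Gen.b V_14587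
def V_14589 : Q := ed Gen.a V_14588
def V_14590 : Q := ed Gen.h V_14589
def V_14591 : Q := ed Gen.f V_14590
def V_14592 : Q := ed Gen.e V_14591
def V_14593 : Q := ed Gen.d V_14592
def V_14594 : Q := ed Gen.c V_14593
def V_14595 : Q := ed Gen.b V_14594
def V_14596 : Q := ed Gen.a V_14595
def V_14597 : Q := ed Gen.h V_14596
def V_14598 : Q := ed Gen.f V_14597
def V_14689 : Q := ed Gen.i V_14355
def V_14690 : Q := ed Gen.f V_14689
def V_14744 : Q := ed Gen.c (D.P 1431)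
def V_14745 : Q := ed Gen.d V_14744
def V_14746 : Q := ed Gen.h V_14745
def V_14747 : Q := ed Gen.e V_14746
def V_14748 : Q := ed Gen.d V_14747
def V_14749 : Q := ed Gen.b V_14748
def V_14750 : Q := ed Gen.c V_14749
def V_14751 : Q := ed Gen.d V_14750
def V_14752 : Q := ed Gen.i V_14751
def V_14753 : Q := ed Gen.h V_14752
def V_14754 : Q := ed Gen.d V_14753
def V_14755 : Q := ed Gen.f V_14754
def V_14756 : Q := ed Gen.e V_14755
def V_14757 : Q := ed Gen.d V_14756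
def V_14758 : Q := ed Gen.b V_14757
def V_14759 : Q := ed Gen.c V_14758
def V_14760 : Q := ed Gen.d V_14759
def V_14761 : Q := ed Gen.i V_14760
def V_14762 : Q := ed Gen.h V_14761
def V_14763 : Q := ed Gen.d V_14762
def V_14764 : Q := ed Gen.f V_14763
def V_14765 : Q := ed Gen.e V_14764
def V_14766 : Q := ed Gen.d V_14765
def V_14767 : Q := ed Gen.b V_14766
def V_14768 : Q := ed Gen.c V_14767
def V_14769 : Q := ed Gen.d V_14768
def V_14770 : Q := ed Gen.i V_14769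
def V_14771 : Q := ed Gen.h V_14770
def V_14772 : Q := ed Gen.d V_14771
def V_14773 : Q := ed Gen.f V_14772
def V_14774 : Q := ed Gen.e V_14773
def V_14775 : Q := ed Gen.d V_14774
def V_14776 : Q := ed Gen.b V_14775
def V_14777 : Q := ed Gen.c V_14776
def V_14778 : Q := ed Gen.d V_14777
def V_14779 : Q := ed Gen.i V_14778
def V_14780 : Q := ed Gen.h V_14779
def V_14781 : Q := ed Gen.d V_14780
def V_14782 : Q := ed Gen.f V_14781
def V_14829 : Q := ed Gen.i V_14549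
def V_14830 : Q := ed Gen.h V_14829
def V_14831 : Q := ed Gen.d V_14830
def V_14832 : Q := ed Gen.e V_14831
theorem F_0 (IH : D.IHyp) : ed Gen.c (D.P 103) = V_14080 :=
  rfl
theorem F_1 (IH : D.IHyp) : ed Gen.c V_14080 = (D.P 103) :=
  flipE D.rels D.S (hinv Gen.c) (F_0 IH)
theorem F_2 (IH : D.IHyp) : ed Gen.a (D.P 103) = (D.P 74) :=
  D.real_edge' IH Gen.a 103 74 (by decide +kernel)
theorem F_3 (IH : D.IHyp) : ed Gen.c (D.P 74) = (D.P 104) :=
  D.real_edge' IH Gen.c 74 104 (by decide +kernel)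
theorem F_4 (IH : D.IHyp) : ed Gen.c (D.P 104) = (D.P 74) :=
  D.real_edge' IH Gen.c 104 74 (by decide +kernel)
theorem F_5 (IH : D.IHyp) : ed Gen.a (D.P 74) = (D.P 103) :=
  D.real_edge' IH Gen.a 74 103 (by decide +kernel)
theorem F_6 (IH : D.IHyp) : ed Gen.a V_14080 = (D.P 104) :=
  gap_rel RW_0 (path_edge (F_0 IH) (path_edge (F_5 IH) (path_edge (F_4 IH) (path_nil _))))
theorem F_7 (IH : D.IHyp) : ed Gen.a (D.P 104) = V_14080 :=
  flipE D.rels D.S (hinv Gen.a) (F_6 IH)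
theorem F_8 (IH : D.IHyp) : ed Gen.d (D.P 104) = (D.P 104) :=
  D.real_edge' IH Gen.d 104 104 (by decide +kernel)
theorem F_9 (IH : D.IHyp) : ed Gen.d V_14080 = V_14080 :=
  gap_rel RW_1 (path_edge (F_7 IH) (path_edge (F_8 IH) (path_edge (F_6 IH) (path_nil _))))
theorem F_10 (IH : D.IHyp) : ed Gen.f (D.P 104) = (D.P 135) :=
  D.real_edge' IH Gen.f 104 135 (by decide +kernel)
theorem F_13 (IH : D.IHyp) : ed Gen.h (D.P 104) = (D.P 104) :=
  D.real_edge' IH Gen.h 104 104 (by decide +kernel)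
theorem F_14 (IH : D.IHyp) : ed Gen.h V_14080 = V_14080 :=
  gap_rel RW_2 (path_edge (F_7 IH) (path_edge (F_13 IH) (path_edge (F_6 IH) (path_nil _))))
theorem F_15 (IH : D.IHyp) : ed Gen.i (D.P 104) = (D.P 104) :=
  D.real_edge' IH Gen.i 104 104 (by decide +kernel)
theorem F_16 (IH : D.IHyp) : ed Gen.i V_14080 = V_14080 :=
  gap_rel RW_3 (path_edge (F_7 IH) (path_edge (F_15 IH) (path_edge (F_6 IH) (path_nil _))))
theorem F_21 (IH : D.IHyp) : ed Gen.b (D.P 104) = (D.P 104) :=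
  D.real_edge' IH Gen.b 104 104 (by decide +kernel)
theorem F_22 (IH : D.IHyp) : ed Gen.b (D.P 103) = (D.P 103) :=
  D.real_edge' IH Gen.b 103 103 (by decide +kernel)
theorem F_23 (IH : D.IHyp) : ed Gen.d (D.P 103) = (D.P 73) :=
  D.real_edge' IH Gen.d 103 73 (by decide +kernel)
theorem F_25 (IH : D.IHyp) : ed Gen.d (D.P 73) = (D.P 103) :=
  D.real_edge' IH Gen.d 73 103 (by decide +kernel)
theorem F_27 (IH : D.IHyp) : ed Gen.e (D.P 52) = (D.P 52) :=
  D.real_edge' IH Gen.e 52 52 (by decide +kernel)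
theorem F_30 (IH : D.IHyp) : ed Gen.a (D.P 46) = (D.P 64) :=
  D.real_edge' IH Gen.a 46 64 (by decide +kernel)
theorem F_31 (IH : D.IHyp) : ed Gen.b (D.P 64) = (D.P 64) :=
  D.real_edge' IH Gen.b 64 64 (by decide +kernel)
theorem F_32 (IH : D.IHyp) : ed Gen.c (D.P 64) = (D.P 64) :=
  D.real_edge' IH Gen.c 64 64 (by decide +kernel)
theorem F_33 (IH : D.IHyp) : ed Gen.d (D.P 64) = (D.P 64) :=
  D.real_edge' IH Gen.d 64 64 (by decide +kernel)
theorem F_34 (IH : D.IHyp) : ed Gen.e (D.P 64) = (D.P 91) :=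
  D.real_edge' IH Gen.e 64 91 (by decide +kernel)
theorem F_35 (IH : D.IHyp) : ed Gen.f (D.P 91) = (D.P 91) :=
  D.real_edge' IH Gen.f 91 91 (by decide +kernel)
theorem F_41 (IH : D.IHyp) : ed Gen.e (D.P 72) = (D.P 72) :=
  D.real_edge' IH Gen.e 72 72 (by decide +kernel)
theorem F_42 (IH : D.IHyp) : ed Gen.f (D.P 72) = (D.P 72) :=
  D.real_edge' IH Gen.f 72 72 (by decide +kernel)
theorem F_43 (IH : D.IHyp) : ed Gen.h (D.P 72) = (D.P 72) :=
  D.real_edge' IH Gen.h 72 72 (by decide +kernel)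
theorem F_44 (IH : D.IHyp) : ed Gen.a (D.P 72) = (D.P 72) :=
  D.real_edge' IH Gen.a 72 72 (by decide +kernel)
theorem F_45 (IH : D.IHyp) : ed Gen.b (D.P 72) = (D.P 72) :=
  D.real_edge' IH Gen.b 72 72 (by decide +kernel)
theorem F_50 (IH : D.IHyp) : ed Gen.h (D.P 249) = (D.P 323) :=
  D.real_edge' IH Gen.h 249 323 (by decide +kernel)
theorem F_51 (IH : D.IHyp) : ed Gen.a (D.P 323) = (D.P 323) :=
  D.real_edge' IH Gen.a 323 323 (by decide +kernel)
theorem F_58 (IH : D.IHyp) : ed Gen.b (D.P 313) = (D.P 408) :=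
  D.real_edge' IH Gen.b 313 408 (by decide +kernel)
theorem F_59 (IH : D.IHyp) : ed Gen.a (D.P 408) = (D.P 530) :=
  D.real_edge' IH Gen.a 408 530 (by decide +kernel)
theorem F_61 (IH : D.IHyp) : ed Gen.e (D.P 73) = (D.P 73) :=
  D.real_edge' IH Gen.e 73 73 (by decide +kernel)
theorem F_64 (IH : D.IHyp) : ed Gen.a (D.P 64) = (D.P 46) :=
  D.real_edge' IH Gen.a 64 46 (by decide +kernel)
theorem F_68 (IH : D.IHyp) : ed Gen.e (D.P 16) = (D.P 16) :=
  D.real_edge' IH Gen.e 16 16 (by decide +kernel)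
theorem F_70 (IH : D.IHyp) : ed Gen.h (D.P 13) = (D.P 13) :=
  D.real_edge' IH Gen.h 13 13 (by decide +kernel)
theorem F_71 (IH : D.IHyp) : ed Gen.a (D.P 13) = (D.P 13) :=
  D.real_edge' IH Gen.a 13 13 (by decide +kernel)
theorem F_72 (IH : D.IHyp) : ed Gen.b (D.P 13) = (D.P 13) :=
  D.real_edge' IH Gen.b 13 13 (by decide +kernel)
theorem F_73 (IH : D.IHyp) : ed Gen.c (D.P 13) = (D.P 13) :=
  D.real_edge' IH Gen.c 13 13 (by decide +kernel)
theorem F_74 (IH : D.IHyp) : ed Gen.d (D.P 13) = (D.P 18) :=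
  D.real_edge' IH Gen.d 13 18 (by decide +kernel)
theorem F_75 (IH : D.IHyp) : ed Gen.e (D.P 18) = (D.P 18) :=
  D.real_edge' IH Gen.e 18 18 (by decide +kernel)
theorem F_78 (IH : D.IHyp) : ed Gen.a (D.P 34) = (D.P 34) :=
  D.real_edge' IH Gen.a 34 34 (by decide +kernel)
theorem F_79 (IH : D.IHyp) : ed Gen.b (D.P 34) = (D.P 34) :=
  D.real_edge' IH Gen.b 34 34 (by decide +kernel)
theorem F_81 (IH : D.IHyp) : ed Gen.d (D.P 49) = (D.P 71) :=
  D.real_edge' IH Gen.d 49 71 (by decide +kernel)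
theorem F_82 (IH : D.IHyp) : ed Gen.e (D.P 71) = (D.P 101) :=
  D.real_edge' IH Gen.e 71 101 (by decide +kernel)
theorem F_84 (IH : D.IHyp) : ed Gen.h (D.P 141) = (D.P 141) :=
  D.real_edge' IH Gen.h 141 141 (by decide +kernel)
theorem F_85 (IH : D.IHyp) : ed Gen.a (D.P 141) = (D.P 141) :=
  D.real_edge' IH Gen.a 141 141 (by decide +kernel)
theorem F_87 (IH : D.IHyp) : ed Gen.h (D.P 74) = (D.P 74) :=
  D.real_edge' IH Gen.h 74 74 (by decide +kernel)
theorem F_88 (IH : D.IHyp) : ed Gen.f (D.P 74) = (D.P 97) :=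
  D.real_edge' IH Gen.f 74 97 (by decide +kernel)
theorem F_89 (IH : D.IHyp) : ed Gen.e (D.P 97) = (D.P 136) :=
  D.real_edge' IH Gen.e 97 136 (by decide +kernel)
theorem F_90 (IH : D.IHyp) : ed Gen.d (D.P 136) = (D.P 181) :=
  D.real_edge' IH Gen.d 136 181 (by decide +kernel)
theorem F_91 (IH : D.IHyp) : ed Gen.c (D.P 181) = (D.P 238) :=
  D.real_edge' IH Gen.c 181 238 (by decide +kernel)
theorem F_92 (IH : D.IHyp) : ed Gen.b (D.P 238) = (D.P 312) :=
  D.real_edge' IH Gen.b 238 312 (by decide +kernel)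
theorem F_93 (IH : D.IHyp) : ed Gen.a (D.P 312) = (D.P 407) :=
  D.real_edge' IH Gen.a 312 407 (by decide +kernel)
theorem F_94 (IH : D.IHyp) : ed Gen.h (D.P 407) = (D.P 524) :=
  D.real_edge' IH Gen.h 407 524 (by decide +kernel)
theorem F_95 (IH : D.IHyp) : ed Gen.f (D.P 524) = (D.P 677) :=
  D.real_edge' IH Gen.f 524 677 (by decide +kernel)
theorem F_96 (IH : D.IHyp) : ed Gen.e (D.P 677) = (D.P 677) :=
  D.real_edge' IH Gen.e 677 677 (by decide +kernel)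
theorem F_97 (IH : D.IHyp) : ed Gen.d (D.P 677) = (D.P 870) :=
  D.real_edge' IH Gen.d 677 870 (by decide +kernel)
theorem F_98 (IH : D.IHyp) : ed Gen.c (D.P 870) = (D.P 1114) :=
  D.real_edge' IH Gen.c 870 1114 (by decide +kernel)
theorem F_99 (IH : D.IHyp) : ed Gen.b (D.P 1114) = (D.P 1411) :=
  D.real_edge' IH Gen.b 1114 1411 (by decide +kernel)
theorem F_100 (IH : D.IHyp) : ed Gen.a (D.P 1411) = (D.P 1411) :=
  D.real_edge' IH Gen.a 1411 1411 (by decide +kernel)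
theorem F_101 (IH : D.IHyp) : ed Gen.i (D.P 73) = (D.P 73) :=
  D.real_edge' IH Gen.i 73 73 (by decide +kernel)
theorem F_102 (IH : D.IHyp) : ed Gen.h (D.P 73) = (D.P 51) :=
  D.real_edge' IH Gen.h 73 51 (by decide +kernel)
theorem F_103 (IH : D.IHyp) : ed Gen.d (D.P 51) = (D.P 51) :=
  D.real_edge' IH Gen.d 51 51 (by decide +kernel)
theorem F_104 (IH : D.IHyp) : ed Gen.f (D.P 51) = (D.P 64) :=
  D.real_edge' IH Gen.f 51 64 (by decide +kernel)
theorem F_105 (IH : D.IHyp) : ed Gen.d (D.P 91) = (D.P 128) :=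
  D.real_edge' IH Gen.d 91 128 (by decide +kernel)
theorem F_106 (IH : D.IHyp) : ed Gen.b (D.P 128) = (D.P 128) :=
  D.real_edge' IH Gen.b 128 128 (by decide +kernel)
theorem F_107 (IH : D.IHyp) : ed Gen.c (D.P 128) = (D.P 132) :=
  D.real_edge' IH Gen.c 128 132 (by decide +kernel)
theorem F_108 (IH : D.IHyp) : ed Gen.d (D.P 132) = (D.P 132) :=
  D.real_edge' IH Gen.d 132 132 (by decide +kernel)
theorem F_109 (IH : D.IHyp) : ed Gen.i (D.P 132) = (D.P 94) :=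
  D.real_edge' IH Gen.i 132 94 (by decide +kernel)
theorem F_110 (IH : D.IHyp) : ed Gen.h (D.P 94) = (D.P 65) :=
  D.real_edge' IH Gen.h 94 65 (by decide +kernel)
theorem F_111 (IH : D.IHyp) : ed Gen.d (D.P 65) = (D.P 45) :=
  D.real_edge' IH Gen.d 65 45 (by decide +kernel)
theorem F_112 (IH : D.IHyp) : ed Gen.f (D.P 45) = (D.P 45) :=
  D.real_edge' IH Gen.f 45 45 (by decide +kernel)
theorem F_113 (IH : D.IHyp) : ed Gen.e (D.P 45) = (D.P 30) :=
  D.real_edge' IH Gen.e 45 30 (by decide +kernel)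
theorem F_114 (IH : D.IHyp) : ed Gen.d (D.P 30) = (D.P 30) :=
  D.real_edge' IH Gen.d 30 30 (by decide +kernel)
theorem F_115 (IH : D.IHyp) : ed Gen.b (D.P 30) = (D.P 21) :=
  D.real_edge' IH Gen.b 30 21 (by decide +kernel)
theorem F_116 (IH : D.IHyp) : ed Gen.c (D.P 21) = (D.P 15) :=
  D.real_edge' IH Gen.c 21 15 (by decide +kernel)
theorem F_117 (IH : D.IHyp) : ed Gen.d (D.P 15) = (D.P 11) :=
  D.real_edge' IH Gen.d 15 11 (by decide +kernel)
theorem F_118 (IH : D.IHyp) : ed Gen.i (D.P 11) = (D.P 16) :=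
  D.real_edge' IH Gen.i 11 16 (by decide +kernel)
theorem F_119 (IH : D.IHyp) : ed Gen.h (D.P 16) = (D.P 16) :=
  D.real_edge' IH Gen.h 16 16 (by decide +kernel)
theorem F_120 (IH : D.IHyp) : ed Gen.d (D.P 16) = (D.P 23) :=
  D.real_edge' IH Gen.d 16 23 (by decide +kernel)
theorem F_121 (IH : D.IHyp) : ed Gen.f (D.P 23) = (D.P 18) :=
  D.real_edge' IH Gen.f 23 18 (by decide +kernel)
theorem F_122 (IH : D.IHyp) : ed Gen.d (D.P 18) = (D.P 13) :=
  D.real_edge' IH Gen.d 18 13 (by decide +kernel)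
theorem F_123 (IH : D.IHyp) : ed Gen.i (D.P 18) = (D.P 12) :=
  D.real_edge' IH Gen.i 18 12 (by decide +kernel)
theorem F_124 (IH : D.IHyp) : ed Gen.h (D.P 12) = (D.P 12) :=
  D.real_edge' IH Gen.h 12 12 (by decide +kernel)
theorem F_125 (IH : D.IHyp) : ed Gen.d (D.P 12) = (D.P 8) :=
  D.real_edge' IH Gen.d 12 8 (by decide +kernel)
theorem F_126 (IH : D.IHyp) : ed Gen.f (D.P 8) = (D.P 11) :=
  D.real_edge' IH Gen.f 8 11 (by decide +kernel)
theorem F_127 (IH : D.IHyp) : ed Gen.e (D.P 11) = (D.P 11) :=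
  D.real_edge' IH Gen.e 11 11 (by decide +kernel)
theorem F_128 (IH : D.IHyp) : ed Gen.d (D.P 11) = (D.P 15) :=
  D.real_edge' IH Gen.d 11 15 (by decide +kernel)
theorem F_129 (IH : D.IHyp) : ed Gen.b (D.P 15) = (D.P 15) :=
  D.real_edge' IH Gen.b 15 15 (by decide +kernel)
theorem F_130 (IH : D.IHyp) : ed Gen.c (D.P 15) = (D.P 21) :=
  D.real_edge' IH Gen.c 15 21 (by decide +kernel)
theorem F_131 (IH : D.IHyp) : ed Gen.d (D.P 21) = (D.P 21) :=
  D.real_edge' IH Gen.d 21 21 (by decide +kernel)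
theorem F_132 (IH : D.IHyp) : ed Gen.i (D.P 21) = (D.P 32) :=
  D.real_edge' IH Gen.i 21 32 (by decide +kernel)
theorem F_133 (IH : D.IHyp) : ed Gen.h (D.P 32) = (D.P 49) :=
  D.real_edge' IH Gen.h 32 49 (by decide +kernel)
theorem F_134 (IH : D.IHyp) : ed Gen.f (D.P 71) = (D.P 53) :=
  D.real_edge' IH Gen.f 71 53 (by decide +kernel)
theorem F_135 (IH : D.IHyp) : ed Gen.e (D.P 53) = (D.P 75) :=
  D.real_edge' IH Gen.e 53 75 (by decide +kernel)
theorem F_136 (IH : D.IHyp) : ed Gen.d (D.P 75) = (D.P 75) :=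
  D.real_edge' IH Gen.d 75 75 (by decide +kernel)
theorem F_137 (IH : D.IHyp) : ed Gen.b (D.P 75) = (D.P 105) :=
  D.real_edge' IH Gen.b 75 105 (by decide +kernel)
theorem F_138 (IH : D.IHyp) : ed Gen.d (D.P 92) = (D.P 130) :=
  D.real_edge' IH Gen.d 92 130 (by decide +kernel)
theorem F_144 (IH : D.IHyp) : ed Gen.e (D.P 130) = (D.P 176) :=
  D.real_edge' IH Gen.e 130 176 (by decide +kernel)
theorem F_145 (IH : D.IHyp) : ed Gen.b (D.P 135) = (D.P 135) :=
  D.real_edge' IH Gen.b 135 135 (by decide +kernel)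
theorem F_146 (IH : D.IHyp) : ed Gen.f (D.P 135) = (D.P 104) :=
  D.real_edge' IH Gen.f 135 104 (by decide +kernel)
theorem F_147 (IH : D.IHyp) : ed Gen.e (D.P 74) = (D.P 105) :=
  D.real_edge' IH Gen.e 74 105 (by decide +kernel)
theorem F_148 (IH : D.IHyp) : ed Gen.c (D.P 97) = (D.P 135) :=
  D.real_edge' IH Gen.c 97 135 (by decide +kernel)
theorem F_151 (IH : D.IHyp) : ed Gen.d (D.P 135) = (D.P 135) :=
  D.real_edge' IH Gen.d 135 135 (by decide +kernel)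
theorem F_154 (IH : D.IHyp) : ed Gen.h (D.P 135) = (D.P 135) :=
  D.real_edge' IH Gen.h 135 135 (by decide +kernel)
theorem F_155 (IH : D.IHyp) : ed Gen.i (D.P 135) = (D.P 135) :=
  D.real_edge' IH Gen.i 135 135 (by decide +kernel)
theorem F_156 (IH : D.IHyp) : ed Gen.b (D.P 74) = (D.P 53) :=
  D.real_edge' IH Gen.b 74 53 (by decide +kernel)
theorem F_160 (IH : D.IHyp) : ed Gen.d (D.P 52) = (D.P 74) :=
  D.real_edge' IH Gen.d 52 74 (by decide +kernel)
theorem F_164 (IH : D.IHyp) : ed Gen.a (D.P 53) = (D.P 53) :=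
  D.real_edge' IH Gen.a 53 53 (by decide +kernel)
theorem F_165 (IH : D.IHyp) : ed Gen.h (D.P 53) = (D.P 53) :=
  D.real_edge' IH Gen.h 53 53 (by decide +kernel)
theorem F_166 (IH : D.IHyp) : ed Gen.f (D.P 53) = (D.P 71) :=
  D.real_edge' IH Gen.f 53 71 (by decide +kernel)
theorem F_167 (IH : D.IHyp) : ed Gen.d (D.P 101) = (D.P 140) :=
  D.real_edge' IH Gen.d 101 140 (by decide +kernel)
theorem F_168 (IH : D.IHyp) : ed Gen.c (D.P 140) = (D.P 188) :=
  D.real_edge' IH Gen.c 140 188 (by decide +kernel)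
theorem F_169 (IH : D.IHyp) : ed Gen.b (D.P 188) = (D.P 248) :=
  D.real_edge' IH Gen.b 188 248 (by decide +kernel)
theorem F_170 (IH : D.IHyp) : ed Gen.a (D.P 248) = (D.P 325) :=
  D.real_edge' IH Gen.a 248 325 (by decide +kernel)
theorem F_171 (IH : D.IHyp) : ed Gen.h (D.P 325) = (D.P 417) :=
  D.real_edge' IH Gen.h 325 417 (by decide +kernel)
theorem F_172 (IH : D.IHyp) : ed Gen.f (D.P 417) = (D.P 541) :=
  D.real_edge' IH Gen.f 417 541 (by decide +kernel)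
theorem F_173 (IH : D.IHyp) : ed Gen.e (D.P 541) = (D.P 541) :=
  D.real_edge' IH Gen.e 541 541 (by decide +kernel)
theorem F_174 (IH : D.IHyp) : ed Gen.d (D.P 541) = (D.P 695) :=
  D.real_edge' IH Gen.d 541 695 (by decide +kernel)
theorem F_175 (IH : D.IHyp) : ed Gen.c (D.P 695) = (D.P 889) :=
  D.real_edge' IH Gen.c 695 889 (by decide +kernel)
theorem F_176 (IH : D.IHyp) : ed Gen.b (D.P 889) = (D.P 1134) :=
  D.real_edge' IH Gen.b 889 1134 (by decide +kernel)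
theorem F_177 (IH : D.IHyp) : ed Gen.a (D.P 1134) = (D.P 1134) :=
  D.real_edge' IH Gen.a 1134 1134 (by decide +kernel)
theorem F_178 (IH : D.IHyp) : ed Gen.h (D.P 1134) = (D.P 1134) :=
  D.real_edge' IH Gen.h 1134 1134 (by decide +kernel)
theorem F_179 (IH : D.IHyp) : ed Gen.f (D.P 1134) = (D.P 888) :=
  D.real_edge' IH Gen.f 1134 888 (by decide +kernel)
theorem F_180 (IH : D.IHyp) : ed Gen.e (D.P 888) = (D.P 888) :=
  D.real_edge' IH Gen.e 888 888 (by decide +kernel)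
theorem F_181 (IH : D.IHyp) : ed Gen.d (D.P 888) = (D.P 1113) :=
  D.real_edge' IH Gen.d 888 1113 (by decide +kernel)
theorem F_182 (IH : D.IHyp) : ed Gen.c (D.P 1113) = (D.P 1396) :=
  D.real_edge' IH Gen.c 1113 1396 (by decide +kernel)
theorem F_183 (IH : D.IHyp) : ed Gen.b (D.P 1396) = (D.P 1098) :=
  D.real_edge' IH Gen.b 1396 1098 (by decide +kernel)
theorem F_184 (IH : D.IHyp) : ed Gen.a (D.P 1098) = (D.P 854) :=
  D.real_edge' IH Gen.a 1098 854 (by decide +kernel)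
theorem F_185 (IH : D.IHyp) : ed Gen.i (D.P 52) = (D.P 52) :=
  D.real_edge' IH Gen.i 52 52 (by decide +kernel)
theorem F_187 (IH : D.IHyp) : ed Gen.d (D.P 36) = (D.P 36) :=
  D.real_edge' IH Gen.d 36 36 (by decide +kernel)
theorem F_192 (IH : D.IHyp) : ed Gen.c (D.P 69) = (D.P 69) :=
  D.real_edge' IH Gen.c 69 69 (by decide +kernel)
theorem F_195 (IH : D.IHyp) : ed Gen.h (D.P 31) = (D.P 31) :=
  D.real_edge' IH Gen.h 31 31 (by decide +kernel)
theorem F_196 (IH : D.IHyp) : ed Gen.d (D.P 31) = (D.P 47) :=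
  D.real_edge' IH Gen.d 31 47 (by decide +kernel)
theorem F_197 (IH : D.IHyp) : ed Gen.f (D.P 47) = (D.P 47) :=
  D.real_edge' IH Gen.f 47 47 (by decide +kernel)
theorem F_198 (IH : D.IHyp) : ed Gen.e (D.P 47) = (D.P 47) :=
  D.real_edge' IH Gen.e 47 47 (by decide +kernel)
theorem F_199 (IH : D.IHyp) : ed Gen.d (D.P 47) = (D.P 31) :=
  D.real_edge' IH Gen.d 47 31 (by decide +kernel)
theorem F_201 (IH : D.IHyp) : ed Gen.c (D.P 45) = (D.P 45) :=
  D.real_edge' IH Gen.c 45 45 (by decide +kernel)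
theorem F_206 (IH : D.IHyp) : ed Gen.f (D.P 179) = (D.P 179) :=
  D.real_edge' IH Gen.f 179 179 (by decide +kernel)
theorem F_207 (IH : D.IHyp) : ed Gen.e (D.P 179) = (D.P 236) :=
  D.real_edge' IH Gen.e 179 236 (by decide +kernel)
theorem F_208 (IH : D.IHyp) : ed Gen.d (D.P 236) = (D.P 236) :=
  D.real_edge' IH Gen.d 236 236 (by decide +kernel)
theorem F_214 (IH : D.IHyp) : ed Gen.d (D.P 538) = (D.P 538) :=
  D.real_edge' IH Gen.d 538 538 (by decide +kernel)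
theorem F_224 (IH : D.IHyp) : ed Gen.d (D.P 71) = (D.P 49) :=
  D.real_edge' IH Gen.d 71 49 (by decide +kernel)
theorem F_225 (IH : D.IHyp) : ed Gen.c (D.P 49) = (D.P 34) :=
  D.real_edge' IH Gen.c 49 34 (by decide +kernel)
theorem F_230 (IH : D.IHyp) : ed Gen.d (D.P 72) = (D.P 50) :=
  D.real_edge' IH Gen.d 72 50 (by decide +kernel)
theorem F_231 (IH : D.IHyp) : ed Gen.c (D.P 50) = (D.P 70) :=
  D.real_edge' IH Gen.c 50 70 (by decide +kernel)
theorem F_232 (IH : D.IHyp) : ed Gen.b (D.P 70) = (D.P 96) :=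
  D.real_edge' IH Gen.b 70 96 (by decide +kernel)
theorem F_235 (IH : D.IHyp) : ed Gen.f (D.P 181) = (D.P 239) :=
  D.real_edge' IH Gen.f 181 239 (by decide +kernel)
theorem F_236 (IH : D.IHyp) : ed Gen.d (D.P 239) = (D.P 183) :=
  D.real_edge' IH Gen.d 239 183 (by decide +kernel)
theorem F_241 (IH : D.IHyp) : ed Gen.b (D.P 314) = (D.P 409) :=
  D.real_edge' IH Gen.b 314 409 (by decide +kernel)
theorem F_252 (IH : D.IHyp) : ed Gen.h (D.P 100) = (D.P 138) :=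
  D.real_edge' IH Gen.h 100 138 (by decide +kernel)
theorem F_266 (IH : D.IHyp) : ed Gen.e (D.P 104) = V_14081 :=
  rfl
theorem F_267 (IH : D.IHyp) : ed Gen.e V_14081 = (D.P 104) :=
  flipE D.rels D.S (hinv Gen.e) (F_266 IH)
theorem F_268 (IH : D.IHyp) : ed Gen.b V_14081 = V_14081 :=
  gap_rel RW_4 (path_edge (F_266 IH) (path_edge (F_21 IH) (path_edge (F_267 IH) (path_nil _))))
theorem F_269 (IH : D.IHyp) : ed Gen.c (D.P 105) = V_14081 :=
  gap_rel RW_5 (path_edge (F_147 IH) (path_edge (F_4 IH) (path_edge (F_267 IH) (path_nil _))))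
theorem F_273 (IH : D.IHyp) : ed Gen.h V_14081 = V_14081 :=
  gap_rel RW_6 (path_edge (F_266 IH) (path_edge (F_13 IH) (path_edge (F_267 IH) (path_nil _))))
theorem F_274 (IH : D.IHyp) : ed Gen.i V_14081 = V_14081 :=
  gap_rel RW_7 (path_edge (F_266 IH) (path_edge (F_15 IH) (path_edge (F_267 IH) (path_nil _))))
theorem F_284 (IH : D.IHyp) : ed Gen.b (D.P 130) = (D.P 130) :=
  D.real_edge' IH Gen.b 130 130 (by decide +kernel)
theorem F_289 (IH : D.IHyp) : ed Gen.d (D.P 141) = (D.P 189) :=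
  D.real_edge' IH Gen.d 141 189 (by decide +kernel)
theorem F_303 (IH : D.IHyp) : ed Gen.e (D.P 143) = (D.P 183) :=
  D.real_edge' IH Gen.e 143 183 (by decide +kernel)
theorem F_304 (IH : D.IHyp) : ed Gen.b (D.P 239) = (D.P 189) :=
  D.real_edge' IH Gen.b 239 189 (by decide +kernel)
theorem F_310 (IH : D.IHyp) : ed Gen.d (D.P 322) = (D.P 245) :=
  D.real_edge' IH Gen.d 322 245 (by decide +kernel)
theorem F_329 (IH : D.IHyp) : ed Gen.d (D.P 128) = (D.P 91) :=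
  D.real_edge' IH Gen.d 128 91 (by decide +kernel)
theorem F_330 (IH : D.IHyp) : ed Gen.e (D.P 91) = (D.P 64) :=
  D.real_edge' IH Gen.e 91 64 (by decide +kernel)
theorem F_334 (IH : D.IHyp) : ed Gen.f (D.P 143) = (D.P 105) :=
  D.real_edge' IH Gen.f 143 105 (by decide +kernel)
theorem F_337 (IH : D.IHyp) : ed Gen.d (D.P 143) = (D.P 143) :=
  D.real_edge' IH Gen.d 143 143 (by decide +kernel)
theorem F_343 (IH : D.IHyp) : ed Gen.e (D.P 183) = (D.P 143) :=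
  D.real_edge' IH Gen.e 183 143 (by decide +kernel)
theorem F_344 (IH : D.IHyp) : ed Gen.f (D.P 183) = (D.P 136) :=
  D.real_edge' IH Gen.f 183 136 (by decide +kernel)
theorem F_372 (IH : D.IHyp) : ed Gen.d (D.P 48) = (D.P 69) :=
  D.real_edge' IH Gen.d 48 69 (by decide +kernel)
theorem F_373 (IH : D.IHyp) : ed Gen.b (D.P 69) = (D.P 95) :=
  D.real_edge' IH Gen.b 69 95 (by decide +kernel)
theorem F_400 (IH : D.IHyp) : ed Gen.c (D.P 179) = (D.P 235) :=
  D.real_edge' IH Gen.c 179 235 (by decide +kernel)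
theorem F_406 (IH : D.IHyp) : ed Gen.h (D.P 858) = (D.P 1105) :=
  D.real_edge' IH Gen.h 858 1105 (by decide +kernel)
theorem F_411 (IH : D.IHyp) : ed Gen.f (D.P 13) = (D.P 16) :=
  D.real_edge' IH Gen.f 13 16 (by decide +kernel)
theorem F_413 (IH : D.IHyp) : ed Gen.c (D.P 23) = (D.P 32) :=
  D.real_edge' IH Gen.c 23 32 (by decide +kernel)
theorem F_423 (IH : D.IHyp) : ed Gen.h (D.P 36) = (D.P 52) :=
  D.real_edge' IH Gen.h 36 52 (by decide +kernel)
theorem F_435 (IH : D.IHyp) : ed Gen.a V_14081 = V_14082 :=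
  rfl
theorem F_436 (IH : D.IHyp) : ed Gen.a V_14082 = V_14081 :=
  flipE D.rels D.S (hinv Gen.a) (F_435 IH)
theorem F_437 (IH : D.IHyp) : ed Gen.e V_14082 = V_14080 :=
  gap_rel RW_8 (path_edge (F_435 IH) (path_edge (F_266 IH) (path_edge (F_6 IH) (path_nil _))))
theorem F_438 (IH : D.IHyp) : ed Gen.e V_14080 = V_14082 :=
  flipE D.rels D.S (hinv Gen.e) (F_437 IH)
theorem F_440 (IH : D.IHyp) : ed Gen.h V_14082 = V_14082 :=
  gap_rel RW_2 (path_edge (F_435 IH) (path_edge (F_273 IH) (path_edge (F_436 IH) (path_nil _))))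
theorem F_441 (IH : D.IHyp) : ed Gen.i V_14082 = V_14082 :=
  gap_rel RW_3 (path_edge (F_435 IH) (path_edge (F_274 IH) (path_edge (F_436 IH) (path_nil _))))
theorem F_442 (IH : D.IHyp) : ed Gen.a (D.P 135) = V_14083 :=
  rfl
theorem F_443 (IH : D.IHyp) : ed Gen.a V_14083 = (D.P 135) :=
  flipE D.rels D.S (hinv Gen.a) (F_442 IH)
theorem F_444 (IH : D.IHyp) : ed Gen.a (D.P 130) = (D.P 97) :=
  D.real_edge' IH Gen.a 130 97 (by decide +kernel)
theorem F_445 (IH : D.IHyp) : ed Gen.c V_14083 = (D.P 130) :=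
  gap_rel RW_9 (path_edge (F_442 IH) (path_edge (F_148 IH) (path_edge (F_444 IH) (path_nil _))))
theorem F_446 (IH : D.IHyp) : ed Gen.c (D.P 130) = V_14083 :=
  flipE D.rels D.S (hinv Gen.c) (F_445 IH)
theorem F_447 (IH : D.IHyp) : ed Gen.d V_14083 = V_14083 :=
  gap_rel RW_1 (path_edge (F_442 IH) (path_edge (F_151 IH) (path_edge (F_443 IH) (path_nil _))))
theorem F_448 (IH : D.IHyp) : ed Gen.f V_14083 = V_14080 :=
  gap_rel RW_10 (path_edge (F_442 IH) (path_edge (F_10 IH) (path_edge (F_6 IH) (path_nil _))))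
theorem F_449 (IH : D.IHyp) : ed Gen.f V_14080 = V_14083 :=
  flipE D.rels D.S (hinv Gen.f) (F_448 IH)
theorem F_450 (IH : D.IHyp) : ed Gen.h V_14083 = V_14083 :=
  gap_rel RW_2 (path_edge (F_442 IH) (path_edge (F_154 IH) (path_edge (F_443 IH) (path_nil _))))
theorem F_451 (IH : D.IHyp) : ed Gen.i V_14083 = V_14083 :=
  gap_rel RW_3 (path_edge (F_442 IH) (path_edge (F_155 IH) (path_edge (F_443 IH) (path_nil _))))
theorem F_452 (IH : D.IHyp) : ed Gen.b (D.P 182) = (D.P 182) :=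
  D.real_edge' IH Gen.b 182 182 (by decide +kernel)
theorem F_453 (IH : D.IHyp) : ed Gen.e (D.P 182) = (D.P 135) :=
  D.real_edge' IH Gen.e 182 135 (by decide +kernel)
theorem F_455 (IH : D.IHyp) : ed Gen.c (D.P 136) = (D.P 182) :=
  D.real_edge' IH Gen.c 136 182 (by decide +kernel)
theorem F_473 (IH : D.IHyp) : ed Gen.d (D.P 67) = (D.P 97) :=
  D.real_edge' IH Gen.d 67 97 (by decide +kernel)
theorem F_474 (IH : D.IHyp) : ed Gen.e (D.P 240) = (D.P 240) :=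
  D.real_edge' IH Gen.e 240 240 (by decide +kernel)
theorem F_475 (IH : D.IHyp) : ed Gen.d (D.P 240) = (D.P 182) :=
  D.real_edge' IH Gen.d 240 182 (by decide +kernel)
theorem F_477 (IH : D.IHyp) : ed Gen.f (D.P 96) = (D.P 96) :=
  D.real_edge' IH Gen.f 96 96 (by decide +kernel)
theorem F_480 (IH : D.IHyp) : ed Gen.b (D.P 91) = (D.P 91) :=
  D.real_edge' IH Gen.b 91 91 (by decide +kernel)
theorem F_481 (IH : D.IHyp) : ed Gen.c (D.P 91) = (D.P 91) :=
  D.real_edge' IH Gen.c 91 91 (by decide +kernel)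
theorem F_482 (IH : D.IHyp) : ed Gen.e (D.P 128) = (D.P 128) :=
  D.real_edge' IH Gen.e 128 128 (by decide +kernel)
theorem F_483 (IH : D.IHyp) : ed Gen.f (D.P 128) = (D.P 128) :=
  D.real_edge' IH Gen.f 128 128 (by decide +kernel)
theorem F_486 (IH : D.IHyp) : ed Gen.c (D.P 99) = (D.P 99) :=
  D.real_edge' IH Gen.c 99 99 (by decide +kernel)
theorem F_491 (IH : D.IHyp) : ed Gen.a (D.P 189) = (D.P 189) :=
  D.real_edge' IH Gen.a 189 189 (by decide +kernel)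
theorem F_494 (IH : D.IHyp) : ed Gen.f (D.P 46) = (D.P 36) :=
  D.real_edge' IH Gen.f 46 36 (by decide +kernel)
theorem F_516 (IH : D.IHyp) : ed Gen.d (D.P 185) = (D.P 185) :=
  D.real_edge' IH Gen.d 185 185 (by decide +kernel)
theorem F_525 (IH : D.IHyp) : ed Gen.f (D.P 130) = (D.P 103) :=
  D.real_edge' IH Gen.f 130 103 (by decide +kernel)
theorem F_528 (IH : D.IHyp) : ed Gen.f (D.P 129) = (D.P 129) :=
  D.real_edge' IH Gen.f 129 129 (by decide +kernel)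
theorem F_529 (IH : D.IHyp) : ed Gen.h (D.P 129) = (D.P 91) :=
  D.real_edge' IH Gen.h 129 91 (by decide +kernel)
theorem F_530 (IH : D.IHyp) : ed Gen.a (D.P 91) = (D.P 66) :=
  D.real_edge' IH Gen.a 91 66 (by decide +kernel)
theorem F_559 (IH : D.IHyp) : ed Gen.i (D.P 414) = (D.P 322) :=
  D.real_edge' IH Gen.i 414 322 (by decide +kernel)
theorem F_572 (IH : D.IHyp) : ed Gen.d (D.P 246) = (D.P 246) :=
  D.real_edge' IH Gen.d 246 246 (by decide +kernel)
theorem F_573 (IH : D.IHyp) : ed Gen.i (D.P 189) = (D.P 189) :=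
  D.real_edge' IH Gen.i 189 189 (by decide +kernel)
theorem F_575 (IH : D.IHyp) : ed Gen.c (D.P 141) = (D.P 141) :=
  D.real_edge' IH Gen.c 141 141 (by decide +kernel)
theorem F_576 (IH : D.IHyp) : ed Gen.e (D.P 239) = (D.P 239) :=
  D.real_edge' IH Gen.e 239 239 (by decide +kernel)
theorem F_578 (IH : D.IHyp) : ed Gen.d (D.P 181) = (D.P 136) :=
  D.real_edge' IH Gen.d 181 136 (by decide +kernel)
theorem F_579 (IH : D.IHyp) : ed Gen.h (D.P 136) = (D.P 136) :=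
  D.real_edge' IH Gen.h 136 136 (by decide +kernel)
theorem F_580 (IH : D.IHyp) : ed Gen.i (D.P 136) = (D.P 136) :=
  D.real_edge' IH Gen.i 136 136 (by decide +kernel)
theorem F_582 (IH : D.IHyp) : ed Gen.e (D.P 408) = (D.P 408) :=
  D.real_edge' IH Gen.e 408 408 (by decide +kernel)
theorem F_584 (IH : D.IHyp) : ed Gen.a (D.P 136) = (D.P 176) :=
  D.real_edge' IH Gen.a 136 176 (by decide +kernel)
theorem F_588 (IH : D.IHyp) : ed Gen.b (D.P 176) = (D.P 176) :=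
  D.real_edge' IH Gen.b 176 176 (by decide +kernel)
theorem F_591 (IH : D.IHyp) : ed Gen.f (D.P 92) = (D.P 73) :=
  D.real_edge' IH Gen.f 92 73 (by decide +kernel)
theorem F_594 (IH : D.IHyp) : ed Gen.a (D.P 176) = (D.P 136) :=
  D.real_edge' IH Gen.a 176 136 (by decide +kernel)
theorem F_597 (IH : D.IHyp) : ed Gen.h (D.P 176) = (D.P 176) :=
  D.real_edge' IH Gen.h 176 176 (by decide +kernel)
theorem F_607 (IH : D.IHyp) : ed Gen.d (D.P 232) = (D.P 176) :=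
  D.real_edge' IH Gen.d 232 176 (by decide +kernel)
theorem F_608 (IH : D.IHyp) : ed Gen.h (D.P 64) = (D.P 92) :=
  D.real_edge' IH Gen.h 64 92 (by decide +kernel)
theorem F_611 (IH : D.IHyp) : ed Gen.d (D.P 175) = (D.P 129) :=
  D.real_edge' IH Gen.d 175 129 (by decide +kernel)
theorem F_612 (IH : D.IHyp) : ed Gen.e (D.P 129) = (D.P 92) :=
  D.real_edge' IH Gen.e 129 92 (by decide +kernel)
theorem F_620 (IH : D.IHyp) : ed Gen.a (D.P 133) = (D.P 174) :=
  D.real_edge' IH Gen.a 133 174 (by decide +kernel)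
theorem F_627 (IH : D.IHyp) : ed Gen.e (D.P 668) = (D.P 860) :=
  D.real_edge' IH Gen.e 668 860 (by decide +kernel)
theorem F_653 (IH : D.IHyp) : ed Gen.b (D.P 32) = (D.P 46) :=
  D.real_edge' IH Gen.b 32 46 (by decide +kernel)
theorem F_656 (IH : D.IHyp) : ed Gen.h (D.P 66) = (D.P 96) :=
  D.real_edge' IH Gen.h 66 96 (by decide +kernel)
theorem F_657 (IH : D.IHyp) : ed Gen.a (D.P 96) = (D.P 129) :=
  D.real_edge' IH Gen.a 96 129 (by decide +kernel)
theorem F_674 (IH : D.IHyp) : ed Gen.h (D.P 189) = (D.P 246) :=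
  D.real_edge' IH Gen.h 189 246 (by decide +kernel)
theorem F_679 (IH : D.IHyp) : ed Gen.d (D.P 536) = (D.P 688) :=
  D.real_edge' IH Gen.d 536 688 (by decide +kernel)
theorem F_680 (IH : D.IHyp) : ed Gen.e (D.P 688) = (D.P 882) :=
  D.real_edge' IH Gen.e 688 882 (by decide +kernel)
theorem F_681 (IH : D.IHyp) : ed Gen.f (D.P 882) = (D.P 882) :=
  D.real_edge' IH Gen.f 882 882 (by decide +kernel)
theorem F_683 (IH : D.IHyp) : ed Gen.h (D.P 882) = (D.P 1129) :=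
  D.real_edge' IH Gen.h 882 1129 (by decide +kernel)
theorem F_693 (IH : D.IHyp) : ed Gen.d (D.P 177) = (D.P 233) :=
  D.real_edge' IH Gen.d 177 233 (by decide +kernel)
theorem F_699 (IH : D.IHyp) : ed Gen.b V_14080 = V_14084 :=
  rfl
theorem F_700 (IH : D.IHyp) : ed Gen.b V_14084 = V_14080 :=
  flipE D.rels D.S (hinv Gen.b) (F_699 IH)
theorem F_701 (IH : D.IHyp) : ed Gen.d V_14084 = V_14084 :=
  gap_rel RW_11 (path_edge (F_699 IH) (path_edge (F_9 IH) (path_edge (F_700 IH) (path_nil _))))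
theorem F_703 (IH : D.IHyp) : ed Gen.h V_14084 = V_14084 :=
  gap_rel RW_12 (path_edge (F_699 IH) (path_edge (F_14 IH) (path_edge (F_700 IH) (path_nil _))))
theorem F_704 (IH : D.IHyp) : ed Gen.i V_14084 = V_14084 :=
  gap_rel RW_13 (path_edge (F_699 IH) (path_edge (F_16 IH) (path_edge (F_700 IH) (path_nil _))))
theorem F_705 (IH : D.IHyp) : ed Gen.a V_14084 = V_14084 :=
  gap_rel RW_14 (path_edge (F_699 IH) (path_edge (F_7 IH) (path_edge (F_21 IH) (path_edge (F_6 IH) (path_edge (F_700 IH) (path_nil _))))))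
theorem F_706 (IH : D.IHyp) : ed Gen.c V_14084 = V_14084 :=
  gap_rel RW_15 (path_edge (F_699 IH) (path_edge (F_0 IH) (path_edge (F_22 IH) (path_edge (F_1 IH) (path_edge (F_700 IH) (path_nil _))))))
theorem F_707 (IH : D.IHyp) : ed Gen.e V_14084 = V_14085 :=
  rfl
theorem F_708 (IH : D.IHyp) : ed Gen.e V_14085 = V_14084 :=
  flipE D.rels D.S (hinv Gen.e) (F_707 IH)
theorem F_709 (IH : D.IHyp) : ed Gen.a V_14085 = V_14085 :=
  gap_rel RW_16 (path_edge (F_707 IH) (path_edge (F_705 IH) (path_edge (F_708 IH) (path_nil _))))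
theorem F_710 (IH : D.IHyp) : ed Gen.b V_14082 = V_14085 :=
  gap_rel RW_4 (path_edge (F_438 IH) (path_edge (F_700 IH) (path_edge (F_708 IH) (path_nil _))))
theorem F_711 (IH : D.IHyp) : ed Gen.b V_14085 = V_14082 :=
  flipE D.rels D.S (hinv Gen.b) (F_710 IH)
theorem F_712 (IH : D.IHyp) : ed Gen.c V_14085 = V_14085 :=
  gap_rel RW_5 (path_edge (F_707 IH) (path_edge (F_706 IH) (path_edge (F_708 IH) (path_nil _))))
theorem F_714 (IH : D.IHyp) : ed Gen.h V_14085 = V_14085 :=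
  gap_rel RW_6 (path_edge (F_707 IH) (path_edge (F_703 IH) (path_edge (F_708 IH) (path_nil _))))
theorem F_716 (IH : D.IHyp) : ed Gen.f V_14084 = V_14086 :=
  rfl
theorem F_717 (IH : D.IHyp) : ed Gen.f V_14086 = V_14084 :=
  flipE D.rels D.S (hinv Gen.f) (F_716 IH)
theorem F_719 (IH : D.IHyp) : ed Gen.b V_14083 = V_14086 :=
  gap_rel RW_17 (path_edge (F_449 IH) (path_edge (F_700 IH) (path_edge (F_717 IH) (path_nil _))))
theorem F_720 (IH : D.IHyp) : ed Gen.b V_14086 = V_14083 :=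
  flipE D.rels D.S (hinv Gen.b) (F_719 IH)
theorem F_722 (IH : D.IHyp) : ed Gen.d V_14086 = V_14086 :=
  gap_rel RW_18 (path_edge (F_716 IH) (path_edge (F_701 IH) (path_edge (F_717 IH) (path_nil _))))
theorem F_725 (IH : D.IHyp) : ed Gen.e (D.P 103) = V_14087 :=
  rfl
theorem F_726 (IH : D.IHyp) : ed Gen.e V_14087 = (D.P 103) :=
  flipE D.rels D.S (hinv Gen.e) (F_725 IH)
theorem F_728 (IH : D.IHyp) : ed Gen.a (D.P 105) = V_14087 :=
  gap_rel RW_16 (path_edge (F_147 IH) (path_edge (F_2 IH) (path_edge (F_726 IH) (path_nil _))))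
theorem F_732 (IH : D.IHyp) : ed Gen.c V_14082 = V_14087 :=
  gap_rel RW_5 (path_edge (F_438 IH) (path_edge (F_0 IH) (path_edge (F_726 IH) (path_nil _))))
theorem F_733 (IH : D.IHyp) : ed Gen.c V_14087 = V_14082 :=
  flipE D.rels D.S (hinv Gen.c) (F_732 IH)
theorem F_739 (IH : D.IHyp) : ed Gen.d V_14087 = V_14087 :=
  gap_rel RW_19 (path_edge (F_725 IH) (path_edge (F_25 IH) (path_edge (F_61 IH) (path_edge (F_23 IH) (path_edge (F_726 IH) (path_nil _))))))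
theorem F_770 (IH : D.IHyp) : ed Gen.d V_14082 = V_14088 :=
  rfl
theorem F_771 (IH : D.IHyp) : ed Gen.d V_14088 = V_14082 :=
  flipE D.rels D.S (hinv Gen.d) (F_770 IH)
theorem F_773 (IH : D.IHyp) : ed Gen.i V_14088 = V_14088 :=
  gap_rel RW_20 (path_edge (F_770 IH) (path_edge (F_441 IH) (path_edge (F_771 IH) (path_nil _))))
theorem F_774 (IH : D.IHyp) : ed Gen.c V_14088 = V_14088 :=
  gap_rel RW_21 (path_edge (F_770 IH) (path_edge (F_733 IH) (path_edge (F_739 IH) (path_edge (F_732 IH) (path_edge (F_771 IH) (path_nil _))))))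
theorem F_775 (IH : D.IHyp) : ed Gen.e V_14088 = V_14088 :=
  gap_rel RW_22 (path_edge (F_770 IH) (path_edge (F_438 IH) (path_edge (F_9 IH) (path_edge (F_437 IH) (path_edge (F_771 IH) (path_nil _))))))
theorem F_776 (IH : D.IHyp) : ed Gen.f V_14082 = V_14089 :=
  rfl
theorem F_777 (IH : D.IHyp) : ed Gen.f V_14089 = V_14082 :=
  flipE D.rels D.S (hinv Gen.f) (F_776 IH)
theorem F_778 (IH : D.IHyp) : ed Gen.h V_14089 = V_14089 :=
  gap_rel RW_23 (path_edge (F_776 IH) (path_edge (F_440 IH) (path_edge (F_777 IH) (path_nil _))))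
theorem F_780 (IH : D.IHyp) : ed Gen.e V_14089 = V_14090 :=
  rfl
theorem F_781 (IH : D.IHyp) : ed Gen.e V_14090 = V_14089 :=
  flipE D.rels D.S (hinv Gen.e) (F_780 IH)
theorem F_784 (IH : D.IHyp) : ed Gen.f V_14090 = V_14091 :=
  rfl
theorem F_785 (IH : D.IHyp) : ed Gen.f V_14091 = V_14090 :=
  flipE D.rels D.S (hinv Gen.f) (F_784 IH)
theorem F_788 (IH : D.IHyp) : ed Gen.e V_14083 = V_14091 :=
  gap_rel RW_24 (path_edge (F_449 IH) (path_edge (F_437 IH) (path_edge (F_777 IH) (path_edge (F_781 IH) (path_edge (F_785 IH) (path_nil _))))))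
theorem F_789 (IH : D.IHyp) : ed Gen.e V_14091 = V_14083 :=
  flipE D.rels D.S (hinv Gen.e) (F_788 IH)
theorem F_790 (IH : D.IHyp) : ed Gen.a V_14091 = (D.P 182) :=
  gap_rel RW_16 (path_edge (F_788 IH) (path_edge (F_442 IH) (path_edge (F_453 IH) (path_nil _))))
theorem F_791 (IH : D.IHyp) : ed Gen.a (D.P 182) = V_14091 :=
  flipE D.rels D.S (hinv Gen.a) (F_790 IH)
theorem F_792 (IH : D.IHyp) : ed Gen.c V_14091 = (D.P 176) :=
  gap_rel RW_9 (path_edge (F_791 IH) (path_edge (F_455 IH) (path_edge (F_594 IH) (path_nil _))))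
theorem F_793 (IH : D.IHyp) : ed Gen.c (D.P 176) = V_14091 :=
  flipE D.rels D.S (hinv Gen.c) (F_792 IH)
theorem F_809 (IH : D.IHyp) : ed Gen.h (D.P 323) = (D.P 249) :=
  D.real_edge' IH Gen.h 323 249 (by decide +kernel)
theorem F_855 (IH : D.IHyp) : ed Gen.b (D.P 136) = (D.P 101) :=
  D.real_edge' IH Gen.b 136 101 (by decide +kernel)
theorem F_856 (IH : D.IHyp) : ed Gen.c (D.P 101) = (D.P 101) :=
  D.real_edge' IH Gen.c 101 101 (by decide +kernel)
theorem F_858 (IH : D.IHyp) : ed Gen.d (D.P 238) = (D.P 313) :=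
  D.real_edge' IH Gen.d 238 313 (by decide +kernel)
theorem F_859 (IH : D.IHyp) : ed Gen.c (D.P 313) = (D.P 240) :=
  D.real_edge' IH Gen.c 313 240 (by decide +kernel)
theorem F_860 (IH : D.IHyp) : ed Gen.c (D.P 238) = (D.P 181) :=
  D.real_edge' IH Gen.c 238 181 (by decide +kernel)
theorem F_861 (IH : D.IHyp) : ed Gen.h (D.P 240) = (D.P 316) :=
  D.real_edge' IH Gen.h 240 316 (by decide +kernel)
theorem F_872 (IH : D.IHyp) : ed Gen.f (D.P 236) = (D.P 310) :=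
  D.real_edge' IH Gen.f 236 310 (by decide +kernel)
theorem F_879 (IH : D.IHyp) : ed Gen.f (D.P 693) = (D.P 538) :=
  D.real_edge' IH Gen.f 693 538 (by decide +kernel)
theorem F_887 (IH : D.IHyp) : ed Gen.e (D.P 140) = (D.P 100) :=
  D.real_edge' IH Gen.e 140 100 (by decide +kernel)
theorem F_888 (IH : D.IHyp) : ed Gen.f (D.P 100) = (D.P 100) :=
  D.real_edge' IH Gen.f 100 100 (by decide +kernel)
theorem F_900 (IH : D.IHyp) : ed Gen.d (D.P 408) = (D.P 312) :=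
  D.real_edge' IH Gen.d 408 312 (by decide +kernel)
theorem F_923 (IH : D.IHyp) : ed Gen.a (D.P 138) = (D.P 138) :=
  D.real_edge' IH Gen.a 138 138 (by decide +kernel)
theorem F_924 (IH : D.IHyp) : ed Gen.b (D.P 138) = (D.P 179) :=
  D.real_edge' IH Gen.b 138 179 (by decide +kernel)
theorem F_925 (IH : D.IHyp) : ed Gen.d (D.P 235) = (D.P 304) :=
  D.real_edge' IH Gen.d 235 304 (by decide +kernel)
theorem F_926 (IH : D.IHyp) : ed Gen.e (D.P 304) = (D.P 397) :=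
  D.real_edge' IH Gen.e 304 397 (by decide +kernel)
theorem F_927 (IH : D.IHyp) : ed Gen.f (D.P 397) = (D.P 518) :=
  D.real_edge' IH Gen.f 397 518 (by decide +kernel)
theorem F_928 (IH : D.IHyp) : ed Gen.h (D.P 518) = (D.P 518) :=
  D.real_edge' IH Gen.h 518 518 (by decide +kernel)
theorem F_929 (IH : D.IHyp) : ed Gen.a (D.P 518) = (D.P 522) :=
  D.real_edge' IH Gen.a 518 522 (by decide +kernel)
theorem F_930 (IH : D.IHyp) : ed Gen.b (D.P 522) = (D.P 672) :=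
  D.real_edge' IH Gen.b 522 672 (by decide +kernel)
theorem F_931 (IH : D.IHyp) : ed Gen.c (D.P 672) = (D.P 536) :=
  D.real_edge' IH Gen.c 672 536 (by decide +kernel)
theorem F_932 (IH : D.IHyp) : ed Gen.a (D.P 1129) = (D.P 1421) :=
  D.real_edge' IH Gen.a 1129 1421 (by decide +kernel)
theorem F_933 (IH : D.IHyp) : ed Gen.b (D.P 1421) = (D.P 1421) :=
  D.real_edge' IH Gen.b 1421 1421 (by decide +kernel)
theorem F_934 (IH : D.IHyp) : ed Gen.c (D.P 1421) = (D.P 1769) :=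
  D.real_edge' IH Gen.c 1421 1769 (by decide +kernel)
theorem F_940 (IH : D.IHyp) : ed Gen.e (D.P 666) = (D.P 525) :=
  D.real_edge' IH Gen.e 666 525 (by decide +kernel)
theorem F_941 (IH : D.IHyp) : ed Gen.f (D.P 525) = (D.P 679) :=
  D.real_edge' IH Gen.f 525 679 (by decide +kernel)
theorem F_942 (IH : D.IHyp) : ed Gen.d (D.P 679) = (D.P 526) :=
  D.real_edge' IH Gen.d 679 526 (by decide +kernel)
theorem F_1428 (IH : D.IHyp) : ed Gen.e (D.P 679) = V_14093 :=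
  rfl
theorem F_1429 (IH : D.IHyp) : ed Gen.e V_14093 = (D.P 679) :=
  flipE D.rels D.S (hinv Gen.e) (F_1428 IH)
theorem F_1506 (IH : D.IHyp) : ed Gen.c (D.P 526) = (D.P 419) :=
  D.real_edge' IH Gen.c 526 419 (by decide +kernel)
theorem F_1512 (IH : D.IHyp) : ed Gen.e (D.P 1104) = (D.P 858) :=
  D.real_edge' IH Gen.e 1104 858 (by decide +kernel)
theorem F_1513 (IH : D.IHyp) : ed Gen.f (D.P 858) = (D.P 666) :=
  D.real_edge' IH Gen.f 858 666 (by decide +kernel)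
theorem F_1514 (IH : D.IHyp) : ed Gen.f V_14093 = (D.P 1104) :=
  gap_rel RW_25 (path_edge (F_1428 IH) (path_edge (F_941 IH) (path_edge (F_940 IH) (path_edge (F_1513 IH) (path_edge (F_1512 IH) (path_nil _))))))
theorem F_1515 (IH : D.IHyp) : ed Gen.f (D.P 1104) = V_14093 :=
  flipE D.rels D.S (hinv Gen.f) (F_1514 IH)
theorem F_1538 (IH : D.IHyp) : ed Gen.b (D.P 419) = (D.P 323) :=
  D.real_edge' IH Gen.b 419 323 (by decide +kernel)
theorem F_1539 (IH : D.IHyp) : ed Gen.f (D.P 249) = (D.P 188) :=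
  D.real_edge' IH Gen.f 249 188 (by decide +kernel)
theorem F_1540 (IH : D.IHyp) : ed Gen.e (D.P 188) = (D.P 139) :=
  D.real_edge' IH Gen.e 188 139 (by decide +kernel)
theorem F_1541 (IH : D.IHyp) : ed Gen.d (D.P 139) = (D.P 102) :=
  D.real_edge' IH Gen.d 139 102 (by decide +kernel)
theorem F_1542 (IH : D.IHyp) : ed Gen.c (D.P 102) = (D.P 72) :=
  D.real_edge' IH Gen.c 102 72 (by decide +kernel)
theorem F_1543 (IH : D.IHyp) : ed Gen.h (D.P 46) = (D.P 67) :=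
  D.real_edge' IH Gen.h 46 67 (by decide +kernel)
theorem F_1544 (IH : D.IHyp) : ed Gen.f (D.P 67) = (D.P 52) :=
  D.real_edge' IH Gen.f 67 52 (by decide +kernel)
theorem F_1554 (IH : D.IHyp) : ed Gen.f (D.P 673) = (D.P 521) :=
  D.real_edge' IH Gen.f 673 521 (by decide +kernel)
theorem F_1555 (IH : D.IHyp) : ed Gen.e (D.P 521) = (D.P 513) :=
  D.real_edge' IH Gen.e 521 513 (by decide +kernel)
theorem F_1612 (IH : D.IHyp) : ed Gen.h (D.P 174) = (D.P 128) :=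
  D.real_edge' IH Gen.h 174 128 (by decide +kernel)
theorem F_1619 (IH : D.IHyp) : ed Gen.b (D.P 408) = (D.P 313) :=
  D.real_edge' IH Gen.b 408 313 (by decide +kernel)
theorem F_1628 (IH : D.IHyp) : ed Gen.h (D.P 230) = (D.P 175) :=
  D.real_edge' IH Gen.h 230 175 (by decide +kernel)
theorem F_1637 (IH : D.IHyp) : ed Gen.b (D.P 1104) = (D.P 860) :=
  D.real_edge' IH Gen.b 1104 860 (by decide +kernel)
theorem F_1647 (IH : D.IHyp) : ed Gen.c (D.P 1402) = (D.P 1104) :=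
  D.real_edge' IH Gen.c 1402 1104 (by decide +kernel)
theorem F_1654 (IH : D.IHyp) : ed Gen.e (D.P 860) = (D.P 668) :=
  D.real_edge' IH Gen.e 860 668 (by decide +kernel)
theorem F_1669 (IH : D.IHyp) : ed Gen.d (D.P 1756) = (D.P 1402) :=
  D.real_edge' IH Gen.d 1756 1402 (by decide +kernel)
theorem F_1671 (IH : D.IHyp) : ed Gen.f (D.P 668) = (D.P 517) :=
  D.real_edge' IH Gen.f 668 517 (by decide +kernel)
theorem F_1698 (IH : D.IHyp) : ed Gen.d (D.P 393) = (D.P 513) :=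
  D.real_edge' IH Gen.d 393 513 (by decide +kernel)
theorem F_1709 (IH : D.IHyp) : ed Gen.h (D.P 1104) = V_14094 :=
  rfl
theorem F_1710 (IH : D.IHyp) : ed Gen.h V_14094 = (D.P 1104) :=
  flipE D.rels D.S (hinv Gen.h) (F_1709 IH)
theorem F_1711 (IH : D.IHyp) : ed Gen.e (D.P 1105) = V_14094 :=
  gap_rel RW_26 (path_edge (F_406 IH) (path_edge (F_1512 IH) (path_edge (F_1710 IH) (path_nil _))))
theorem F_1712 (IH : D.IHyp) : ed Gen.e V_14094 = (D.P 1105) :=
  flipE D.rels D.S (hinv Gen.e) (F_1711 IH)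
theorem F_1715 (IH : D.IHyp) : ed Gen.b (D.P 1105) = (D.P 861) :=
  D.real_edge' IH Gen.b 1105 861 (by decide +kernel)
theorem F_1770 (IH : D.IHyp) : ed Gen.f (D.P 861) = (D.P 669) :=
  D.real_edge' IH Gen.f 861 669 (by decide +kernel)
theorem F_1821 (IH : D.IHyp) : ed Gen.f (D.P 1431) = (D.P 1431) :=
  D.real_edge' IH Gen.f 1431 1431 (by decide +kernel)
theorem F_1822 (IH : D.IHyp) : ed Gen.h (D.P 1431) = (D.P 1431) :=
  D.real_edge' IH Gen.h 1431 1431 (by decide +kernel)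
theorem F_1825 (IH : D.IHyp) : ed Gen.c (D.P 410) = (D.P 316) :=
  D.real_edge' IH Gen.c 410 316 (by decide +kernel)
theorem F_1830 (IH : D.IHyp) : ed Gen.d (D.P 179) = (D.P 133) :=
  D.real_edge' IH Gen.d 179 133 (by decide +kernel)
theorem F_1836 (IH : D.IHyp) : ed Gen.a V_14094 = V_14095 :=
  rfl
theorem F_1837 (IH : D.IHyp) : ed Gen.a V_14095 = V_14094 :=
  flipE D.rels D.S (hinv Gen.a) (F_1836 IH)
theorem F_1896 (IH : D.IHyp) : ed Gen.c (D.P 683) = (D.P 683) :=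
  D.real_edge' IH Gen.c 683 683 (by decide +kernel)
theorem F_1933 (IH : D.IHyp) : ed Gen.e (D.P 669) = (D.P 528) :=
  D.real_edge' IH Gen.e 669 528 (by decide +kernel)
theorem F_1968 (IH : D.IHyp) : ed Gen.b V_14095 = V_14096 :=
  rfl
theorem F_1969 (IH : D.IHyp) : ed Gen.b V_14096 = V_14095 :=
  flipE D.rels D.S (hinv Gen.b) (F_1968 IH)
theorem F_1970 (IH : D.IHyp) : ed Gen.c V_14096 = V_14097 :=
  rfl
theorem F_1971 (IH : D.IHyp) : ed Gen.c V_14097 = V_14096 :=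
  flipE D.rels D.S (hinv Gen.c) (F_1970 IH)
theorem F_1972 (IH : D.IHyp) : ed Gen.d V_14097 = V_14098 :=
  rfl
theorem F_1973 (IH : D.IHyp) : ed Gen.d V_14098 = V_14097 :=
  flipE D.rels D.S (hinv Gen.d) (F_1972 IH)
theorem F_1974 (IH : D.IHyp) : ed Gen.e V_14098 = V_14099 :=
  rfl
theorem F_1975 (IH : D.IHyp) : ed Gen.e V_14099 = V_14098 :=
  flipE D.rels D.S (hinv Gen.e) (F_1974 IH)
theorem F_1976 (IH : D.IHyp) : ed Gen.f V_14099 = V_14100 :=
  rfl
theorem F_1977 (IH : D.IHyp) : ed Gen.f V_14100 = V_14099 :=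
  flipE D.rels D.S (hinv Gen.f) (F_1976 IH)
theorem F_1978 (IH : D.IHyp) : ed Gen.h V_14100 = V_14101 :=
  rfl
theorem F_1979 (IH : D.IHyp) : ed Gen.h V_14101 = V_14100 :=
  flipE D.rels D.S (hinv Gen.h) (F_1978 IH)
theorem F_1980 (IH : D.IHyp) : ed Gen.a V_14101 = V_14102 :=
  rfl
theorem F_1981 (IH : D.IHyp) : ed Gen.a V_14102 = V_14101 :=
  flipE D.rels D.S (hinv Gen.a) (F_1980 IH)
theorem F_1982 (IH : D.IHyp) : ed Gen.b V_14102 = V_14103 :=
  rfl
theorem F_1983 (IH : D.IHyp) : ed Gen.b V_14103 = V_14102 :=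
  flipE D.rels D.S (hinv Gen.b) (F_1982 IH)
theorem F_1984 (IH : D.IHyp) : ed Gen.c V_14103 = V_14104 :=
  rfl
theorem F_1985 (IH : D.IHyp) : ed Gen.c V_14104 = V_14103 :=
  flipE D.rels D.S (hinv Gen.c) (F_1984 IH)
theorem F_1986 (IH : D.IHyp) : ed Gen.d V_14104 = V_14105 :=
  rfl
theorem F_1987 (IH : D.IHyp) : ed Gen.d V_14105 = V_14104 :=
  flipE D.rels D.S (hinv Gen.d) (F_1986 IH)
theorem F_1988 (IH : D.IHyp) : ed Gen.e V_14105 = V_14106 :=
  rfl
theorem F_1989 (IH : D.IHyp) : ed Gen.e V_14106 = V_14105 :=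
  flipE D.rels D.S (hinv Gen.e) (F_1988 IH)
theorem F_1990 (IH : D.IHyp) : ed Gen.f V_14106 = V_14107 :=
  rfl
theorem F_1991 (IH : D.IHyp) : ed Gen.f V_14107 = V_14106 :=
  flipE D.rels D.S (hinv Gen.f) (F_1990 IH)
theorem F_1992 (IH : D.IHyp) : ed Gen.h V_14107 = V_14108 :=
  rfl
theorem F_1993 (IH : D.IHyp) : ed Gen.h V_14108 = V_14107 :=
  flipE D.rels D.S (hinv Gen.h) (F_1992 IH)
theorem F_1994 (IH : D.IHyp) : ed Gen.a V_14108 = V_14109 :=
  rfl
theorem F_1995 (IH : D.IHyp) : ed Gen.a V_14109 = V_14108 :=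
  flipE D.rels D.S (hinv Gen.a) (F_1994 IH)
theorem F_1996 (IH : D.IHyp) : ed Gen.b V_14109 = V_14110 :=
  rfl
theorem F_1997 (IH : D.IHyp) : ed Gen.b V_14110 = V_14109 :=
  flipE D.rels D.S (hinv Gen.b) (F_1996 IH)
theorem F_1998 (IH : D.IHyp) : ed Gen.c V_14110 = V_14111 :=
  rfl
theorem F_1999 (IH : D.IHyp) : ed Gen.c V_14111 = V_14110 :=
  flipE D.rels D.S (hinv Gen.c) (F_1998 IH)
theorem F_2000 (IH : D.IHyp) : ed Gen.d V_14111 = V_14112 :=
  rfl
theorem F_2001 (IH : D.IHyp) : ed Gen.d V_14112 = V_14111 :=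
  flipE D.rels D.S (hinv Gen.d) (F_2000 IH)
theorem F_2002 (IH : D.IHyp) : ed Gen.e V_14112 = V_14113 :=
  rfl
theorem F_2003 (IH : D.IHyp) : ed Gen.e V_14113 = V_14112 :=
  flipE D.rels D.S (hinv Gen.e) (F_2002 IH)
theorem F_2004 (IH : D.IHyp) : ed Gen.f V_14113 = V_14114 :=
  rfl
theorem F_2005 (IH : D.IHyp) : ed Gen.f V_14114 = V_14113 :=
  flipE D.rels D.S (hinv Gen.f) (F_2004 IH)
theorem F_2006 (IH : D.IHyp) : ed Gen.h V_14114 = V_14115 :=
  rfl
theorem F_2007 (IH : D.IHyp) : ed Gen.h V_14115 = V_14114 :=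
  flipE D.rels D.S (hinv Gen.h) (F_2006 IH)
theorem F_2008 (IH : D.IHyp) : ed Gen.a V_14115 = V_14116 :=
  rfl
theorem F_2009 (IH : D.IHyp) : ed Gen.a V_14116 = V_14115 :=
  flipE D.rels D.S (hinv Gen.a) (F_2008 IH)
theorem F_2010 (IH : D.IHyp) : ed Gen.b V_14116 = V_14117 :=
  rfl
theorem F_2011 (IH : D.IHyp) : ed Gen.b V_14117 = V_14116 :=
  flipE D.rels D.S (hinv Gen.b) (F_2010 IH)
theorem F_2012 (IH : D.IHyp) : ed Gen.c V_14117 = V_14118 :=
  rfl
theorem F_2013 (IH : D.IHyp) : ed Gen.c V_14118 = V_14117 :=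
  flipE D.rels D.S (hinv Gen.c) (F_2012 IH)
theorem F_2014 (IH : D.IHyp) : ed Gen.d V_14091 = V_14118 :=
  gap_rel RW_27 (path_edge (F_788 IH) (path_edge (F_449 IH) (path_edge (F_14 IH) (path_edge (F_7 IH) (path_edge (F_21 IH) (path_edge (F_3 IH) (path_edge (F_160 IH) (path_edge (F_27 IH) (path_edge (F_1544 IH) (path_edge (F_1543 IH) (path_edge (F_64 IH) (path_edge (F_31 IH) (path_edge (F_32 IH) (path_edge (F_33 IH) (path_edge (F_330 IH) (path_edge (F_35 IH) (path_edge (F_529 IH) (path_edge (F_657 IH) (path_edge (F_232 IH) (path_edge (F_231 IH) (path_edge (F_230 IH) (path_edge (F_41 IH) (path_edge (F_42 IH) (path_edge (F_43 IH) (path_edge (F_44 IH) (path_edge (F_45 IH) (path_edge (F_1542 IH) (path_edge (F_1541 IH) (path_edge (F_1540 IH) (path_edge (F_1539 IH) (path_edge (F_809 IH) (path_edge (F_51 IH) (path_edge (F_1538 IH) (path_edge (F_1506 IH) (path_edge (F_942 IH) (path_edge (F_1429 IH) (path_edge (F_1515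 IH) (path_edge (F_1710 IH) (path_edge (F_1837 IH) (path_edge (F_1969 IH) (path_edge (F_1971 IH) (path_edge (F_1973 IH) (path_edge (F_1975 IH) (path_edge (F_1977 IH) (path_edge (F_1979 IH) (path_edge (F_1981 IH) (path_edge (F_1983 IH) (path_edge (F_1985 IH) (path_edge (F_1987 IH) (path_edge (F_1989 IH) (path_edge (F_1991 IH) (path_edge (F_1993 IH) (path_edge (F_1995 IH) (path_edge (F_1997 IH) (path_edge (F_1999 IH) (path_edge (F_2001 IH) (path_edge (F_2003 IH) (path_edge (F_2005 IH) (path_edge (F_2007 IH) (path_edge (F_2009 IH) (path_edge (F_2011 IH) (path_edge (F_2013 IH) (path_nil _)))))))))))))))))))))))))))))))))))))))))))))))))))))))))))))))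
theorem F_2015 (IH : D.IHyp) : ed Gen.d V_14118 = V_14091 :=
  flipE D.rels D.S (hinv Gen.d) (F_2014 IH)
theorem F_2016 (IH : D.IHyp) : ed Gen.a V_14118 = (D.P 240) :=
  gap_rel RW_28 (path_edge (F_2014 IH) (path_edge (F_791 IH) (path_edge (F_475 IH) (path_nil _))))
theorem F_2017 (IH : D.IHyp) : ed Gen.a (D.P 240) = V_14118 :=
  flipE D.rels D.S (hinv Gen.a) (F_2016 IH)
theorem F_2018 (IH : D.IHyp) : ed Gen.e V_14118 = V_14118 :=
  gap_rel RW_8 (path_edge (F_2017 IH) (path_edge (F_474 IH) (path_edge (F_2016 IH) (path_nil _))))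
theorem F_2020 (IH : D.IHyp) : ed Gen.a V_14117 = (D.P 313) :=
  gap_rel RW_0 (path_edge (F_2013 IH) (path_edge (F_2017 IH) (path_edge (F_859 IH) (path_nil _))))
theorem F_2022 (IH : D.IHyp) : ed Gen.e V_14117 = V_14117 :=
  gap_rel RW_29 (path_edge (F_2013 IH) (path_edge (F_2018 IH) (path_edge (F_2012 IH) (path_nil _))))
theorem F_2024 (IH : D.IHyp) : ed Gen.c (D.P 303) = (D.P 232) :=
  D.real_edge' IH Gen.c 303 232 (by decide +kernel)
theorem F_2025 (IH : D.IHyp) : ed Gen.d V_14117 = (D.P 303) :=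
  gap_rel RW_30 (path_edge (F_2013 IH) (path_edge (F_2014 IH) (path_edge (F_793 IH) (path_edge (F_607 IH) (path_edge (F_2024 IH) (path_nil _))))))
theorem F_2040 (IH : D.IHyp) : ed Gen.i (D.P 303) = (D.P 303) :=
  D.real_edge' IH Gen.i 303 303 (by decide +kernel)
theorem F_2041 (IH : D.IHyp) : ed Gen.h (D.P 303) = (D.P 393) :=
  D.real_edge' IH Gen.h 303 393 (by decide +kernel)
theorem F_2043 (IH : D.IHyp) : ed Gen.e (D.P 313) = (D.P 313) :=
  D.real_edge' IH Gen.e 313 313 (by decide +kernel)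
theorem F_2046 (IH : D.IHyp) : ed Gen.h (D.P 313) = (D.P 410) :=
  D.real_edge' IH Gen.h 313 410 (by decide +kernel)
theorem F_2059 (IH : D.IHyp) : ed Gen.e V_14116 = V_14116 :=
  gap_rel RW_31 (path_edge (F_2011 IH) (path_edge (F_2022 IH) (path_edge (F_2010 IH) (path_nil _))))
theorem F_2063 (IH : D.IHyp) : ed Gen.b (D.P 530) = V_14115 :=
  gap_rel RW_32 (path_edge (F_59 IH) (path_edge (F_58 IH) (path_edge (F_2020 IH) (path_edge (F_2010 IH) (path_edge (F_2008 IH) (path_nil _))))))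
theorem F_2065 (IH : D.IHyp) : ed Gen.a (D.P 530) = (D.P 408) :=
  D.real_edge' IH Gen.a 530 408 (by decide +kernel)
theorem F_2095 (IH : D.IHyp) : ed Gen.d (D.P 138) = (D.P 99) :=
  D.real_edge' IH Gen.d 138 99 (by decide +kernel)
theorem F_2138 (IH : D.IHyp) : ed Gen.c (D.P 133) = (D.P 177) :=
  D.real_edge' IH Gen.c 133 177 (by decide +kernel)
theorem F_2142 (IH : D.IHyp) : ed Gen.b (D.P 312) = (D.P 238) :=
  D.real_edge' IH Gen.b 312 238 (by decide +kernel)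
theorem F_2161 (IH : D.IHyp) : ed Gen.d (D.P 528) = (D.P 410) :=
  D.real_edge' IH Gen.d 528 410 (by decide +kernel)
theorem F_2196 (IH : D.IHyp) : ed Gen.d (D.P 1133) = (D.P 886) :=
  D.real_edge' IH Gen.d 1133 886 (by decide +kernel)
theorem F_2200 (IH : D.IHyp) : ed Gen.e (D.P 101) = (D.P 71) :=
  D.real_edge' IH Gen.e 101 71 (by decide +kernel)
theorem F_2294 (IH : D.IHyp) : ed Gen.e V_14115 = V_14115 :=
  gap_rel RW_8 (path_edge (F_2009 IH) (path_edge (F_2059 IH) (path_edge (F_2008 IH) (path_nil _))))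
theorem F_2302 (IH : D.IHyp) : ed Gen.h (D.P 133) = (D.P 95) :=
  D.real_edge' IH Gen.h 133 95 (by decide +kernel)
theorem F_2304 (IH : D.IHyp) : ed Gen.h (D.P 310) = (D.P 239) :=
  D.real_edge' IH Gen.h 310 239 (by decide +kernel)
theorem F_2308 (IH : D.IHyp) : ed Gen.b (D.P 326) = (D.P 249) :=
  D.real_edge' IH Gen.b 326 249 (by decide +kernel)
theorem F_2342 (IH : D.IHyp) : ed Gen.c (D.P 185) = (D.P 138) :=
  D.real_edge' IH Gen.c 185 138 (by decide +kernel)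
theorem F_2360 (IH : D.IHyp) : ed Gen.f (D.P 323) = (D.P 245) :=
  D.real_edge' IH Gen.f 323 245 (by decide +kernel)
theorem F_2376 (IH : D.IHyp) : ed Gen.h (D.P 683) = (D.P 530) :=
  D.real_edge' IH Gen.h 683 530 (by decide +kernel)
theorem F_2379 (IH : D.IHyp) : ed Gen.b V_14114 = (D.P 683) :=
  gap_rel RW_33 (path_edge (F_2007 IH) (path_edge (F_2063 IH) (path_edge (F_2376 IH) (path_nil _))))
theorem F_2380 (IH : D.IHyp) : ed Gen.b (D.P 683) = V_14114 :=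
  flipE D.rels D.S (hinv Gen.b) (F_2379 IH)
theorem F_2386 (IH : D.IHyp) : ed Gen.e (D.P 683) = (D.P 683) :=
  D.real_edge' IH Gen.e 683 683 (by decide +kernel)
theorem F_2427 (IH : D.IHyp) : ed Gen.e V_14114 = V_14114 :=
  gap_rel RW_26 (path_edge (F_2007 IH) (path_edge (F_2294 IH) (path_edge (F_2006 IH) (path_nil _))))
theorem F_2482 (IH : D.IHyp) : ed Gen.f V_14112 = V_14112 :=
  gap_rel RW_25 (path_edge (F_2003 IH) (path_edge (F_2005 IH) (path_edge (F_2427 IH) (path_edge (F_2004 IH) (path_edge (F_2002 IH) (path_nil _))))))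
theorem F_2505 (IH : D.IHyp) : ed Gen.e (D.P 1412) = (D.P 1752) :=
  D.real_edge' IH Gen.e 1412 1752 (by decide +kernel)
theorem F_2518 (IH : D.IHyp) : ed Gen.f V_14111 = V_14111 :=
  gap_rel RW_34 (path_edge (F_2001 IH) (path_edge (F_2482 IH) (path_edge (F_2000 IH) (path_nil _))))
theorem F_2519 (IH : D.IHyp) : ed Gen.f V_14110 = V_14110 :=
  gap_rel RW_35 (path_edge (F_1999 IH) (path_edge (F_2518 IH) (path_edge (F_1998 IH) (path_nil _))))
theorem F_2520 (IH : D.IHyp) : ed Gen.f V_14109 = V_14109 :=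
  gap_rel RW_36 (path_edge (F_1997 IH) (path_edge (F_2519 IH) (path_edge (F_1996 IH) (path_nil _))))
theorem F_2521 (IH : D.IHyp) : ed Gen.f V_14108 = V_14108 :=
  gap_rel RW_10 (path_edge (F_1995 IH) (path_edge (F_2520 IH) (path_edge (F_1994 IH) (path_nil _))))
theorem F_2522 (IH : D.IHyp) : ed Gen.h V_14106 = V_14108 :=
  gap_rel RW_23 (path_edge (F_1991 IH) (path_edge (F_1993 IH) (path_edge (F_2521 IH) (path_nil _))))
theorem F_2523 (IH : D.IHyp) : ed Gen.h V_14108 = V_14106 :=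
  flipE D.rels D.S (hinv Gen.h) (F_2522 IH)
theorem F_2524 (IH : D.IHyp) : V_14107 = V_14106 :=
  edge_fun (F_1993 IH) (F_2523 IH)
theorem F_2526 (IH : D.IHyp) : ed Gen.h V_14106 = V_14108 :=
  edge_congr (F_1992 IH) (F_2524 IH)
theorem F_2527 (IH : D.IHyp) : ed Gen.h V_14108 = V_14106 :=
  flipE D.rels D.S (hinv Gen.h) (F_2526 IH)
theorem F_2528 (IH : D.IHyp) : ed Gen.f (D.P 683) = V_14119 :=
  rfl
theorem F_2529 (IH : D.IHyp) : ed Gen.f V_14119 = (D.P 683) :=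
  flipE D.rels D.S (hinv Gen.f) (F_2528 IH)
theorem F_2530 (IH : D.IHyp) : ed Gen.b V_14113 = V_14119 :=
  gap_rel RW_17 (path_edge (F_2005 IH) (path_edge (F_2380 IH) (path_edge (F_2529 IH) (path_nil _))))
theorem F_2531 (IH : D.IHyp) : ed Gen.b V_14119 = V_14113 :=
  flipE D.rels D.S (hinv Gen.b) (F_2530 IH)
theorem F_2532 (IH : D.IHyp) : ed Gen.c V_14119 = V_14119 :=
  gap_rel RW_37 (path_edge (F_2528 IH) (path_edge (F_1896 IH) (path_edge (F_2529 IH) (path_nil _))))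
theorem F_2533 (IH : D.IHyp) : ed Gen.e V_14119 = V_14120 :=
  rfl
theorem F_2534 (IH : D.IHyp) : ed Gen.e V_14120 = V_14119 :=
  flipE D.rels D.S (hinv Gen.e) (F_2533 IH)
theorem F_2535 (IH : D.IHyp) : ed Gen.b V_14112 = V_14120 :=
  gap_rel RW_4 (path_edge (F_2003 IH) (path_edge (F_2531 IH) (path_edge (F_2534 IH) (path_nil _))))
theorem F_2536 (IH : D.IHyp) : ed Gen.b V_14120 = V_14112 :=
  flipE D.rels D.S (hinv Gen.b) (F_2535 IH)
theorem F_2537 (IH : D.IHyp) : ed Gen.c V_14120 = V_14120 :=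
  gap_rel RW_5 (path_edge (F_2533 IH) (path_edge (F_2532 IH) (path_edge (F_2534 IH) (path_nil _))))
theorem F_2538 (IH : D.IHyp) : ed Gen.f V_14120 = V_14120 :=
  gap_rel RW_25 (path_edge (F_2533 IH) (path_edge (F_2528 IH) (path_edge (F_2386 IH) (path_edge (F_2529 IH) (path_edge (F_2534 IH) (path_nil _))))))
theorem F_2539 (IH : D.IHyp) : ed Gen.d V_14120 = V_14121 :=
  rfl
theorem F_2540 (IH : D.IHyp) : ed Gen.d V_14121 = V_14120 :=
  flipE D.rels D.S (hinv Gen.d) (F_2539 IH)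
theorem F_2541 (IH : D.IHyp) : ed Gen.b V_14111 = V_14121 :=
  gap_rel RW_38 (path_edge (F_2001 IH) (path_edge (F_2536 IH) (path_edge (F_2540 IH) (path_nil _))))
theorem F_2543 (IH : D.IHyp) : ed Gen.f V_14121 = V_14121 :=
  gap_rel RW_34 (path_edge (F_2539 IH) (path_edge (F_2538 IH) (path_edge (F_2540 IH) (path_nil _))))
theorem F_2544 (IH : D.IHyp) : ed Gen.c V_14121 = V_14122 :=
  rfl
theorem F_2545 (IH : D.IHyp) : ed Gen.c V_14122 = V_14121 :=
  flipE D.rels D.S (hinv Gen.c) (F_2544 IH)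
theorem F_2546 (IH : D.IHyp) : ed Gen.f V_14122 = V_14122 :=
  gap_rel RW_35 (path_edge (F_2544 IH) (path_edge (F_2543 IH) (path_edge (F_2545 IH) (path_nil _))))
theorem F_2547 (IH : D.IHyp) : ed Gen.d V_14122 = V_14122 :=
  gap_rel RW_30 (path_edge (F_2544 IH) (path_edge (F_2539 IH) (path_edge (F_2537 IH) (path_edge (F_2540 IH) (path_edge (F_2545 IH) (path_nil _))))))
theorem F_2548 (IH : D.IHyp) : ed Gen.b V_14122 = V_14123 :=
  rfl
theorem F_2549 (IH : D.IHyp) : ed Gen.b V_14123 = V_14122 :=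
  flipE D.rels D.S (hinv Gen.b) (F_2548 IH)
theorem F_2550 (IH : D.IHyp) : ed Gen.d V_14123 = V_14123 :=
  gap_rel RW_11 (path_edge (F_2548 IH) (path_edge (F_2547 IH) (path_edge (F_2549 IH) (path_nil _))))
theorem F_2551 (IH : D.IHyp) : ed Gen.f V_14123 = V_14123 :=
  gap_rel RW_36 (path_edge (F_2548 IH) (path_edge (F_2546 IH) (path_edge (F_2549 IH) (path_nil _))))
theorem F_2552 (IH : D.IHyp) : ed Gen.c V_14123 = V_14109 :=
  gap_rel RW_15 (path_edge (F_2548 IH) (path_edge (F_2544 IH) (path_edge (F_2541 IH) (path_edge (F_1998 IH) (path_edge (F_1996 IH) (path_nil _))))))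
theorem F_2553 (IH : D.IHyp) : ed Gen.c V_14109 = V_14123 :=
  flipE D.rels D.S (hinv Gen.c) (F_2552 IH)
theorem F_2554 (IH : D.IHyp) : ed Gen.a V_14123 = V_14124 :=
  rfl
theorem F_2555 (IH : D.IHyp) : ed Gen.a V_14124 = V_14123 :=
  flipE D.rels D.S (hinv Gen.a) (F_2554 IH)
theorem F_2556 (IH : D.IHyp) : ed Gen.c V_14124 = V_14108 :=
  gap_rel RW_9 (path_edge (F_2554 IH) (path_edge (F_2553 IH) (path_edge (F_1994 IH) (path_nil _))))
theorem F_2558 (IH : D.IHyp) : ed Gen.d V_14124 = V_14124 :=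
  gap_rel RW_1 (path_edge (F_2554 IH) (path_edge (F_2550 IH) (path_edge (F_2555 IH) (path_nil _))))
theorem F_2559 (IH : D.IHyp) : ed Gen.f V_14124 = V_14124 :=
  gap_rel RW_10 (path_edge (F_2554 IH) (path_edge (F_2551 IH) (path_edge (F_2555 IH) (path_nil _))))
theorem F_2560 (IH : D.IHyp) : ed Gen.h V_14124 = V_14125 :=
  rfl
theorem F_2561 (IH : D.IHyp) : ed Gen.h V_14125 = V_14124 :=
  flipE D.rels D.S (hinv Gen.h) (F_2560 IH)
theorem F_2562 (IH : D.IHyp) : ed Gen.c V_14106 = V_14125 :=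
  gap_rel RW_39 (path_edge (F_2527 IH) (path_edge (F_2556 IH) (path_edge (F_2561 IH) (path_nil _))))
theorem F_2563 (IH : D.IHyp) : ed Gen.c V_14125 = V_14106 :=
  flipE D.rels D.S (hinv Gen.c) (F_2562 IH)
theorem F_2564 (IH : D.IHyp) : ed Gen.f V_14125 = V_14125 :=
  gap_rel RW_40 (path_edge (F_2560 IH) (path_edge (F_2559 IH) (path_edge (F_2561 IH) (path_nil _))))
theorem F_2565 (IH : D.IHyp) : ed Gen.e V_14125 = V_14126 :=
  rfl
theorem F_2566 (IH : D.IHyp) : ed Gen.e V_14126 = V_14125 :=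
  flipE D.rels D.S (hinv Gen.e) (F_2565 IH)
theorem F_2569 (IH : D.IHyp) : ed Gen.d V_14126 = V_14127 :=
  rfl
theorem F_2570 (IH : D.IHyp) : ed Gen.d V_14127 = V_14126 :=
  flipE D.rels D.S (hinv Gen.d) (F_2569 IH)
theorem F_2571 (IH : D.IHyp) : ed Gen.c V_14127 = V_14128 :=
  rfl
theorem F_2572 (IH : D.IHyp) : ed Gen.c V_14128 = V_14127 :=
  flipE D.rels D.S (hinv Gen.c) (F_2571 IH)
theorem F_2575 (IH : D.IHyp) : ed Gen.b V_14128 = V_14129 :=
  rfl
theorem F_2576 (IH : D.IHyp) : ed Gen.b V_14129 = V_14128 :=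
  flipE D.rels D.S (hinv Gen.b) (F_2575 IH)
theorem F_2579 (IH : D.IHyp) : ed Gen.a V_14129 = V_14130 :=
  rfl
theorem F_2580 (IH : D.IHyp) : ed Gen.a V_14130 = V_14129 :=
  flipE D.rels D.S (hinv Gen.a) (F_2579 IH)
theorem F_2583 (IH : D.IHyp) : ed Gen.h V_14130 = V_14131 :=
  rfl
theorem F_2584 (IH : D.IHyp) : ed Gen.h V_14131 = V_14130 :=
  flipE D.rels D.S (hinv Gen.h) (F_2583 IH)
theorem F_2585 (IH : D.IHyp) : ed Gen.f V_14131 = V_14132 :=
  rfl
theorem F_2586 (IH : D.IHyp) : ed Gen.f V_14132 = V_14131 :=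
  flipE D.rels D.S (hinv Gen.f) (F_2585 IH)
theorem F_2587 (IH : D.IHyp) : ed Gen.e V_14132 = V_14133 :=
  rfl
theorem F_2588 (IH : D.IHyp) : ed Gen.e V_14133 = V_14132 :=
  flipE D.rels D.S (hinv Gen.e) (F_2587 IH)
theorem F_2589 (IH : D.IHyp) : ed Gen.d V_14133 = V_14134 :=
  rfl
theorem F_2590 (IH : D.IHyp) : ed Gen.d V_14134 = V_14133 :=
  flipE D.rels D.S (hinv Gen.d) (F_2589 IH)
theorem F_2591 (IH : D.IHyp) : ed Gen.c V_14134 = V_14135 :=
  rfl
theorem F_2592 (IH : D.IHyp) : ed Gen.c V_14135 = V_14134 :=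
  flipE D.rels D.S (hinv Gen.c) (F_2591 IH)
theorem F_2593 (IH : D.IHyp) : ed Gen.b V_14135 = V_14136 :=
  rfl
theorem F_2594 (IH : D.IHyp) : ed Gen.b V_14136 = V_14135 :=
  flipE D.rels D.S (hinv Gen.b) (F_2593 IH)
theorem F_2595 (IH : D.IHyp) : ed Gen.a V_14136 = V_14137 :=
  rfl
theorem F_2596 (IH : D.IHyp) : ed Gen.a V_14137 = V_14136 :=
  flipE D.rels D.S (hinv Gen.a) (F_2595 IH)
theorem F_2597 (IH : D.IHyp) : ed Gen.h V_14137 = V_14138 :=
  rfl
theorem F_2598 (IH : D.IHyp) : ed Gen.h V_14138 = V_14137 :=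
  flipE D.rels D.S (hinv Gen.h) (F_2597 IH)
theorem F_2599 (IH : D.IHyp) : ed Gen.f V_14138 = V_14139 :=
  rfl
theorem F_2600 (IH : D.IHyp) : ed Gen.f V_14139 = V_14138 :=
  flipE D.rels D.S (hinv Gen.f) (F_2599 IH)
theorem F_2601 (IH : D.IHyp) : ed Gen.e V_14139 = V_14140 :=
  rfl
theorem F_2602 (IH : D.IHyp) : ed Gen.e V_14140 = V_14139 :=
  flipE D.rels D.S (hinv Gen.e) (F_2601 IH)
theorem F_2603 (IH : D.IHyp) : ed Gen.d V_14140 = V_14141 :=
  rfl
theorem F_2604 (IH : D.IHyp) : ed Gen.d V_14141 = V_14140 :=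
  flipE D.rels D.S (hinv Gen.d) (F_2603 IH)
theorem F_2605 (IH : D.IHyp) : ed Gen.c V_14141 = V_14142 :=
  rfl
theorem F_2606 (IH : D.IHyp) : ed Gen.c V_14142 = V_14141 :=
  flipE D.rels D.S (hinv Gen.c) (F_2605 IH)
theorem F_2607 (IH : D.IHyp) : ed Gen.b V_14142 = V_14143 :=
  rfl
theorem F_2608 (IH : D.IHyp) : ed Gen.b V_14143 = V_14142 :=
  flipE D.rels D.S (hinv Gen.b) (F_2607 IH)
theorem F_2609 (IH : D.IHyp) : ed Gen.a V_14143 = V_14144 :=
  rfl
theorem F_2610 (IH : D.IHyp) : ed Gen.a V_14144 = V_14143 :=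
  flipE D.rels D.S (hinv Gen.a) (F_2609 IH)
theorem F_2611 (IH : D.IHyp) : ed Gen.h V_14144 = V_14145 :=
  rfl
theorem F_2612 (IH : D.IHyp) : ed Gen.h V_14145 = V_14144 :=
  flipE D.rels D.S (hinv Gen.h) (F_2611 IH)
theorem F_2613 (IH : D.IHyp) : ed Gen.f V_14145 = V_14146 :=
  rfl
theorem F_2614 (IH : D.IHyp) : ed Gen.f V_14146 = V_14145 :=
  flipE D.rels D.S (hinv Gen.f) (F_2613 IH)
theorem F_2615 (IH : D.IHyp) : ed Gen.e V_14146 = V_14147 :=
  rfl
theorem F_2616 (IH : D.IHyp) : ed Gen.e V_14147 = V_14146 :=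
  flipE D.rels D.S (hinv Gen.e) (F_2615 IH)
theorem F_2617 (IH : D.IHyp) : ed Gen.d V_14147 = V_14148 :=
  rfl
theorem F_2618 (IH : D.IHyp) : ed Gen.d V_14148 = V_14147 :=
  flipE D.rels D.S (hinv Gen.d) (F_2617 IH)
theorem F_2619 (IH : D.IHyp) : ed Gen.c V_14148 = V_14149 :=
  rfl
theorem F_2620 (IH : D.IHyp) : ed Gen.c V_14149 = V_14148 :=
  flipE D.rels D.S (hinv Gen.c) (F_2619 IH)
theorem F_2621 (IH : D.IHyp) : ed Gen.b V_14149 = V_14150 :=
  rfl
theorem F_2622 (IH : D.IHyp) : ed Gen.b V_14150 = V_14149 :=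
  flipE D.rels D.S (hinv Gen.b) (F_2621 IH)
theorem F_2623 (IH : D.IHyp) : ed Gen.a V_14150 = V_14151 :=
  rfl
theorem F_2624 (IH : D.IHyp) : ed Gen.a V_14151 = V_14150 :=
  flipE D.rels D.S (hinv Gen.a) (F_2623 IH)
theorem F_2625 (IH : D.IHyp) : ed Gen.h V_14151 = V_14152 :=
  rfl
theorem F_2626 (IH : D.IHyp) : ed Gen.h V_14152 = V_14151 :=
  flipE D.rels D.S (hinv Gen.h) (F_2625 IH)
theorem F_2627 (IH : D.IHyp) : ed Gen.f V_14152 = V_14153 :=
  rfl
theorem F_2628 (IH : D.IHyp) : ed Gen.f V_14153 = V_14152 :=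
  flipE D.rels D.S (hinv Gen.f) (F_2627 IH)
theorem F_2629 (IH : D.IHyp) : ed Gen.e V_14153 = V_14154 :=
  rfl
theorem F_2630 (IH : D.IHyp) : ed Gen.e V_14154 = V_14153 :=
  flipE D.rels D.S (hinv Gen.e) (F_2629 IH)
theorem F_2631 (IH : D.IHyp) : ed Gen.d V_14154 = V_14155 :=
  rfl
theorem F_2632 (IH : D.IHyp) : ed Gen.d V_14155 = V_14154 :=
  flipE D.rels D.S (hinv Gen.d) (F_2631 IH)
theorem F_2633 (IH : D.IHyp) : ed Gen.c V_14155 = V_14156 :=
  rfl
theorem F_2634 (IH : D.IHyp) : ed Gen.c V_14156 = V_14155 :=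
  flipE D.rels D.S (hinv Gen.c) (F_2633 IH)
theorem F_2635 (IH : D.IHyp) : ed Gen.b V_14156 = V_14157 :=
  rfl
theorem F_2636 (IH : D.IHyp) : ed Gen.b V_14157 = V_14156 :=
  flipE D.rels D.S (hinv Gen.b) (F_2635 IH)
theorem F_2637 (IH : D.IHyp) : ed Gen.a V_14157 = V_14158 :=
  rfl
theorem F_2638 (IH : D.IHyp) : ed Gen.a V_14158 = V_14157 :=
  flipE D.rels D.S (hinv Gen.a) (F_2637 IH)
theorem F_2639 (IH : D.IHyp) : ed Gen.h V_14158 = V_14159 :=
  rfl
theorem F_2640 (IH : D.IHyp) : ed Gen.h V_14159 = V_14158 :=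
  flipE D.rels D.S (hinv Gen.h) (F_2639 IH)
theorem F_2641 (IH : D.IHyp) : ed Gen.f V_14159 = V_14160 :=
  rfl
theorem F_2642 (IH : D.IHyp) : ed Gen.f V_14160 = V_14159 :=
  flipE D.rels D.S (hinv Gen.f) (F_2641 IH)
theorem F_2643 (IH : D.IHyp) : ed Gen.e V_14160 = V_14161 :=
  rfl
theorem F_2644 (IH : D.IHyp) : ed Gen.e V_14161 = V_14160 :=
  flipE D.rels D.S (hinv Gen.e) (F_2643 IH)
theorem F_2645 (IH : D.IHyp) : ed Gen.d V_14161 = V_14162 :=
  rfl
theorem F_2646 (IH : D.IHyp) : ed Gen.d V_14162 = V_14161 :=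
  flipE D.rels D.S (hinv Gen.d) (F_2645 IH)
theorem F_2647 (IH : D.IHyp) : ed Gen.c V_14162 = V_14163 :=
  rfl
theorem F_2648 (IH : D.IHyp) : ed Gen.c V_14163 = V_14162 :=
  flipE D.rels D.S (hinv Gen.c) (F_2647 IH)
theorem F_2649 (IH : D.IHyp) : ed Gen.b V_14163 = V_14164 :=
  rfl
theorem F_2650 (IH : D.IHyp) : ed Gen.b V_14164 = V_14163 :=
  flipE D.rels D.S (hinv Gen.b) (F_2649 IH)
theorem F_2651 (IH : D.IHyp) : ed Gen.a V_14164 = V_14165 :=
  rfl
theorem F_2652 (IH : D.IHyp) : ed Gen.a V_14165 = V_14164 :=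
  flipE D.rels D.S (hinv Gen.a) (F_2651 IH)
theorem F_2653 (IH : D.IHyp) : ed Gen.h V_14165 = V_14166 :=
  rfl
theorem F_2654 (IH : D.IHyp) : ed Gen.h V_14166 = V_14165 :=
  flipE D.rels D.S (hinv Gen.h) (F_2653 IH)
theorem F_2655 (IH : D.IHyp) : ed Gen.f V_14085 = V_14166 :=
  gap_rel RW_41 (path_edge (F_707 IH) (path_edge (F_701 IH) (path_edge (F_706 IH) (path_edge (F_699 IH) (path_edge (F_7 IH) (path_edge (F_13 IH) (path_edge (F_146 IH) (path_edge (F_453 IH) (path_edge (F_475 IH) (path_edge (F_859 IH) (path_edge (F_1619 IH) (path_edge (F_2065 IH) (path_edge (F_2376 IH) (path_edge (F_2529 IH) (path_edge (F_2534 IH) (path_edge (F_2540 IH) (path_edge (F_2545 IH) (path_edge (F_2549 IH) (path_edge (F_2555 IH) (path_edge (F_2561 IH) (path_edge (F_2564 IH) (path_edge (F_2566 IH) (path_edge (F_2570 IH) (path_edge (F_2572 IH) (path_edge (F_2576 IH) (path_edge (F_2580 IH) (path_edge (F_2584 IH) (path_edge (F_2586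 IH) (path_edge (F_2588 IH) (path_edge (F_2590 IH) (path_edge (F_2592 IH) (path_edge (F_2594 IH) (path_edge (F_2596 IH) (path_edge (F_2598 IH) (path_edge (F_2600 IH) (path_edge (F_2602 IH) (path_edge (F_2604 IH) (path_edge (F_2606 IH) (path_edge (F_2608 IH) (path_edge (F_2610 IH) (path_edge (F_2612 IH) (path_edge (F_2614 IH) (path_edge (F_2616 IH) (path_edge (F_2618 IH) (path_edge (F_2620 IH) (path_edge (F_2622 IH) (path_edge (F_2624 IH) (path_edge (F_2626 IH) (path_edge (F_2628 IH) (path_edge (F_2630 IH) (path_edge (F_2632 IH) (path_edge (F_2634 IH) (path_edge (F_2636 IH) (path_edge (F_2638 IH) (path_edge (F_2640 IH) (path_edge (F_2642 IH) (path_edge (F_2644 IH) (path_edge (F_2646 IH) (path_edge (F_2648 IH) (path_edge (F_2650 IH) (path_edge (F_2652 IH) (path_edge (F_2654 IH) (path_nil _)))))))))))))))))))))))))))))))))))))))))))))))))))))))))))))))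
theorem F_2656 (IH : D.IHyp) : ed Gen.f V_14166 = V_14085 :=
  flipE D.rels D.S (hinv Gen.f) (F_2655 IH)
theorem F_2657 (IH : D.IHyp) : ed Gen.a V_14166 = V_14166 :=
  gap_rel RW_42 (path_edge (F_2655 IH) (path_edge (F_709 IH) (path_edge (F_2656 IH) (path_nil _))))
theorem F_2658 (IH : D.IHyp) : ed Gen.h V_14164 = V_14166 :=
  gap_rel RW_2 (path_edge (F_2652 IH) (path_edge (F_2654 IH) (path_edge (F_2657 IH) (path_nil _))))
theorem F_2659 (IH : D.IHyp) : ed Gen.h V_14166 = V_14164 :=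
  flipE D.rels D.S (hinv Gen.h) (F_2658 IH)
theorem F_2660 (IH : D.IHyp) : V_14165 = V_14164 :=
  edge_fun (F_2654 IH) (F_2659 IH)
theorem F_2662 (IH : D.IHyp) : ed Gen.h V_14164 = V_14166 :=
  edge_congr (F_2653 IH) (F_2660 IH)
theorem F_2663 (IH : D.IHyp) : ed Gen.h V_14166 = V_14164 :=
  flipE D.rels D.S (hinv Gen.h) (F_2662 IH)
theorem F_2664 (IH : D.IHyp) : ed Gen.b V_14166 = V_14089 :=
  gap_rel RW_17 (path_edge (F_2655 IH) (path_edge (F_710 IH) (path_edge (F_777 IH) (path_nil _))))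
theorem F_2665 (IH : D.IHyp) : ed Gen.b V_14089 = V_14166 :=
  flipE D.rels D.S (hinv Gen.b) (F_2664 IH)
theorem F_2666 (IH : D.IHyp) : V_14166 = V_14164 :=
  loop_rel RW_12 (path_edge (F_2663 IH) (path_edge (F_2665 IH) (path_edge (F_778 IH) (path_edge (F_2664 IH) (path_nil _)))))
theorem F_2669 (IH : D.IHyp) : ed Gen.b V_14164 = V_14089 :=
  edge_congr (F_2664 IH) (F_2666 IH)
theorem F_2670 (IH : D.IHyp) : V_14163 = V_14089 :=
  edge_fun (F_2650 IH) (F_2669 IH)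
theorem F_2672 (IH : D.IHyp) : ed Gen.f V_14164 = V_14085 :=
  edge_congr (F_2656 IH) (F_2666 IH)
theorem F_2673 (IH : D.IHyp) : ed Gen.f V_14085 = V_14164 :=
  flipE D.rels D.S (hinv Gen.f) (F_2672 IH)
theorem F_2675 (IH : D.IHyp) : ed Gen.b V_14089 = V_14164 :=
  edge_congr (F_2649 IH) (F_2670 IH)
theorem F_2676 (IH : D.IHyp) : ed Gen.b V_14164 = V_14089 :=
  flipE D.rels D.S (hinv Gen.b) (F_2675 IH)
theorem F_2677 (IH : D.IHyp) : ed Gen.c V_14089 = V_14162 :=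
  edge_congr (F_2648 IH) (F_2670 IH)
theorem F_2678 (IH : D.IHyp) : ed Gen.c V_14162 = V_14089 :=
  flipE D.rels D.S (hinv Gen.c) (F_2677 IH)
theorem F_2680 (IH : D.IHyp) : ed Gen.c V_14164 = V_14164 :=
  gap_rel RW_37 (path_edge (F_2673 IH) (path_edge (F_712 IH) (path_edge (F_2672 IH) (path_nil _))))
theorem F_2682 (IH : D.IHyp) : ed Gen.f V_14162 = V_14087 :=
  gap_rel RW_35 (path_edge (F_2677 IH) (path_edge (F_776 IH) (path_edge (F_733 IH) (path_nil _))))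
theorem F_2683 (IH : D.IHyp) : ed Gen.f V_14087 = V_14162 :=
  flipE D.rels D.S (hinv Gen.f) (F_2682 IH)
theorem F_2686 (IH : D.IHyp) : ed Gen.a V_14162 = (D.P 143) :=
  gap_rel RW_42 (path_edge (F_2683 IH) (path_edge (F_728 IH) (path_edge (F_334 IH) (path_nil _))))
theorem F_2687 (IH : D.IHyp) : ed Gen.a (D.P 143) = V_14162 :=
  flipE D.rels D.S (hinv Gen.a) (F_2686 IH)
theorem F_2689 (IH : D.IHyp) : ed Gen.a V_14161 = (D.P 143) :=
  gap_rel RW_28 (path_edge (F_2646 IH) (path_edge (F_2687 IH) (path_edge (F_337 IH) (path_nil _))))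
theorem F_2690 (IH : D.IHyp) : ed Gen.a (D.P 143) = V_14161 :=
  flipE D.rels D.S (hinv Gen.a) (F_2689 IH)
theorem F_2691 (IH : D.IHyp) : V_14162 = V_14161 :=
  edge_fun (F_2687 IH) (F_2690 IH)
theorem F_2692 (IH : D.IHyp) : ed Gen.a V_14161 = (D.P 143) :=
  edge_congr (F_2686 IH) (F_2691 IH)
theorem F_2693 (IH : D.IHyp) : ed Gen.a (D.P 143) = V_14161 :=
  flipE D.rels D.S (hinv Gen.a) (F_2692 IH)
theorem F_2696 (IH : D.IHyp) : ed Gen.c V_14161 = V_14089 :=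
  edge_congr (F_2678 IH) (F_2691 IH)
theorem F_2697 (IH : D.IHyp) : ed Gen.c V_14089 = V_14161 :=
  flipE D.rels D.S (hinv Gen.c) (F_2696 IH)
theorem F_2699 (IH : D.IHyp) : ed Gen.f V_14161 = V_14087 :=
  edge_congr (F_2682 IH) (F_2691 IH)
theorem F_2700 (IH : D.IHyp) : ed Gen.f V_14087 = V_14161 :=
  flipE D.rels D.S (hinv Gen.f) (F_2699 IH)
theorem F_2705 (IH : D.IHyp) : ed Gen.a V_14160 = (D.P 183) :=
  gap_rel RW_16 (path_edge (F_2644 IH) (path_edge (F_2693 IH) (path_edge (F_343 IH) (path_nil _))))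
theorem F_2708 (IH : D.IHyp) : ed Gen.c V_14160 = V_14090 :=
  gap_rel RW_5 (path_edge (F_2644 IH) (path_edge (F_2697 IH) (path_edge (F_781 IH) (path_nil _))))
theorem F_2709 (IH : D.IHyp) : ed Gen.c V_14090 = V_14160 :=
  flipE D.rels D.S (hinv Gen.c) (F_2708 IH)
theorem F_2712 (IH : D.IHyp) : ed Gen.e V_14159 = (D.P 130) :=
  gap_rel RW_24 (path_edge (F_2642 IH) (path_edge (F_2644 IH) (path_edge (F_2700 IH) (path_edge (F_725 IH) (path_edge (F_525 IH) (path_nil _))))))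
theorem F_2713 (IH : D.IHyp) : ed Gen.e (D.P 130) = V_14159 :=
  flipE D.rels D.S (hinv Gen.e) (F_2712 IH)
theorem F_2714 (IH : D.IHyp) : (D.P 176) = V_14159 :=
  edge_fun (F_144 IH) (F_2713 IH)
theorem F_2715 (IH : D.IHyp) : V_14159 = (D.P 176) :=
  (F_2714 IH).symm
theorem F_2719 (IH : D.IHyp) : ed Gen.h (D.P 176) = V_14158 :=
  edge_congr (F_2640 IH) (F_2715 IH)
theorem F_2720 (IH : D.IHyp) : (D.P 176) = V_14158 :=
  edge_fun (F_597 IH) (F_2719 IH)
theorem F_2722 (IH : D.IHyp) : V_14158 = (D.P 176) :=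
  (F_2720 IH).symm
theorem F_2723 (IH : D.IHyp) : ed Gen.a (D.P 176) = V_14157 :=
  edge_congr (F_2638 IH) (F_2722 IH)
theorem F_2724 (IH : D.IHyp) : (D.P 136) = V_14157 :=
  edge_fun (F_594 IH) (F_2723 IH)
theorem F_2727 (IH : D.IHyp) : V_14157 = (D.P 136) :=
  (F_2724 IH).symm
theorem F_2729 (IH : D.IHyp) : ed Gen.b (D.P 136) = V_14156 :=
  edge_congr (F_2636 IH) (F_2727 IH)
theorem F_2730 (IH : D.IHyp) : (D.P 101) = V_14156 :=
  edge_fun (F_855 IH) (F_2729 IH)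
theorem F_2732 (IH : D.IHyp) : V_14156 = (D.P 101) :=
  (F_2730 IH).symm
theorem F_2734 (IH : D.IHyp) : ed Gen.c (D.P 101) = V_14155 :=
  edge_congr (F_2634 IH) (F_2732 IH)
theorem F_2735 (IH : D.IHyp) : (D.P 101) = V_14155 :=
  edge_fun (F_856 IH) (F_2734 IH)
theorem F_2737 (IH : D.IHyp) : V_14155 = (D.P 101) :=
  (F_2735 IH).symm
theorem F_2739 (IH : D.IHyp) : ed Gen.d (D.P 101) = V_14154 :=
  edge_congr (F_2632 IH) (F_2737 IH)
theorem F_2740 (IH : D.IHyp) : (D.P 140) = V_14154 :=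
  edge_fun (F_167 IH) (F_2739 IH)
theorem F_2742 (IH : D.IHyp) : V_14154 = (D.P 140) :=
  (F_2740 IH).symm
theorem F_2744 (IH : D.IHyp) : ed Gen.e (D.P 140) = V_14153 :=
  edge_congr (F_2630 IH) (F_2742 IH)
theorem F_2745 (IH : D.IHyp) : (D.P 100) = V_14153 :=
  edge_fun (F_887 IH) (F_2744 IH)
theorem F_2747 (IH : D.IHyp) : V_14153 = (D.P 100) :=
  (F_2745 IH).symm
theorem F_2750 (IH : D.IHyp) : ed Gen.f (D.P 100) = V_14152 :=
  edge_congr (F_2628 IH) (F_2747 IH)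
theorem F_2751 (IH : D.IHyp) : (D.P 100) = V_14152 :=
  edge_fun (F_888 IH) (F_2750 IH)
theorem F_2753 (IH : D.IHyp) : V_14152 = (D.P 100) :=
  (F_2751 IH).symm
theorem F_2755 (IH : D.IHyp) : ed Gen.h (D.P 100) = V_14151 :=
  edge_congr (F_2626 IH) (F_2753 IH)
theorem F_2756 (IH : D.IHyp) : (D.P 138) = V_14151 :=
  edge_fun (F_252 IH) (F_2755 IH)
theorem F_2758 (IH : D.IHyp) : V_14151 = (D.P 138) :=
  (F_2756 IH).symm
theorem F_2759 (IH : D.IHyp) : ed Gen.a (D.P 138) = V_14150 :=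
  edge_congr (F_2624 IH) (F_2758 IH)
theorem F_2760 (IH : D.IHyp) : (D.P 138) = V_14150 :=
  edge_fun (F_923 IH) (F_2759 IH)
theorem F_2763 (IH : D.IHyp) : V_14150 = (D.P 138) :=
  (F_2760 IH).symm
theorem F_2765 (IH : D.IHyp) : ed Gen.b (D.P 138) = V_14149 :=
  edge_congr (F_2622 IH) (F_2763 IH)
theorem F_2766 (IH : D.IHyp) : (D.P 179) = V_14149 :=
  edge_fun (F_924 IH) (F_2765 IH)
theorem F_2768 (IH : D.IHyp) : V_14149 = (D.P 179) :=
  (F_2766 IH).symm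
theorem F_2770 (IH : D.IHyp) : ed Gen.c (D.P 179) = V_14148 :=
  edge_congr (F_2620 IH) (F_2768 IH)
theorem F_2771 (IH : D.IHyp) : (D.P 235) = V_14148 :=
  edge_fun (F_400 IH) (F_2770 IH)
theorem F_2773 (IH : D.IHyp) : V_14148 = (D.P 235) :=
  (F_2771 IH).symm
theorem F_2775 (IH : D.IHyp) : ed Gen.d (D.P 235) = V_14147 :=
  edge_congr (F_2618 IH) (F_2773 IH)
theorem F_2776 (IH : D.IHyp) : (D.P 304) = V_14147 :=
  edge_fun (F_925 IH) (F_2775 IH)
theorem F_2778 (IH : D.IHyp) : V_14147 = (D.P 304) :=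
  (F_2776 IH).symm
theorem F_2780 (IH : D.IHyp) : ed Gen.e (D.P 304) = V_14146 :=
  edge_congr (F_2616 IH) (F_2778 IH)
theorem F_2781 (IH : D.IHyp) : (D.P 397) = V_14146 :=
  edge_fun (F_926 IH) (F_2780 IH)
theorem F_2783 (IH : D.IHyp) : V_14146 = (D.P 397) :=
  (F_2781 IH).symm
theorem F_2785 (IH : D.IHyp) : ed Gen.f (D.P 397) = V_14145 :=
  edge_congr (F_2614 IH) (F_2783 IH)
theorem F_2786 (IH : D.IHyp) : (D.P 518) = V_14145 :=
  edge_fun (F_927 IH) (F_2785 IH)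
theorem F_2788 (IH : D.IHyp) : V_14145 = (D.P 518) :=
  (F_2786 IH).symm
theorem F_2790 (IH : D.IHyp) : ed Gen.h (D.P 518) = V_14144 :=
  edge_congr (F_2612 IH) (F_2788 IH)
theorem F_2791 (IH : D.IHyp) : (D.P 518) = V_14144 :=
  edge_fun (F_928 IH) (F_2790 IH)
theorem F_2793 (IH : D.IHyp) : V_14144 = (D.P 518) :=
  (F_2791 IH).symm
theorem F_2794 (IH : D.IHyp) : ed Gen.a (D.P 518) = V_14143 :=
  edge_congr (F_2610 IH) (F_2793 IH)
theorem F_2795 (IH : D.IHyp) : (D.P 522) = V_14143 :=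
  edge_fun (F_929 IH) (F_2794 IH)
theorem F_2798 (IH : D.IHyp) : V_14143 = (D.P 522) :=
  (F_2795 IH).symm
theorem F_2800 (IH : D.IHyp) : ed Gen.b (D.P 522) = V_14142 :=
  edge_congr (F_2608 IH) (F_2798 IH)
theorem F_2801 (IH : D.IHyp) : (D.P 672) = V_14142 :=
  edge_fun (F_930 IH) (F_2800 IH)
theorem F_2803 (IH : D.IHyp) : V_14142 = (D.P 672) :=
  (F_2801 IH).symm
theorem F_2805 (IH : D.IHyp) : ed Gen.c (D.P 672) = V_14141 :=
  edge_congr (F_2606 IH) (F_2803 IH)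
theorem F_2806 (IH : D.IHyp) : (D.P 536) = V_14141 :=
  edge_fun (F_931 IH) (F_2805 IH)
theorem F_2808 (IH : D.IHyp) : V_14141 = (D.P 536) :=
  (F_2806 IH).symm
theorem F_2811 (IH : D.IHyp) : ed Gen.d (D.P 536) = V_14140 :=
  edge_congr (F_2604 IH) (F_2808 IH)
theorem F_2812 (IH : D.IHyp) : (D.P 688) = V_14140 :=
  edge_fun (F_679 IH) (F_2811 IH)
theorem F_2814 (IH : D.IHyp) : V_14140 = (D.P 688) :=
  (F_2812 IH).symm
theorem F_2817 (IH : D.IHyp) : ed Gen.e (D.P 688) = V_14139 :=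
  edge_congr (F_2602 IH) (F_2814 IH)
theorem F_2818 (IH : D.IHyp) : (D.P 882) = V_14139 :=
  edge_fun (F_680 IH) (F_2817 IH)
theorem F_2820 (IH : D.IHyp) : V_14139 = (D.P 882) :=
  (F_2818 IH).symm
theorem F_2822 (IH : D.IHyp) : ed Gen.f (D.P 882) = V_14138 :=
  edge_congr (F_2600 IH) (F_2820 IH)
theorem F_2823 (IH : D.IHyp) : (D.P 882) = V_14138 :=
  edge_fun (F_681 IH) (F_2822 IH)
theorem F_2825 (IH : D.IHyp) : V_14138 = (D.P 882) :=
  (F_2823 IH).symm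
theorem F_2827 (IH : D.IHyp) : ed Gen.h (D.P 882) = V_14137 :=
  edge_congr (F_2598 IH) (F_2825 IH)
theorem F_2828 (IH : D.IHyp) : (D.P 1129) = V_14137 :=
  edge_fun (F_683 IH) (F_2827 IH)
theorem F_2830 (IH : D.IHyp) : V_14137 = (D.P 1129) :=
  (F_2828 IH).symm
theorem F_2831 (IH : D.IHyp) : ed Gen.a (D.P 1129) = V_14136 :=
  edge_congr (F_2596 IH) (F_2830 IH)
theorem F_2832 (IH : D.IHyp) : (D.P 1421) = V_14136 :=
  edge_fun (F_932 IH) (F_2831 IH)
theorem F_2835 (IH : D.IHyp) : V_14136 = (D.P 1421) :=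
  (F_2832 IH).symm
theorem F_2838 (IH : D.IHyp) : ed Gen.b (D.P 1421) = V_14135 :=
  edge_congr (F_2594 IH) (F_2835 IH)
theorem F_2839 (IH : D.IHyp) : (D.P 1421) = V_14135 :=
  edge_fun (F_933 IH) (F_2838 IH)
theorem F_2841 (IH : D.IHyp) : V_14135 = (D.P 1421) :=
  (F_2839 IH).symm
theorem F_2843 (IH : D.IHyp) : ed Gen.c (D.P 1421) = V_14134 :=
  edge_congr (F_2592 IH) (F_2841 IH)
theorem F_2844 (IH : D.IHyp) : (D.P 1769) = V_14134 :=
  edge_fun (F_934 IH) (F_2843 IH)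
theorem F_2846 (IH : D.IHyp) : V_14134 = (D.P 1769) :=
  (F_2844 IH).symm
theorem F_2849 (IH : D.IHyp) : ed Gen.d (D.P 1769) = V_14133 :=
  edge_congr (F_2590 IH) (F_2846 IH)
theorem F_2850 (IH : D.IHyp) : ed Gen.d V_14133 = (D.P 1769) :=
  flipE D.rels D.S (hinv Gen.d) (F_2849 IH)
theorem F_2851 (IH : D.IHyp) : ed Gen.f (D.P 141) = (D.P 101) :=
  D.real_edge' IH Gen.f 141 101 (by decide +kernel)
theorem F_2856 (IH : D.IHyp) : ed Gen.b (D.P 183) = (D.P 141) :=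
  D.real_edge' IH Gen.b 183 141 (by decide +kernel)
theorem F_2878 (IH : D.IHyp) : ed Gen.b (D.P 186) = (D.P 236) :=
  D.real_edge' IH Gen.b 186 236 (by decide +kernel)
theorem F_2907 (IH : D.IHyp) : ed Gen.h (D.P 34) = (D.P 23) :=
  D.real_edge' IH Gen.h 34 23 (by decide +kernel)
theorem F_2910 (IH : D.IHyp) : ed Gen.f (D.P 246) = (D.P 186) :=
  D.real_edge' IH Gen.f 246 186 (by decide +kernel)
theorem F_2911 (IH : D.IHyp) : ed Gen.e (D.P 186) = (D.P 138) :=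
  D.real_edge' IH Gen.e 186 138 (by decide +kernel)
theorem F_2912 (IH : D.IHyp) : ed Gen.b (D.P 99) = (D.P 133) :=
  D.real_edge' IH Gen.b 99 133 (by decide +kernel)
theorem F_2913 (IH : D.IHyp) : ed Gen.i (D.P 233) = (D.P 230) :=
  D.real_edge' IH Gen.i 233 230 (by decide +kernel)
theorem F_2918 (IH : D.IHyp) : ed Gen.e (D.P 236) = (D.P 179) :=
  D.real_edge' IH Gen.e 236 179 (by decide +kernel)
theorem F_2956 (IH : D.IHyp) : ed Gen.f (D.P 1769) = (D.P 1769) :=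
  D.real_edge' IH Gen.f 1769 1769 (by decide +kernel)
theorem F_2980 (IH : D.IHyp) : ed Gen.f V_14133 = V_14133 :=
  gap_rel RW_34 (path_edge (F_2849 IH) (path_edge (F_2956 IH) (path_edge (F_2850 IH) (path_nil _))))
theorem F_3026 (IH : D.IHyp) : ed Gen.a (D.P 673) = (D.P 668) :=
  D.real_edge' IH Gen.a 673 668 (by decide +kernel)
theorem F_3038 (IH : D.IHyp) : ed Gen.b (D.P 1431) = (D.P 1133) :=
  D.real_edge' IH Gen.b 1431 1133 (by decide +kernel)
theorem F_3069 (IH : D.IHyp) : ed Gen.h (D.P 1113) = (D.P 1412) :=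
  D.real_edge' IH Gen.h 1113 1412 (by decide +kernel)
theorem F_3072 (IH : D.IHyp) : ed Gen.e V_14131 = V_14131 :=
  gap_rel RW_24 (path_edge (F_2586 IH) (path_edge (F_2588 IH) (path_edge (F_2980 IH) (path_edge (F_2587 IH) (path_edge (F_2585 IH) (path_nil _))))))
theorem F_3074 (IH : D.IHyp) : ed Gen.e V_14130 = V_14130 :=
  gap_rel RW_26 (path_edge (F_2584 IH) (path_edge (F_3072 IH) (path_edge (F_2583 IH) (path_nil _))))
theorem F_3075 (IH : D.IHyp) : ed Gen.e V_14129 = V_14129 :=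
  gap_rel RW_8 (path_edge (F_2580 IH) (path_edge (F_3074 IH) (path_edge (F_2579 IH) (path_nil _))))
theorem F_3076 (IH : D.IHyp) : ed Gen.e V_14128 = V_14128 :=
  gap_rel RW_31 (path_edge (F_2576 IH) (path_edge (F_3075 IH) (path_edge (F_2575 IH) (path_nil _))))
theorem F_3077 (IH : D.IHyp) : ed Gen.e V_14127 = V_14127 :=
  gap_rel RW_29 (path_edge (F_2572 IH) (path_edge (F_3076 IH) (path_edge (F_2571 IH) (path_nil _))))
theorem F_3078 (IH : D.IHyp) : ed Gen.d V_14125 = V_14125 :=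
  gap_rel RW_19 (path_edge (F_2566 IH) (path_edge (F_2570 IH) (path_edge (F_3077 IH) (path_edge (F_2569 IH) (path_edge (F_2565 IH) (path_nil _))))))
theorem F_3079 (IH : D.IHyp) : V_14125 = V_14124 :=
  loop_rel RW_43 (path_edge (F_2561 IH) (path_edge (F_3078 IH) (path_edge (F_2560 IH) (path_edge (F_2558 IH) (path_edge (F_2561 IH) (path_edge (F_3078 IH) (path_nil _)))))))
theorem F_3080 (IH : D.IHyp) : ed Gen.c V_14124 = V_14106 :=
  edge_congr (F_2563 IH) (F_3079 IH)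
theorem F_3081 (IH : D.IHyp) : V_14108 = V_14106 :=
  edge_fun (F_2556 IH) (F_3080 IH)
theorem F_3090 (IH : D.IHyp) : ed Gen.a V_14106 = V_14109 :=
  edge_congr (F_1994 IH) (F_3081 IH)
theorem F_3096 (IH : D.IHyp) : ed Gen.h V_14106 = V_14106 :=
  edge_congr (F_2527 IH) (F_3081 IH)
theorem F_3105 (IH : D.IHyp) : ed Gen.e V_14086 = V_14167 :=
  rfl
theorem F_3106 (IH : D.IHyp) : ed Gen.e V_14167 = V_14086 :=
  flipE D.rels D.S (hinv Gen.e) (F_3105 IH)
theorem F_3108 (IH : D.IHyp) : ed Gen.b V_14091 = V_14167 :=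
  gap_rel RW_4 (path_edge (F_788 IH) (path_edge (F_720 IH) (path_edge (F_3106 IH) (path_nil _))))
theorem F_3109 (IH : D.IHyp) : ed Gen.b V_14167 = V_14091 :=
  flipE D.rels D.S (hinv Gen.b) (F_3108 IH)
theorem F_3113 (IH : D.IHyp) : ed Gen.d V_14167 = V_14168 :=
  rfl
theorem F_3114 (IH : D.IHyp) : ed Gen.d V_14168 = V_14167 :=
  flipE D.rels D.S (hinv Gen.d) (F_3113 IH)
theorem F_3116 (IH : D.IHyp) : ed Gen.b V_14118 = V_14168 :=
  gap_rel RW_38 (path_edge (F_2014 IH) (path_edge (F_3109 IH) (path_edge (F_3114 IH) (path_nil _))))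
theorem F_3117 (IH : D.IHyp) : ed Gen.b V_14168 = V_14118 :=
  flipE D.rels D.S (hinv Gen.b) (F_3116 IH)
theorem F_3119 (IH : D.IHyp) : ed Gen.e V_14168 = V_14168 :=
  gap_rel RW_22 (path_edge (F_3113 IH) (path_edge (F_3105 IH) (path_edge (F_722 IH) (path_edge (F_3106 IH) (path_edge (F_3114 IH) (path_nil _))))))
theorem F_3120 (IH : D.IHyp) : ed Gen.c V_14168 = V_14169 :=
  rfl
theorem F_3121 (IH : D.IHyp) : ed Gen.c V_14169 = V_14168 :=
  flipE D.rels D.S (hinv Gen.c) (F_3120 IH)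
theorem F_3123 (IH : D.IHyp) : ed Gen.e V_14169 = V_14169 :=
  gap_rel RW_29 (path_edge (F_3120 IH) (path_edge (F_3119 IH) (path_edge (F_3121 IH) (path_nil _))))
theorem F_3126 (IH : D.IHyp) : ed Gen.b V_14169 = V_14170 :=
  rfl
theorem F_3127 (IH : D.IHyp) : ed Gen.b V_14170 = V_14169 :=
  flipE D.rels D.S (hinv Gen.b) (F_3126 IH)
theorem F_3129 (IH : D.IHyp) : ed Gen.e V_14170 = V_14170 :=
  gap_rel RW_31 (path_edge (F_3126 IH) (path_edge (F_3123 IH) (path_edge (F_3127 IH) (path_nil _))))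
theorem F_3131 (IH : D.IHyp) : ed Gen.c V_14170 = V_14116 :=
  gap_rel RW_15 (path_edge (F_3126 IH) (path_edge (F_3120 IH) (path_edge (F_3116 IH) (path_edge (F_2012 IH) (path_edge (F_2010 IH) (path_nil _))))))
theorem F_3132 (IH : D.IHyp) : ed Gen.c V_14116 = V_14170 :=
  flipE D.rels D.S (hinv Gen.c) (F_3131 IH)
theorem F_3133 (IH : D.IHyp) : ed Gen.a V_14170 = V_14171 :=
  rfl
theorem F_3134 (IH : D.IHyp) : ed Gen.a V_14171 = V_14170 :=
  flipE D.rels D.S (hinv Gen.a) (F_3133 IH)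
theorem F_3135 (IH : D.IHyp) : ed Gen.c V_14171 = V_14115 :=
  gap_rel RW_9 (path_edge (F_3133 IH) (path_edge (F_3132 IH) (path_edge (F_2008 IH) (path_nil _))))
theorem F_3138 (IH : D.IHyp) : ed Gen.e V_14171 = V_14171 :=
  gap_rel RW_8 (path_edge (F_3133 IH) (path_edge (F_3129 IH) (path_edge (F_3134 IH) (path_nil _))))
theorem F_3141 (IH : D.IHyp) : ed Gen.h V_14171 = V_14172 :=
  rfl
theorem F_3142 (IH : D.IHyp) : ed Gen.h V_14172 = V_14171 :=
  flipE D.rels D.S (hinv Gen.h) (F_3141 IH)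
theorem F_3144 (IH : D.IHyp) : ed Gen.c V_14114 = V_14172 :=
  gap_rel RW_39 (path_edge (F_2007 IH) (path_edge (F_3135 IH) (path_edge (F_3142 IH) (path_nil _))))
theorem F_3145 (IH : D.IHyp) : ed Gen.c V_14172 = V_14114 :=
  flipE D.rels D.S (hinv Gen.c) (F_3144 IH)
theorem F_3146 (IH : D.IHyp) : ed Gen.e V_14172 = V_14172 :=
  gap_rel RW_26 (path_edge (F_3141 IH) (path_edge (F_3138 IH) (path_edge (F_3142 IH) (path_nil _))))
theorem F_3147 (IH : D.IHyp) : ed Gen.f V_14172 = V_14173 :=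
  rfl
theorem F_3148 (IH : D.IHyp) : ed Gen.f V_14173 = V_14172 :=
  flipE D.rels D.S (hinv Gen.f) (F_3147 IH)
theorem F_3150 (IH : D.IHyp) : ed Gen.c V_14113 = V_14173 :=
  gap_rel RW_37 (path_edge (F_2005 IH) (path_edge (F_3145 IH) (path_edge (F_3148 IH) (path_nil _))))
theorem F_3151 (IH : D.IHyp) : ed Gen.c V_14173 = V_14113 :=
  flipE D.rels D.S (hinv Gen.c) (F_3150 IH)
theorem F_3152 (IH : D.IHyp) : ed Gen.e V_14173 = V_14174 :=
  rfl
theorem F_3153 (IH : D.IHyp) : ed Gen.e V_14174 = V_14173 :=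
  flipE D.rels D.S (hinv Gen.e) (F_3152 IH)
theorem F_3155 (IH : D.IHyp) : ed Gen.c V_14112 = V_14174 :=
  gap_rel RW_5 (path_edge (F_2003 IH) (path_edge (F_3151 IH) (path_edge (F_3153 IH) (path_nil _))))
theorem F_3157 (IH : D.IHyp) : ed Gen.f V_14174 = V_14174 :=
  gap_rel RW_25 (path_edge (F_3152 IH) (path_edge (F_3147 IH) (path_edge (F_3146 IH) (path_edge (F_3148 IH) (path_edge (F_3153 IH) (path_nil _))))))
theorem F_3158 (IH : D.IHyp) : ed Gen.d V_14174 = V_14175 :=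
  rfl
theorem F_3159 (IH : D.IHyp) : ed Gen.d V_14175 = V_14174 :=
  flipE D.rels D.S (hinv Gen.d) (F_3158 IH)
theorem F_3161 (IH : D.IHyp) : ed Gen.f V_14175 = V_14175 :=
  gap_rel RW_34 (path_edge (F_3158 IH) (path_edge (F_3157 IH) (path_edge (F_3159 IH) (path_nil _))))
theorem F_3162 (IH : D.IHyp) : ed Gen.c V_14175 = V_14176 :=
  rfl
theorem F_3163 (IH : D.IHyp) : ed Gen.c V_14176 = V_14175 :=
  flipE D.rels D.S (hinv Gen.c) (F_3162 IH)
theorem F_3164 (IH : D.IHyp) : ed Gen.f V_14176 = V_14176 :=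
  gap_rel RW_35 (path_edge (F_3162 IH) (path_edge (F_3161 IH) (path_edge (F_3163 IH) (path_nil _))))
theorem F_3165 (IH : D.IHyp) : ed Gen.d V_14176 = V_14110 :=
  gap_rel RW_30 (path_edge (F_3162 IH) (path_edge (F_3158 IH) (path_edge (F_3155 IH) (path_edge (F_2000 IH) (path_edge (F_1998 IH) (path_nil _))))))
theorem F_3166 (IH : D.IHyp) : ed Gen.d V_14110 = V_14176 :=
  flipE D.rels D.S (hinv Gen.d) (F_3165 IH)
theorem F_3167 (IH : D.IHyp) : ed Gen.b V_14176 = V_14177 :=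
  rfl
theorem F_3168 (IH : D.IHyp) : ed Gen.b V_14177 = V_14176 :=
  flipE D.rels D.S (hinv Gen.b) (F_3167 IH)
theorem F_3169 (IH : D.IHyp) : ed Gen.d V_14177 = V_14109 :=
  gap_rel RW_11 (path_edge (F_3167 IH) (path_edge (F_3166 IH) (path_edge (F_1996 IH) (path_nil _))))
theorem F_3170 (IH : D.IHyp) : ed Gen.d V_14109 = V_14177 :=
  flipE D.rels D.S (hinv Gen.d) (F_3169 IH)
theorem F_3171 (IH : D.IHyp) : ed Gen.f V_14177 = V_14177 :=
  gap_rel RW_36 (path_edge (F_3167 IH) (path_edge (F_3164 IH) (path_edge (F_3168 IH) (path_nil _))))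
theorem F_3173 (IH : D.IHyp) : ed Gen.a V_14177 = V_14178 :=
  rfl
theorem F_3174 (IH : D.IHyp) : ed Gen.a V_14178 = V_14177 :=
  flipE D.rels D.S (hinv Gen.a) (F_3173 IH)
theorem F_3176 (IH : D.IHyp) : ed Gen.d V_14178 = V_14106 :=
  gap_rel RW_1 (path_edge (F_3173 IH) (path_edge (F_3170 IH) (path_edge (F_3090 IH) (path_nil _))))
theorem F_3177 (IH : D.IHyp) : ed Gen.d V_14106 = V_14178 :=
  flipE D.rels D.S (hinv Gen.d) (F_3176 IH)
theorem F_3178 (IH : D.IHyp) : ed Gen.f V_14178 = V_14178 :=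
  gap_rel RW_10 (path_edge (F_3173 IH) (path_edge (F_3171 IH) (path_edge (F_3174 IH) (path_nil _))))
theorem F_3179 (IH : D.IHyp) : ed Gen.h V_14178 = V_14179 :=
  rfl
theorem F_3180 (IH : D.IHyp) : ed Gen.h V_14179 = V_14178 :=
  flipE D.rels D.S (hinv Gen.h) (F_3179 IH)
theorem F_3182 (IH : D.IHyp) : ed Gen.f V_14179 = V_14179 :=
  gap_rel RW_40 (path_edge (F_3179 IH) (path_edge (F_3178 IH) (path_edge (F_3180 IH) (path_nil _))))
theorem F_3183 (IH : D.IHyp) : ed Gen.d V_14179 = V_14179 :=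
  gap_rel RW_44 (path_edge (F_3179 IH) (path_edge (F_3177 IH) (path_edge (F_3096 IH) (path_edge (F_3176 IH) (path_edge (F_3180 IH) (path_nil _))))))
theorem F_3184 (IH : D.IHyp) : ed Gen.e V_14179 = V_14180 :=
  rfl
theorem F_3185 (IH : D.IHyp) : ed Gen.e V_14180 = V_14179 :=
  flipE D.rels D.S (hinv Gen.e) (F_3184 IH)
theorem F_3187 (IH : D.IHyp) : ed Gen.d V_14180 = V_14181 :=
  rfl
theorem F_3188 (IH : D.IHyp) : ed Gen.d V_14181 = V_14180 :=
  flipE D.rels D.S (hinv Gen.d) (F_3187 IH)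
theorem F_3189 (IH : D.IHyp) : ed Gen.e V_14181 = V_14181 :=
  gap_rel RW_22 (path_edge (F_3187 IH) (path_edge (F_3184 IH) (path_edge (F_3183 IH) (path_edge (F_3185 IH) (path_edge (F_3188 IH) (path_nil _))))))
theorem F_3190 (IH : D.IHyp) : ed Gen.c V_14181 = V_14182 :=
  rfl
theorem F_3191 (IH : D.IHyp) : ed Gen.c V_14182 = V_14181 :=
  flipE D.rels D.S (hinv Gen.c) (F_3190 IH)
theorem F_3192 (IH : D.IHyp) : ed Gen.e V_14182 = V_14182 :=
  gap_rel RW_29 (path_edge (F_3190 IH) (path_edge (F_3189 IH) (path_edge (F_3191 IH) (path_nil _))))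
theorem F_3194 (IH : D.IHyp) : ed Gen.b V_14182 = V_14183 :=
  rfl
theorem F_3195 (IH : D.IHyp) : ed Gen.b V_14183 = V_14182 :=
  flipE D.rels D.S (hinv Gen.b) (F_3194 IH)
theorem F_3197 (IH : D.IHyp) : ed Gen.e V_14183 = V_14183 :=
  gap_rel RW_31 (path_edge (F_3194 IH) (path_edge (F_3192 IH) (path_edge (F_3195 IH) (path_nil _))))
theorem F_3198 (IH : D.IHyp) : ed Gen.a V_14183 = V_14184 :=
  rfl
theorem F_3199 (IH : D.IHyp) : ed Gen.a V_14184 = V_14183 :=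
  flipE D.rels D.S (hinv Gen.a) (F_3198 IH)
theorem F_3201 (IH : D.IHyp) : ed Gen.e V_14184 = V_14184 :=
  gap_rel RW_8 (path_edge (F_3198 IH) (path_edge (F_3197 IH) (path_edge (F_3199 IH) (path_nil _))))
theorem F_3202 (IH : D.IHyp) : ed Gen.h V_14184 = V_14185 :=
  rfl
theorem F_3203 (IH : D.IHyp) : ed Gen.h V_14185 = V_14184 :=
  flipE D.rels D.S (hinv Gen.h) (F_3202 IH)
theorem F_3204 (IH : D.IHyp) : ed Gen.e V_14185 = V_14185 :=
  gap_rel RW_26 (path_edge (F_3202 IH) (path_edge (F_3201 IH) (path_edge (F_3203 IH) (path_nil _))))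
theorem F_3205 (IH : D.IHyp) : ed Gen.f V_14185 = V_14186 :=
  rfl
theorem F_3206 (IH : D.IHyp) : ed Gen.f V_14186 = V_14185 :=
  flipE D.rels D.S (hinv Gen.f) (F_3205 IH)
theorem F_3207 (IH : D.IHyp) : ed Gen.e V_14186 = V_14187 :=
  rfl
theorem F_3208 (IH : D.IHyp) : ed Gen.e V_14187 = V_14186 :=
  flipE D.rels D.S (hinv Gen.e) (F_3207 IH)
theorem F_3209 (IH : D.IHyp) : ed Gen.f V_14187 = V_14187 :=
  gap_rel RW_25 (path_edge (F_3207 IH) (path_edge (F_3205 IH) (path_edge (F_3204 IH) (path_edge (F_3206 IH) (path_edge (F_3208 IH) (path_nil _))))))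
theorem F_3210 (IH : D.IHyp) : ed Gen.d V_14187 = V_14188 :=
  rfl
theorem F_3211 (IH : D.IHyp) : ed Gen.d V_14188 = V_14187 :=
  flipE D.rels D.S (hinv Gen.d) (F_3210 IH)
theorem F_3212 (IH : D.IHyp) : ed Gen.f V_14188 = V_14188 :=
  gap_rel RW_34 (path_edge (F_3210 IH) (path_edge (F_3209 IH) (path_edge (F_3211 IH) (path_nil _))))
theorem F_3213 (IH : D.IHyp) : ed Gen.c V_14188 = V_14189 :=
  rfl
theorem F_3214 (IH : D.IHyp) : ed Gen.c V_14189 = V_14188 :=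
  flipE D.rels D.S (hinv Gen.c) (F_3213 IH)
theorem F_3215 (IH : D.IHyp) : ed Gen.f V_14189 = V_14189 :=
  gap_rel RW_35 (path_edge (F_3213 IH) (path_edge (F_3212 IH) (path_edge (F_3214 IH) (path_nil _))))
theorem F_3216 (IH : D.IHyp) : ed Gen.b V_14189 = V_14190 :=
  rfl
theorem F_3217 (IH : D.IHyp) : ed Gen.b V_14190 = V_14189 :=
  flipE D.rels D.S (hinv Gen.b) (F_3216 IH)
theorem F_3218 (IH : D.IHyp) : ed Gen.f V_14190 = V_14190 :=
  gap_rel RW_36 (path_edge (F_3216 IH) (path_edge (F_3215 IH) (path_edge (F_3217 IH) (path_nil _))))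
theorem F_3219 (IH : D.IHyp) : ed Gen.a V_14190 = V_14191 :=
  rfl
theorem F_3220 (IH : D.IHyp) : ed Gen.a V_14191 = V_14190 :=
  flipE D.rels D.S (hinv Gen.a) (F_3219 IH)
theorem F_3221 (IH : D.IHyp) : ed Gen.f V_14191 = V_14191 :=
  gap_rel RW_10 (path_edge (F_3219 IH) (path_edge (F_3218 IH) (path_edge (F_3220 IH) (path_nil _))))
theorem F_3222 (IH : D.IHyp) : ed Gen.h V_14191 = V_14192 :=
  rfl
theorem F_3223 (IH : D.IHyp) : ed Gen.h V_14192 = V_14191 :=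
  flipE D.rels D.S (hinv Gen.h) (F_3222 IH)
theorem F_3224 (IH : D.IHyp) : ed Gen.f V_14192 = V_14192 :=
  gap_rel RW_40 (path_edge (F_3222 IH) (path_edge (F_3221 IH) (path_edge (F_3223 IH) (path_nil _))))
theorem F_3225 (IH : D.IHyp) : ed Gen.e V_14192 = V_14193 :=
  rfl
theorem F_3226 (IH : D.IHyp) : ed Gen.e V_14193 = V_14192 :=
  flipE D.rels D.S (hinv Gen.e) (F_3225 IH)
theorem F_3227 (IH : D.IHyp) : ed Gen.d V_14193 = V_14194 :=
  rfl
theorem F_3228 (IH : D.IHyp) : ed Gen.d V_14194 = V_14193 :=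
  flipE D.rels D.S (hinv Gen.d) (F_3227 IH)
theorem F_3229 (IH : D.IHyp) : ed Gen.c V_14194 = (D.P 183) :=
  gap_rel RW_45 (path_edge (F_3227 IH) (path_edge (F_3225 IH) (path_edge (F_3224 IH) (path_edge (F_3222 IH) (path_edge (F_3219 IH) (path_edge (F_3216 IH) (path_edge (F_3213 IH) (path_edge (F_3210 IH) (path_edge (F_3207 IH) (path_edge (F_3205 IH) (path_edge (F_3202 IH) (path_edge (F_3198 IH) (path_edge (F_3194 IH) (path_edge (F_3190 IH) (path_edge (F_3187 IH) (path_edge (F_3184 IH) (path_edge (F_3182 IH) (path_edge (F_3179 IH) (path_edge (F_3173 IH) (path_edge (F_3167 IH) (path_edge (F_3162 IH) (path_edge (F_3158 IH) (path_edge (F_3152 IH) (path_edge (F_3147 IH) (path_edge (F_3141 IH) (path_edge (F_3133 IH) (path_edge (F_3126 IH) (path_edge (F_3120 IH) (path_edge (F_3113 IH) (path_edge (F_3105 IH) (path_edge (F_716 IH) (path_edge (F_703 IH) (path_edge (F_705 IH) (path_edge (F_699 IH) (path_edge (F_0 IH)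 (path_edge (F_25 IH) (path_edge (F_61 IH) (path_edge (F_591 IH) (path_edge (F_608 IH) (path_edge (F_30 IH) (path_edge (F_653 IH) (path_edge (F_413 IH) (path_edge (F_120 IH) (path_edge (F_68 IH) (path_edge (F_411 IH) (path_edge (F_70 IH) (path_edge (F_71 IH) (path_edge (F_72 IH) (path_edge (F_73 IH) (path_edge (F_122 IH) (path_edge (F_75 IH) (path_edge (F_121 IH) (path_edge (F_2907 IH) (path_edge (F_78 IH) (path_edge (F_79 IH) (path_edge (F_225 IH) (path_edge (F_224 IH) (path_edge (F_2200 IH) (path_edge (F_2851 IH) (path_edge (F_84 IH) (path_edge (F_85 IH) (path_edge (F_2856 IH) (path_nil _)))))))))))))))))))))))))))))))))))))))))))))))))))))))))))))))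
theorem F_3230 (IH : D.IHyp) : ed Gen.c (D.P 183) = V_14194 :=
  flipE D.rels D.S (hinv Gen.c) (F_3229 IH)
theorem F_3231 (IH : D.IHyp) : ed Gen.a V_14194 = V_14090 :=
  gap_rel RW_0 (path_edge (F_3230 IH) (path_edge (F_2705 IH) (path_edge (F_2709 IH) (path_nil _))))
theorem F_3232 (IH : D.IHyp) : ed Gen.a V_14090 = V_14194 :=
  flipE D.rels D.S (hinv Gen.a) (F_3231 IH)
theorem F_3233 (IH : D.IHyp) : ed Gen.f (D.P 182) = V_14194 :=
  gap_rel RW_10 (path_edge (F_790 IH) (path_edge (F_784 IH) (path_edge (F_3231 IH) (path_nil _))))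
theorem F_3234 (IH : D.IHyp) : ed Gen.f V_14194 = (D.P 182) :=
  flipE D.rels D.S (hinv Gen.f) (F_3233 IH)
theorem F_3237 (IH : D.IHyp) : ed Gen.b V_14194 = V_14194 :=
  gap_rel RW_17 (path_edge (F_3233 IH) (path_edge (F_452 IH) (path_edge (F_3234 IH) (path_nil _))))
theorem F_3238 (IH : D.IHyp) : ed Gen.b V_14193 = V_14193 :=
  gap_rel RW_38 (path_edge (F_3228 IH) (path_edge (F_3237 IH) (path_edge (F_3227 IH) (path_nil _))))
theorem F_3239 (IH : D.IHyp) : ed Gen.f V_14193 = (D.P 240) :=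
  gap_rel RW_34 (path_edge (F_3228 IH) (path_edge (F_3233 IH) (path_edge (F_475 IH) (path_nil _))))
theorem F_3240 (IH : D.IHyp) : ed Gen.f (D.P 240) = V_14193 :=
  flipE D.rels D.S (hinv Gen.f) (F_3239 IH)
theorem F_3242 (IH : D.IHyp) : ed Gen.b V_14192 = V_14192 :=
  gap_rel RW_4 (path_edge (F_3226 IH) (path_edge (F_3238 IH) (path_edge (F_3225 IH) (path_nil _))))
theorem F_3244 (IH : D.IHyp) : ed Gen.b V_14191 = V_14191 :=
  gap_rel RW_33 (path_edge (F_3223 IH) (path_edge (F_3242 IH) (path_edge (F_3222 IH) (path_nil _))))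
theorem F_3245 (IH : D.IHyp) : ed Gen.a V_14189 = V_14189 :=
  gap_rel RW_14 (path_edge (F_3217 IH) (path_edge (F_3220 IH) (path_edge (F_3244 IH) (path_edge (F_3219 IH) (path_edge (F_3216 IH) (path_nil _))))))
theorem F_3246 (IH : D.IHyp) : ed Gen.a V_14188 = V_14188 :=
  gap_rel RW_0 (path_edge (F_3214 IH) (path_edge (F_3245 IH) (path_edge (F_3213 IH) (path_nil _))))
theorem F_3247 (IH : D.IHyp) : ed Gen.a V_14187 = V_14187 :=
  gap_rel RW_28 (path_edge (F_3211 IH) (path_edge (F_3246 IH) (path_edge (F_3210 IH) (path_nil _))))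
theorem F_3248 (IH : D.IHyp) : ed Gen.a V_14186 = V_14186 :=
  gap_rel RW_16 (path_edge (F_3208 IH) (path_edge (F_3247 IH) (path_edge (F_3207 IH) (path_nil _))))
theorem F_3249 (IH : D.IHyp) : ed Gen.a V_14185 = V_14185 :=
  gap_rel RW_42 (path_edge (F_3206 IH) (path_edge (F_3248 IH) (path_edge (F_3205 IH) (path_nil _))))
theorem F_3250 (IH : D.IHyp) : ed Gen.h V_14183 = V_14185 :=
  gap_rel RW_2 (path_edge (F_3199 IH) (path_edge (F_3203 IH) (path_edge (F_3249 IH) (path_nil _))))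
theorem F_3251 (IH : D.IHyp) : ed Gen.h V_14185 = V_14183 :=
  flipE D.rels D.S (hinv Gen.h) (F_3250 IH)
theorem F_3252 (IH : D.IHyp) : V_14184 = V_14183 :=
  edge_fun (F_3203 IH) (F_3251 IH)
theorem F_3253 (IH : D.IHyp) : ed Gen.a V_14183 = V_14183 :=
  edge_congr (F_3199 IH) (F_3252 IH)
theorem F_3258 (IH : D.IHyp) : ed Gen.h V_14183 = V_14185 :=
  edge_congr (F_3202 IH) (F_3252 IH)
theorem F_3259 (IH : D.IHyp) : ed Gen.h V_14185 = V_14183 :=
  flipE D.rels D.S (hinv Gen.h) (F_3258 IH)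
theorem F_3260 (IH : D.IHyp) : ed Gen.h (D.P 1411) = V_14195 :=
  rfl
theorem F_3261 (IH : D.IHyp) : ed Gen.h V_14195 = (D.P 1411) :=
  flipE D.rels D.S (hinv Gen.h) (F_3260 IH)
theorem F_3262 (IH : D.IHyp) : ed Gen.f (D.P 1411) = (D.P 1113) :=
  D.real_edge' IH Gen.f 1411 1113 (by decide +kernel)
theorem F_3284 (IH : D.IHyp) : ed Gen.f (D.P 1412) = V_14195 :=
  gap_rel RW_40 (path_edge (F_3069 IH) (path_edge (F_3262 IH) (path_edge (F_3261 IH) (path_nil _))))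
theorem F_3285 (IH : D.IHyp) : ed Gen.f V_14195 = (D.P 1412) :=
  flipE D.rels D.S (hinv Gen.f) (F_3284 IH)
theorem F_3313 (IH : D.IHyp) : ed Gen.d (D.P 1752) = (D.P 2169) :=
  D.real_edge' IH Gen.d 1752 2169 (by decide +kernel)
theorem F_3314 (IH : D.IHyp) : ed Gen.c (D.P 2169) = (D.P 2664) :=
  D.real_edge' IH Gen.c 2169 2664 (by decide +kernel)
theorem F_3315 (IH : D.IHyp) : ed Gen.b (D.P 2664) = (D.P 2664) :=
  D.real_edge' IH Gen.b 2664 2664 (by decide +kernel)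
theorem F_3316 (IH : D.IHyp) : ed Gen.a (D.P 2664) = (D.P 2664) :=
  D.real_edge' IH Gen.a 2664 2664 (by decide +kernel)
theorem F_3317 (IH : D.IHyp) : ed Gen.h (D.P 2664) = (D.P 2664) :=
  D.real_edge' IH Gen.h 2664 2664 (by decide +kernel)
theorem F_3318 (IH : D.IHyp) : ed Gen.f (D.P 2664) = (D.P 3265) :=
  D.real_edge' IH Gen.f 2664 3265 (by decide +kernel)
theorem F_3329 (IH : D.IHyp) : ed Gen.e (D.P 245) = (D.P 185) :=
  D.real_edge' IH Gen.e 245 185 (by decide +kernel)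
theorem F_3381 (IH : D.IHyp) : ed Gen.e (D.P 96) = (D.P 67) :=
  D.real_edge' IH Gen.e 96 67 (by decide +kernel)
theorem F_3438 (IH : D.IHyp) : ed Gen.e (D.P 3265) = V_14196 :=
  rfl
theorem F_3439 (IH : D.IHyp) : ed Gen.e V_14196 = (D.P 3265) :=
  flipE D.rels D.S (hinv Gen.e) (F_3438 IH)
theorem F_3445 (IH : D.IHyp) : ed Gen.f (D.P 3265) = (D.P 2664) :=
  D.real_edge' IH Gen.f 3265 2664 (by decide +kernel)
theorem F_3447 (IH : D.IHyp) : ed Gen.b (D.P 3265) = (D.P 3265) :=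
  D.real_edge' IH Gen.b 3265 3265 (by decide +kernel)
theorem F_3448 (IH : D.IHyp) : ed Gen.b V_14196 = V_14196 :=
  gap_rel RW_4 (path_edge (F_3438 IH) (path_edge (F_3447 IH) (path_edge (F_3439 IH) (path_nil _))))
theorem F_3457 (IH : D.IHyp) : ed Gen.e (D.P 2664) = (D.P 2664) :=
  D.real_edge' IH Gen.e 2664 2664 (by decide +kernel)
theorem F_3458 (IH : D.IHyp) : ed Gen.f V_14196 = V_14196 :=
  gap_rel RW_25 (path_edge (F_3438 IH) (path_edge (F_3318 IH) (path_edge (F_3457 IH) (path_edge (F_3445 IH) (path_edge (F_3439 IH) (path_nil _))))))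
theorem F_3480 (IH : D.IHyp) : ed Gen.d V_14196 = V_14197 :=
  rfl
theorem F_3481 (IH : D.IHyp) : ed Gen.d V_14197 = V_14196 :=
  flipE D.rels D.S (hinv Gen.d) (F_3480 IH)
theorem F_3483 (IH : D.IHyp) : ed Gen.b V_14197 = V_14197 :=
  gap_rel RW_38 (path_edge (F_3480 IH) (path_edge (F_3448 IH) (path_edge (F_3481 IH) (path_nil _))))
theorem F_3484 (IH : D.IHyp) : ed Gen.f V_14197 = V_14197 :=
  gap_rel RW_34 (path_edge (F_3480 IH) (path_edge (F_3458 IH) (path_edge (F_3481 IH) (path_nil _))))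
theorem F_3485 (IH : D.IHyp) : ed Gen.c V_14197 = V_14198 :=
  rfl
theorem F_3486 (IH : D.IHyp) : ed Gen.c V_14198 = V_14197 :=
  flipE D.rels D.S (hinv Gen.c) (F_3485 IH)
theorem F_3488 (IH : D.IHyp) : ed Gen.f V_14198 = V_14198 :=
  gap_rel RW_35 (path_edge (F_3485 IH) (path_edge (F_3484 IH) (path_edge (F_3486 IH) (path_nil _))))
theorem F_3489 (IH : D.IHyp) : ed Gen.b V_14198 = V_14199 :=
  rfl
theorem F_3490 (IH : D.IHyp) : ed Gen.b V_14199 = V_14198 :=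
  flipE D.rels D.S (hinv Gen.b) (F_3489 IH)
theorem F_3491 (IH : D.IHyp) : ed Gen.f V_14199 = V_14199 :=
  gap_rel RW_36 (path_edge (F_3489 IH) (path_edge (F_3488 IH) (path_edge (F_3490 IH) (path_nil _))))
theorem F_3492 (IH : D.IHyp) : ed Gen.c V_14199 = V_14199 :=
  gap_rel RW_15 (path_edge (F_3489 IH) (path_edge (F_3485 IH) (path_edge (F_3483 IH) (path_edge (F_3486 IH) (path_edge (F_3490 IH) (path_nil _))))))
theorem F_3493 (IH : D.IHyp) : ed Gen.a V_14199 = V_14200 :=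
  rfl
theorem F_3494 (IH : D.IHyp) : ed Gen.a V_14200 = V_14199 :=
  flipE D.rels D.S (hinv Gen.a) (F_3493 IH)
theorem F_3495 (IH : D.IHyp) : ed Gen.c V_14200 = V_14200 :=
  gap_rel RW_9 (path_edge (F_3493 IH) (path_edge (F_3492 IH) (path_edge (F_3494 IH) (path_nil _))))
theorem F_3496 (IH : D.IHyp) : ed Gen.f V_14200 = V_14200 :=
  gap_rel RW_10 (path_edge (F_3493 IH) (path_edge (F_3491 IH) (path_edge (F_3494 IH) (path_nil _))))
theorem F_3498 (IH : D.IHyp) : ed Gen.h V_14200 = V_14201 :=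
  rfl
theorem F_3499 (IH : D.IHyp) : ed Gen.h V_14201 = V_14200 :=
  flipE D.rels D.S (hinv Gen.h) (F_3498 IH)
theorem F_3501 (IH : D.IHyp) : ed Gen.c V_14201 = V_14201 :=
  gap_rel RW_39 (path_edge (F_3498 IH) (path_edge (F_3495 IH) (path_edge (F_3499 IH) (path_nil _))))
theorem F_3502 (IH : D.IHyp) : ed Gen.f V_14201 = V_14201 :=
  gap_rel RW_40 (path_edge (F_3498 IH) (path_edge (F_3496 IH) (path_edge (F_3499 IH) (path_nil _))))
theorem F_3503 (IH : D.IHyp) : ed Gen.e V_14201 = V_14202 :=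
  rfl
theorem F_3504 (IH : D.IHyp) : ed Gen.e V_14202 = V_14201 :=
  flipE D.rels D.S (hinv Gen.e) (F_3503 IH)
theorem F_3506 (IH : D.IHyp) : ed Gen.c V_14202 = V_14202 :=
  gap_rel RW_5 (path_edge (F_3503 IH) (path_edge (F_3501 IH) (path_edge (F_3504 IH) (path_nil _))))
theorem F_3507 (IH : D.IHyp) : ed Gen.d V_14202 = V_14203 :=
  rfl
theorem F_3508 (IH : D.IHyp) : ed Gen.d V_14203 = V_14202 :=
  flipE D.rels D.S (hinv Gen.d) (F_3507 IH)
theorem F_3510 (IH : D.IHyp) : ed Gen.c V_14203 = V_14204 :=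
  rfl
theorem F_3511 (IH : D.IHyp) : ed Gen.c V_14204 = V_14203 :=
  flipE D.rels D.S (hinv Gen.c) (F_3510 IH)
theorem F_3512 (IH : D.IHyp) : ed Gen.d V_14204 = V_14204 :=
  gap_rel RW_30 (path_edge (F_3510 IH) (path_edge (F_3507 IH) (path_edge (F_3506 IH) (path_edge (F_3508 IH) (path_edge (F_3511 IH) (path_nil _))))))
theorem F_3513 (IH : D.IHyp) : ed Gen.b V_14204 = V_14205 :=
  rfl
theorem F_3514 (IH : D.IHyp) : ed Gen.b V_14205 = V_14204 :=
  flipE D.rels D.S (hinv Gen.b) (F_3513 IH)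
theorem F_3515 (IH : D.IHyp) : ed Gen.d V_14205 = V_14205 :=
  gap_rel RW_11 (path_edge (F_3513 IH) (path_edge (F_3512 IH) (path_edge (F_3514 IH) (path_nil _))))
theorem F_3517 (IH : D.IHyp) : ed Gen.a V_14205 = V_14206 :=
  rfl
theorem F_3518 (IH : D.IHyp) : ed Gen.a V_14206 = V_14205 :=
  flipE D.rels D.S (hinv Gen.a) (F_3517 IH)
theorem F_3521 (IH : D.IHyp) : ed Gen.h V_14206 = V_14207 :=
  rfl
theorem F_3522 (IH : D.IHyp) : ed Gen.h V_14207 = V_14206 :=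
  flipE D.rels D.S (hinv Gen.h) (F_3521 IH)
theorem F_3524 (IH : D.IHyp) : ed Gen.f V_14207 = V_14208 :=
  rfl
theorem F_3525 (IH : D.IHyp) : ed Gen.f V_14208 = V_14207 :=
  flipE D.rels D.S (hinv Gen.f) (F_3524 IH)
theorem F_3527 (IH : D.IHyp) : ed Gen.e V_14208 = V_14209 :=
  rfl
theorem F_3528 (IH : D.IHyp) : ed Gen.e V_14209 = V_14208 :=
  flipE D.rels D.S (hinv Gen.e) (F_3527 IH)
theorem F_3530 (IH : D.IHyp) : ed Gen.d V_14209 = V_14210 :=
  rfl
theorem F_3531 (IH : D.IHyp) : ed Gen.d V_14210 = V_14209 :=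
  flipE D.rels D.S (hinv Gen.d) (F_3530 IH)
theorem F_3532 (IH : D.IHyp) : ed Gen.c V_14210 = V_14211 :=
  rfl
theorem F_3533 (IH : D.IHyp) : ed Gen.c V_14211 = V_14210 :=
  flipE D.rels D.S (hinv Gen.c) (F_3532 IH)
theorem F_3535 (IH : D.IHyp) : ed Gen.b V_14211 = V_14212 :=
  rfl
theorem F_3536 (IH : D.IHyp) : ed Gen.b V_14212 = V_14211 :=
  flipE D.rels D.S (hinv Gen.b) (F_3535 IH)
theorem F_3538 (IH : D.IHyp) : ed Gen.a V_14212 = V_14213 :=
  rfl
theorem F_3541 (IH : D.IHyp) : ed Gen.h V_14213 = V_14214 :=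
  rfl
theorem F_3543 (IH : D.IHyp) : ed Gen.f V_14214 = V_14215 :=
  rfl
theorem F_3544 (IH : D.IHyp) : ed Gen.f V_14215 = V_14214 :=
  flipE D.rels D.S (hinv Gen.f) (F_3543 IH)
theorem F_3545 (IH : D.IHyp) : ed Gen.e V_14215 = V_14216 :=
  rfl
theorem F_3546 (IH : D.IHyp) : ed Gen.e V_14216 = V_14215 :=
  flipE D.rels D.S (hinv Gen.e) (F_3545 IH)
theorem F_3547 (IH : D.IHyp) : ed Gen.d V_14216 = V_14217 :=
  rfl
theorem F_3548 (IH : D.IHyp) : ed Gen.d V_14217 = V_14216 :=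
  flipE D.rels D.S (hinv Gen.d) (F_3547 IH)
theorem F_3549 (IH : D.IHyp) : ed Gen.c V_14217 = V_14218 :=
  rfl
theorem F_3550 (IH : D.IHyp) : ed Gen.c V_14218 = V_14217 :=
  flipE D.rels D.S (hinv Gen.c) (F_3549 IH)
theorem F_3551 (IH : D.IHyp) : ed Gen.b V_14218 = V_14219 :=
  rfl
theorem F_3552 (IH : D.IHyp) : ed Gen.b V_14219 = V_14218 :=
  flipE D.rels D.S (hinv Gen.b) (F_3551 IH)
theorem F_3553 (IH : D.IHyp) : ed Gen.a V_14219 = V_14220 :=
  rfl
theorem F_3554 (IH : D.IHyp) : ed Gen.a V_14220 = V_14219 :=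
  flipE D.rels D.S (hinv Gen.a) (F_3553 IH)
theorem F_3555 (IH : D.IHyp) : ed Gen.h V_14220 = V_14221 :=
  rfl
theorem F_3556 (IH : D.IHyp) : ed Gen.h V_14221 = V_14220 :=
  flipE D.rels D.S (hinv Gen.h) (F_3555 IH)
theorem F_3557 (IH : D.IHyp) : ed Gen.f V_14221 = V_14222 :=
  rfl
theorem F_3558 (IH : D.IHyp) : ed Gen.f V_14222 = V_14221 :=
  flipE D.rels D.S (hinv Gen.f) (F_3557 IH)
theorem F_3559 (IH : D.IHyp) : ed Gen.e V_14222 = V_14223 :=
  rfl
theorem F_3560 (IH : D.IHyp) : ed Gen.e V_14223 = V_14222 :=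
  flipE D.rels D.S (hinv Gen.e) (F_3559 IH)
theorem F_3561 (IH : D.IHyp) : ed Gen.d V_14223 = V_14224 :=
  rfl
theorem F_3562 (IH : D.IHyp) : ed Gen.d V_14224 = V_14223 :=
  flipE D.rels D.S (hinv Gen.d) (F_3561 IH)
theorem F_3563 (IH : D.IHyp) : ed Gen.c V_14224 = V_14225 :=
  rfl
theorem F_3564 (IH : D.IHyp) : ed Gen.c V_14225 = V_14224 :=
  flipE D.rels D.S (hinv Gen.c) (F_3563 IH)
theorem F_3565 (IH : D.IHyp) : ed Gen.b V_14225 = V_14226 :=
  rfl
theorem F_3566 (IH : D.IHyp) : ed Gen.b V_14226 = V_14225 :=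
  flipE D.rels D.S (hinv Gen.b) (F_3565 IH)
theorem F_3567 (IH : D.IHyp) : ed Gen.a V_14226 = V_14089 :=
  gap_rel RW_46 (path_edge (F_3565 IH) (path_edge (F_3563 IH) (path_edge (F_3561 IH) (path_edge (F_3559 IH) (path_edge (F_3557 IH) (path_edge (F_3555 IH) (path_edge (F_3553 IH) (path_edge (F_3551 IH) (path_edge (F_3549 IH) (path_edge (F_3547 IH) (path_edge (F_3545 IH) (path_edge (F_3543 IH) (path_edge (F_3541 IH) (path_edge (F_3538 IH) (path_edge (F_3535 IH) (path_edge (F_3532 IH) (path_edge (F_3530 IH) (path_edge (F_3527 IH) (path_edge (F_3524 IH) (path_edge (F_3521 IH) (path_edge (F_3517 IH) (path_edge (F_3513 IH) (path_edge (F_3510 IH) (path_edge (F_3507 IH) (path_edge (F_3503 IH) (path_edge (F_3502 IH) (path_edge (F_3498 IH) (path_edge (F_3493 IH) (path_edge (F_3489 IH) (path_edge (F_3485 IH) (path_edge (F_3480 IH) (path_edge (F_3438 IH) (path_edge (F_3318 IH) (path_edge (F_3317 IH) (path_edge (F_3316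 IH) (path_edge (F_3315 IH) (path_edge (F_3314 IH) (path_edge (F_3313 IH) (path_edge (F_2505 IH) (path_edge (F_3285 IH) (path_edge (F_3260 IH) (path_edge (F_100 IH) (path_edge (F_99 IH) (path_edge (F_98 IH) (path_edge (F_97 IH) (path_edge (F_96 IH) (path_edge (F_95 IH) (path_edge (F_94 IH) (path_edge (F_93 IH) (path_edge (F_92 IH) (path_edge (F_91 IH) (path_edge (F_90 IH) (path_edge (F_89 IH) (path_edge (F_88 IH) (path_edge (F_87 IH) (path_edge (F_2 IH) (path_edge (F_22 IH) (path_edge (F_1 IH) (path_edge (F_9 IH) (path_edge (F_437 IH) (path_edge (F_777 IH) (path_edge (F_778 IH) (path_nil _)))))))))))))))))))))))))))))))))))))))))))))))))))))))))))))))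
theorem F_3568 (IH : D.IHyp) : ed Gen.a V_14089 = V_14226 :=
  flipE D.rels D.S (hinv Gen.a) (F_3567 IH)
theorem F_3569 (IH : D.IHyp) : ed Gen.c (D.P 143) = V_14226 :=
  gap_rel RW_9 (path_edge (F_2689 IH) (path_edge (F_2697 IH) (path_edge (F_3567 IH) (path_nil _))))
theorem F_3570 (IH : D.IHyp) : ed Gen.c V_14226 = (D.P 143) :=
  flipE D.rels D.S (hinv Gen.c) (F_3569 IH)
theorem F_3571 (IH : D.IHyp) : ed Gen.e V_14194 = V_14226 :=
  gap_rel RW_8 (path_edge (F_3232 IH) (path_edge (F_780 IH) (path_edge (F_3567 IH) (path_nil _))))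
theorem F_3572 (IH : D.IHyp) : ed Gen.e V_14226 = V_14194 :=
  flipE D.rels D.S (hinv Gen.e) (F_3571 IH)
theorem F_3573 (IH : D.IHyp) : ed Gen.f V_14081 = V_14226 :=
  gap_rel RW_10 (path_edge (F_436 IH) (path_edge (F_777 IH) (path_edge (F_3567 IH) (path_nil _))))
theorem F_3574 (IH : D.IHyp) : ed Gen.f V_14226 = V_14081 :=
  flipE D.rels D.S (hinv Gen.f) (F_3573 IH)
theorem F_3575 (IH : D.IHyp) : ed Gen.h V_14226 = V_14226 :=
  gap_rel RW_2 (path_edge (F_3568 IH) (path_edge (F_778 IH) (path_edge (F_3567 IH) (path_nil _))))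
theorem F_3577 (IH : D.IHyp) : ed Gen.e V_14225 = V_14194 :=
  gap_rel RW_31 (path_edge (F_3566 IH) (path_edge (F_3571 IH) (path_edge (F_3237 IH) (path_nil _))))
theorem F_3578 (IH : D.IHyp) : ed Gen.e V_14194 = V_14225 :=
  flipE D.rels D.S (hinv Gen.e) (F_3577 IH)
theorem F_3579 (IH : D.IHyp) : V_14226 = V_14225 :=
  edge_fun (F_3571 IH) (F_3578 IH)
theorem F_3580 (IH : D.IHyp) : ed Gen.a V_14225 = V_14089 :=
  edge_congr (F_3567 IH) (F_3579 IH)
theorem F_3581 (IH : D.IHyp) : ed Gen.a V_14089 = V_14225 :=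
  flipE D.rels D.S (hinv Gen.a) (F_3580 IH)
theorem F_3583 (IH : D.IHyp) : ed Gen.c V_14225 = (D.P 143) :=
  edge_congr (F_3570 IH) (F_3579 IH)
theorem F_3584 (IH : D.IHyp) : V_14224 = (D.P 143) :=
  edge_fun (F_3564 IH) (F_3583 IH)
theorem F_3586 (IH : D.IHyp) : ed Gen.e V_14225 = V_14194 :=
  edge_congr (F_3572 IH) (F_3579 IH)
theorem F_3587 (IH : D.IHyp) : ed Gen.e V_14194 = V_14225 :=
  flipE D.rels D.S (hinv Gen.e) (F_3586 IH)
theorem F_3588 (IH : D.IHyp) : ed Gen.f V_14225 = V_14081 :=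
  edge_congr (F_3574 IH) (F_3579 IH)
theorem F_3589 (IH : D.IHyp) : ed Gen.f V_14081 = V_14225 :=
  flipE D.rels D.S (hinv Gen.f) (F_3588 IH)
theorem F_3590 (IH : D.IHyp) : ed Gen.h V_14226 = V_14225 :=
  (F_3575 IH).trans (F_3579 IH)
theorem F_3591 (IH : D.IHyp) : ed Gen.h V_14225 = V_14225 :=
  edge_congr (F_3590 IH) (F_3579 IH)
theorem F_3596 (IH : D.IHyp) : ed Gen.d (D.P 143) = V_14223 :=
  edge_congr (F_3562 IH) (F_3584 IH)
theorem F_3597 (IH : D.IHyp) : (D.P 143) = V_14223 :=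
  edge_fun (F_337 IH) (F_3596 IH)
theorem F_3599 (IH : D.IHyp) : V_14223 = (D.P 143) :=
  (F_3597 IH).symm
theorem F_3601 (IH : D.IHyp) : ed Gen.e (D.P 143) = V_14222 :=
  edge_congr (F_3560 IH) (F_3599 IH)
theorem F_3602 (IH : D.IHyp) : (D.P 183) = V_14222 :=
  edge_fun (F_303 IH) (F_3601 IH)
theorem F_3604 (IH : D.IHyp) : V_14222 = (D.P 183) :=
  (F_3602 IH).symm
theorem F_3606 (IH : D.IHyp) : ed Gen.f (D.P 183) = V_14221 :=
  edge_congr (F_3558 IH) (F_3604 IH)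
theorem F_3607 (IH : D.IHyp) : (D.P 136) = V_14221 :=
  edge_fun (F_344 IH) (F_3606 IH)
theorem F_3609 (IH : D.IHyp) : V_14221 = (D.P 136) :=
  (F_3607 IH).symm
theorem F_3611 (IH : D.IHyp) : ed Gen.h (D.P 136) = V_14220 :=
  edge_congr (F_3556 IH) (F_3609 IH)
theorem F_3612 (IH : D.IHyp) : (D.P 136) = V_14220 :=
  edge_fun (F_579 IH) (F_3611 IH)
theorem F_3614 (IH : D.IHyp) : V_14220 = (D.P 136) :=
  (F_3612 IH).symm
theorem F_3615 (IH : D.IHyp) : ed Gen.a (D.P 136) = V_14219 :=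
  edge_congr (F_3554 IH) (F_3614 IH)
theorem F_3616 (IH : D.IHyp) : (D.P 176) = V_14219 :=
  edge_fun (F_584 IH) (F_3615 IH)
theorem F_3619 (IH : D.IHyp) : V_14219 = (D.P 176) :=
  (F_3616 IH).symm
theorem F_3621 (IH : D.IHyp) : ed Gen.b (D.P 176) = V_14218 :=
  edge_congr (F_3552 IH) (F_3619 IH)
theorem F_3622 (IH : D.IHyp) : (D.P 176) = V_14218 :=
  edge_fun (F_588 IH) (F_3621 IH)
theorem F_3624 (IH : D.IHyp) : V_14218 = (D.P 176) :=
  (F_3622 IH).symm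
theorem F_3626 (IH : D.IHyp) : ed Gen.c (D.P 176) = V_14217 :=
  edge_congr (F_3550 IH) (F_3624 IH)
theorem F_3627 (IH : D.IHyp) : V_14091 = V_14217 :=
  edge_fun (F_793 IH) (F_3626 IH)
theorem F_3629 (IH : D.IHyp) : V_14217 = V_14091 :=
  (F_3627 IH).symm
theorem F_3631 (IH : D.IHyp) : ed Gen.d V_14091 = V_14216 :=
  edge_congr (F_3548 IH) (F_3629 IH)
theorem F_3632 (IH : D.IHyp) : V_14118 = V_14216 :=
  edge_fun (F_2014 IH) (F_3631 IH)
theorem F_3634 (IH : D.IHyp) : V_14216 = V_14118 :=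
  (F_3632 IH).symm
theorem F_3636 (IH : D.IHyp) : ed Gen.e V_14118 = V_14215 :=
  edge_congr (F_3546 IH) (F_3634 IH)
theorem F_3637 (IH : D.IHyp) : V_14118 = V_14215 :=
  edge_fun (F_2018 IH) (F_3636 IH)
theorem F_3639 (IH : D.IHyp) : V_14215 = V_14118 :=
  (F_3637 IH).symm
theorem F_3641 (IH : D.IHyp) : ed Gen.f V_14118 = V_14214 :=
  edge_congr (F_3544 IH) (F_3639 IH)
theorem F_3642 (IH : D.IHyp) : ed Gen.f V_14214 = V_14118 :=
  flipE D.rels D.S (hinv Gen.f) (F_3641 IH)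
theorem F_3643 (IH : D.IHyp) : ed Gen.a V_14193 = V_14214 :=
  gap_rel RW_42 (path_edge (F_3240 IH) (path_edge (F_2016 IH) (path_edge (F_3642 IH) (path_nil _))))
theorem F_3644 (IH : D.IHyp) : ed Gen.a V_14214 = V_14193 :=
  flipE D.rels D.S (hinv Gen.a) (F_3643 IH)
theorem F_3648 (IH : D.IHyp) : ed Gen.h V_14193 = V_14212 :=
  gap_rel RW_2 (path_edge (F_3644 IH) (path_edge (F_3541 IH) (path_edge (F_3538 IH) (path_nil _))))
theorem F_3650 (IH : D.IHyp) : ed Gen.h V_14211 = V_14193 :=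
  gap_rel RW_12 (path_edge (F_3536 IH) (path_edge (F_3648 IH) (path_edge (F_3238 IH) (path_nil _))))
theorem F_3651 (IH : D.IHyp) : ed Gen.h V_14193 = V_14211 :=
  flipE D.rels D.S (hinv Gen.h) (F_3650 IH)
theorem F_3652 (IH : D.IHyp) : V_14212 = V_14211 :=
  edge_fun (F_3648 IH) (F_3651 IH)
theorem F_3653 (IH : D.IHyp) : ed Gen.a V_14211 = V_14213 :=
  edge_congr (F_3538 IH) (F_3652 IH)
theorem F_3654 (IH : D.IHyp) : ed Gen.a V_14213 = V_14211 :=
  flipE D.rels D.S (hinv Gen.a) (F_3653 IH)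
theorem F_3660 (IH : D.IHyp) : ed Gen.e V_14191 = V_14211 :=
  gap_rel RW_26 (path_edge (F_3223 IH) (path_edge (F_3226 IH) (path_edge (F_3650 IH) (path_nil _))))
theorem F_3661 (IH : D.IHyp) : ed Gen.e V_14211 = V_14191 :=
  flipE D.rels D.S (hinv Gen.e) (F_3660 IH)
theorem F_3662 (IH : D.IHyp) : ed Gen.f (D.P 316) = V_14211 :=
  gap_rel RW_40 (path_edge (F_861 IH) (path_edge (F_3239 IH) (path_edge (F_3650 IH) (path_nil _))))
theorem F_3663 (IH : D.IHyp) : ed Gen.f V_14211 = (D.P 316) :=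
  flipE D.rels D.S (hinv Gen.f) (F_3662 IH)
theorem F_3664 (IH : D.IHyp) : ed Gen.e V_14213 = V_14190 :=
  gap_rel RW_8 (path_edge (F_3653 IH) (path_edge (F_3660 IH) (path_edge (F_3219 IH) (path_nil _))))
theorem F_3665 (IH : D.IHyp) : ed Gen.e V_14190 = V_14213 :=
  flipE D.rels D.S (hinv Gen.e) (F_3664 IH)
theorem F_3666 (IH : D.IHyp) : ed Gen.f V_14210 = (D.P 410) :=
  gap_rel RW_35 (path_edge (F_3533 IH) (path_edge (F_3662 IH) (path_edge (F_1825 IH) (path_nil _))))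
theorem F_3667 (IH : D.IHyp) : ed Gen.f (D.P 410) = V_14210 :=
  flipE D.rels D.S (hinv Gen.f) (F_3666 IH)
theorem F_3678 (IH : D.IHyp) : ed Gen.f V_14209 = (D.P 528) :=
  gap_rel RW_34 (path_edge (F_3531 IH) (path_edge (F_3667 IH) (path_edge (F_2161 IH) (path_nil _))))
theorem F_3679 (IH : D.IHyp) : ed Gen.f (D.P 528) = V_14209 :=
  flipE D.rels D.S (hinv Gen.f) (F_3678 IH)
theorem F_3692 (IH : D.IHyp) : ed Gen.d (D.P 95) = (D.P 66) :=
  D.real_edge' IH Gen.d 95 66 (by decide +kernel)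
theorem F_3709 (IH : D.IHyp) : ed Gen.e V_14207 = (D.P 861) :=
  gap_rel RW_24 (path_edge (F_3525 IH) (path_edge (F_3528 IH) (path_edge (F_3679 IH) (path_edge (F_1933 IH) (path_edge (F_1770 IH) (path_nil _))))))
theorem F_3710 (IH : D.IHyp) : ed Gen.e (D.P 861) = V_14207 :=
  flipE D.rels D.S (hinv Gen.e) (F_3709 IH)
theorem F_3778 (IH : D.IHyp) : ed Gen.h (D.P 538) = (D.P 414) :=
  D.real_edge' IH Gen.h 538 414 (by decide +kernel)
theorem F_3789 (IH : D.IHyp) : ed Gen.b V_14207 = V_14094 :=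
  gap_rel RW_4 (path_edge (F_3710 IH) (path_edge (F_1715 IH) (path_edge (F_1712 IH) (path_nil _))))
theorem F_3791 (IH : D.IHyp) : ed Gen.h (D.P 860) = V_14207 :=
  gap_rel RW_12 (path_edge (F_1637 IH) (path_edge (F_1710 IH) (path_edge (F_3789 IH) (path_nil _))))
theorem F_3792 (IH : D.IHyp) : ed Gen.h V_14207 = (D.P 860) :=
  flipE D.rels D.S (hinv Gen.h) (F_3791 IH)
theorem F_3793 (IH : D.IHyp) : V_14206 = (D.P 860) :=
  edge_fun (F_3522 IH) (F_3792 IH)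
theorem F_3794 (IH : D.IHyp) : ed Gen.a (D.P 860) = V_14205 :=
  edge_congr (F_3518 IH) (F_3793 IH)
theorem F_3806 (IH : D.IHyp) : ed Gen.i (D.P 517) = (D.P 513) :=
  D.real_edge' IH Gen.i 517 513 (by decide +kernel)
theorem F_3826 (IH : D.IHyp) : ed Gen.e V_14205 = (D.P 673) :=
  gap_rel RW_8 (path_edge (F_3794 IH) (path_edge (F_627 IH) (path_edge (F_3026 IH) (path_nil _))))
theorem F_3840 (IH : D.IHyp) : ed Gen.i (D.P 1431) = (D.P 1431) :=
  D.real_edge' IH Gen.i 1431 1431 (by decide +kernel)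
theorem F_3919 (IH : D.IHyp) : ed Gen.b (D.P 45) = (D.P 31) :=
  D.real_edge' IH Gen.b 45 31 (by decide +kernel)
theorem F_4051 (IH : D.IHyp) : ed Gen.e (D.P 886) = (D.P 693) :=
  D.real_edge' IH Gen.e 886 693 (by decide +kernel)
theorem F_4175 (IH : D.IHyp) : ed Gen.b V_14088 = V_14227 :=
  rfl
theorem F_4176 (IH : D.IHyp) : ed Gen.b V_14227 = V_14088 :=
  flipE D.rels D.S (hinv Gen.b) (F_4175 IH)
theorem F_4177 (IH : D.IHyp) : ed Gen.d V_14227 = V_14085 :=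
  gap_rel RW_11 (path_edge (F_4175 IH) (path_edge (F_770 IH) (path_edge (F_711 IH) (path_nil _))))
theorem F_4178 (IH : D.IHyp) : ed Gen.d V_14085 = V_14227 :=
  flipE D.rels D.S (hinv Gen.d) (F_4177 IH)
theorem F_4179 (IH : D.IHyp) : ed Gen.e V_14227 = V_14227 :=
  gap_rel RW_31 (path_edge (F_4175 IH) (path_edge (F_775 IH) (path_edge (F_4176 IH) (path_nil _))))
theorem F_4181 (IH : D.IHyp) : ed Gen.i V_14227 = V_14227 :=
  gap_rel RW_13 (path_edge (F_4175 IH) (path_edge (F_773 IH) (path_edge (F_4176 IH) (path_nil _))))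
theorem F_4182 (IH : D.IHyp) : ed Gen.a V_14227 = V_14227 :=
  gap_rel RW_28 (path_edge (F_4178 IH) (path_edge (F_709 IH) (path_edge (F_4177 IH) (path_nil _))))
theorem F_4183 (IH : D.IHyp) : ed Gen.h V_14227 = V_14228 :=
  rfl
theorem F_4184 (IH : D.IHyp) : ed Gen.h V_14228 = V_14227 :=
  flipE D.rels D.S (hinv Gen.h) (F_4183 IH)
theorem F_4185 (IH : D.IHyp) : ed Gen.a V_14228 = V_14228 :=
  gap_rel RW_47 (path_edge (F_4183 IH) (path_edge (F_4182 IH) (path_edge (F_4184 IH) (path_nil _))))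
theorem F_4186 (IH : D.IHyp) : ed Gen.e V_14228 = V_14228 :=
  gap_rel RW_26 (path_edge (F_4183 IH) (path_edge (F_4179 IH) (path_edge (F_4184 IH) (path_nil _))))
theorem F_4188 (IH : D.IHyp) : ed Gen.d V_14228 = V_14228 :=
  gap_rel RW_44 (path_edge (F_4183 IH) (path_edge (F_4178 IH) (path_edge (F_714 IH) (path_edge (F_4177 IH) (path_edge (F_4184 IH) (path_nil _))))))
theorem F_4189 (IH : D.IHyp) : ed Gen.f V_14228 = V_14229 :=
  rfl
theorem F_4190 (IH : D.IHyp) : ed Gen.f V_14229 = V_14228 :=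
  flipE D.rels D.S (hinv Gen.f) (F_4189 IH)
theorem F_4191 (IH : D.IHyp) : ed Gen.a V_14229 = V_14229 :=
  gap_rel RW_42 (path_edge (F_4189 IH) (path_edge (F_4185 IH) (path_edge (F_4190 IH) (path_nil _))))
theorem F_4192 (IH : D.IHyp) : ed Gen.d V_14229 = V_14229 :=
  gap_rel RW_18 (path_edge (F_4189 IH) (path_edge (F_4188 IH) (path_edge (F_4190 IH) (path_nil _))))
theorem F_4193 (IH : D.IHyp) : ed Gen.e V_14229 = V_14230 :=
  rfl
theorem F_4194 (IH : D.IHyp) : ed Gen.e V_14230 = V_14229 :=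
  flipE D.rels D.S (hinv Gen.e) (F_4193 IH)
theorem F_4195 (IH : D.IHyp) : ed Gen.a V_14230 = V_14230 :=
  gap_rel RW_16 (path_edge (F_4193 IH) (path_edge (F_4191 IH) (path_edge (F_4194 IH) (path_nil _))))
theorem F_4196 (IH : D.IHyp) : ed Gen.f V_14230 = V_14230 :=
  gap_rel RW_25 (path_edge (F_4193 IH) (path_edge (F_4189 IH) (path_edge (F_4186 IH) (path_edge (F_4190 IH) (path_edge (F_4194 IH) (path_nil _))))))
theorem F_4197 (IH : D.IHyp) : ed Gen.d V_14230 = V_14231 :=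
  rfl
theorem F_4198 (IH : D.IHyp) : ed Gen.d V_14231 = V_14230 :=
  flipE D.rels D.S (hinv Gen.d) (F_4197 IH)
theorem F_4200 (IH : D.IHyp) : ed Gen.f V_14231 = V_14231 :=
  gap_rel RW_34 (path_edge (F_4197 IH) (path_edge (F_4196 IH) (path_edge (F_4198 IH) (path_nil _))))
theorem F_4201 (IH : D.IHyp) : ed Gen.e V_14231 = V_14231 :=
  gap_rel RW_22 (path_edge (F_4197 IH) (path_edge (F_4193 IH) (path_edge (F_4192 IH) (path_edge (F_4194 IH) (path_edge (F_4198 IH) (path_nil _))))))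
theorem F_4202 (IH : D.IHyp) : ed Gen.c V_14231 = V_14232 :=
  rfl
theorem F_4203 (IH : D.IHyp) : ed Gen.c V_14232 = V_14231 :=
  flipE D.rels D.S (hinv Gen.c) (F_4202 IH)
theorem F_4205 (IH : D.IHyp) : ed Gen.e V_14232 = V_14232 :=
  gap_rel RW_29 (path_edge (F_4202 IH) (path_edge (F_4201 IH) (path_edge (F_4203 IH) (path_nil _))))
theorem F_4206 (IH : D.IHyp) : ed Gen.f V_14232 = V_14232 :=
  gap_rel RW_35 (path_edge (F_4202 IH) (path_edge (F_4200 IH) (path_edge (F_4203 IH) (path_nil _))))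
theorem F_4207 (IH : D.IHyp) : ed Gen.b V_14232 = V_14233 :=
  rfl
theorem F_4208 (IH : D.IHyp) : ed Gen.b V_14233 = V_14232 :=
  flipE D.rels D.S (hinv Gen.b) (F_4207 IH)
theorem F_4209 (IH : D.IHyp) : ed Gen.e V_14233 = V_14233 :=
  gap_rel RW_31 (path_edge (F_4207 IH) (path_edge (F_4205 IH) (path_edge (F_4208 IH) (path_nil _))))
theorem F_4210 (IH : D.IHyp) : ed Gen.f V_14233 = V_14233 :=
  gap_rel RW_36 (path_edge (F_4207 IH) (path_edge (F_4206 IH) (path_edge (F_4208 IH) (path_nil _))))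
theorem F_4211 (IH : D.IHyp) : ed Gen.a V_14233 = V_14234 :=
  rfl
theorem F_4212 (IH : D.IHyp) : ed Gen.a V_14234 = V_14233 :=
  flipE D.rels D.S (hinv Gen.a) (F_4211 IH)
theorem F_4213 (IH : D.IHyp) : ed Gen.e V_14234 = V_14234 :=
  gap_rel RW_8 (path_edge (F_4211 IH) (path_edge (F_4209 IH) (path_edge (F_4212 IH) (path_nil _))))
theorem F_4214 (IH : D.IHyp) : ed Gen.f V_14234 = V_14234 :=
  gap_rel RW_10 (path_edge (F_4211 IH) (path_edge (F_4210 IH) (path_edge (F_4212 IH) (path_nil _))))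
theorem F_4216 (IH : D.IHyp) : ed Gen.h V_14234 = V_14235 :=
  rfl
theorem F_4217 (IH : D.IHyp) : ed Gen.h V_14235 = V_14234 :=
  flipE D.rels D.S (hinv Gen.h) (F_4216 IH)
theorem F_4219 (IH : D.IHyp) : ed Gen.e V_14235 = V_14235 :=
  gap_rel RW_26 (path_edge (F_4216 IH) (path_edge (F_4213 IH) (path_edge (F_4217 IH) (path_nil _))))
theorem F_4220 (IH : D.IHyp) : ed Gen.f V_14235 = V_14235 :=
  gap_rel RW_40 (path_edge (F_4216 IH) (path_edge (F_4214 IH) (path_edge (F_4217 IH) (path_nil _))))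
theorem F_4221 (IH : D.IHyp) : ed Gen.d V_14235 = V_14236 :=
  rfl
theorem F_4222 (IH : D.IHyp) : ed Gen.d V_14236 = V_14235 :=
  flipE D.rels D.S (hinv Gen.d) (F_4221 IH)
theorem F_4224 (IH : D.IHyp) : ed Gen.f V_14236 = V_14236 :=
  gap_rel RW_34 (path_edge (F_4221 IH) (path_edge (F_4220 IH) (path_edge (F_4222 IH) (path_nil _))))
theorem F_4225 (IH : D.IHyp) : ed Gen.c V_14236 = V_14237 :=
  rfl
theorem F_4226 (IH : D.IHyp) : ed Gen.c V_14237 = V_14236 :=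
  flipE D.rels D.S (hinv Gen.c) (F_4225 IH)
theorem F_4227 (IH : D.IHyp) : ed Gen.f V_14237 = V_14237 :=
  gap_rel RW_35 (path_edge (F_4225 IH) (path_edge (F_4224 IH) (path_edge (F_4226 IH) (path_nil _))))
theorem F_4228 (IH : D.IHyp) : ed Gen.b V_14237 = V_14238 :=
  rfl
theorem F_4229 (IH : D.IHyp) : ed Gen.b V_14238 = V_14237 :=
  flipE D.rels D.S (hinv Gen.b) (F_4228 IH)
theorem F_4230 (IH : D.IHyp) : ed Gen.f V_14238 = V_14238 :=
  gap_rel RW_36 (path_edge (F_4228 IH) (path_edge (F_4227 IH) (path_edge (F_4229 IH) (path_nil _))))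
theorem F_4232 (IH : D.IHyp) : ed Gen.a V_14238 = V_14239 :=
  rfl
theorem F_4233 (IH : D.IHyp) : ed Gen.a V_14239 = V_14238 :=
  flipE D.rels D.S (hinv Gen.a) (F_4232 IH)
theorem F_4235 (IH : D.IHyp) : ed Gen.f V_14239 = V_14239 :=
  gap_rel RW_10 (path_edge (F_4232 IH) (path_edge (F_4230 IH) (path_edge (F_4233 IH) (path_nil _))))
theorem F_4236 (IH : D.IHyp) : ed Gen.h V_14239 = V_14240 :=
  rfl
theorem F_4237 (IH : D.IHyp) : ed Gen.h V_14240 = V_14239 :=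
  flipE D.rels D.S (hinv Gen.h) (F_4236 IH)
theorem F_4239 (IH : D.IHyp) : ed Gen.f V_14240 = V_14240 :=
  gap_rel RW_40 (path_edge (F_4236 IH) (path_edge (F_4235 IH) (path_edge (F_4237 IH) (path_nil _))))
theorem F_4240 (IH : D.IHyp) : ed Gen.e V_14240 = V_14241 :=
  rfl
theorem F_4241 (IH : D.IHyp) : ed Gen.e V_14241 = V_14240 :=
  flipE D.rels D.S (hinv Gen.e) (F_4240 IH)
theorem F_4243 (IH : D.IHyp) : ed Gen.d V_14241 = V_14242 :=
  rfl
theorem F_4245 (IH : D.IHyp) : ed Gen.c V_14242 = V_14243 :=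
  rfl
theorem F_4246 (IH : D.IHyp) : ed Gen.c V_14243 = V_14242 :=
  flipE D.rels D.S (hinv Gen.c) (F_4245 IH)
theorem F_4248 (IH : D.IHyp) : ed Gen.b V_14243 = V_14244 :=
  rfl
theorem F_4249 (IH : D.IHyp) : ed Gen.b V_14244 = V_14243 :=
  flipE D.rels D.S (hinv Gen.b) (F_4248 IH)
theorem F_4251 (IH : D.IHyp) : ed Gen.a V_14244 = V_14245 :=
  rfl
theorem F_4252 (IH : D.IHyp) : ed Gen.a V_14245 = V_14244 :=
  flipE D.rels D.S (hinv Gen.a) (F_4251 IH)
theorem F_4254 (IH : D.IHyp) : ed Gen.h V_14245 = V_14246 :=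
  rfl
theorem F_4255 (IH : D.IHyp) : ed Gen.h V_14246 = V_14245 :=
  flipE D.rels D.S (hinv Gen.h) (F_4254 IH)
theorem F_4256 (IH : D.IHyp) : ed Gen.f V_14246 = V_14247 :=
  rfl
theorem F_4258 (IH : D.IHyp) : ed Gen.e V_14247 = V_14248 :=
  rfl
theorem F_4259 (IH : D.IHyp) : ed Gen.e V_14248 = V_14247 :=
  flipE D.rels D.S (hinv Gen.e) (F_4258 IH)
theorem F_4260 (IH : D.IHyp) : ed Gen.d V_14248 = V_14249 :=
  rfl
theorem F_4262 (IH : D.IHyp) : ed Gen.c V_14249 = V_14250 :=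
  rfl
theorem F_4263 (IH : D.IHyp) : ed Gen.c V_14250 = V_14249 :=
  flipE D.rels D.S (hinv Gen.c) (F_4262 IH)
theorem F_4264 (IH : D.IHyp) : ed Gen.b V_14250 = V_14251 :=
  rfl
theorem F_4265 (IH : D.IHyp) : ed Gen.b V_14251 = V_14250 :=
  flipE D.rels D.S (hinv Gen.b) (F_4264 IH)
theorem F_4266 (IH : D.IHyp) : ed Gen.a V_14251 = V_14252 :=
  rfl
theorem F_4267 (IH : D.IHyp) : ed Gen.a V_14252 = V_14251 :=
  flipE D.rels D.S (hinv Gen.a) (F_4266 IH)
theorem F_4268 (IH : D.IHyp) : ed Gen.h V_14252 = V_14253 :=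
  rfl
theorem F_4269 (IH : D.IHyp) : ed Gen.h V_14253 = V_14252 :=
  flipE D.rels D.S (hinv Gen.h) (F_4268 IH)
theorem F_4270 (IH : D.IHyp) : ed Gen.f V_14253 = V_14254 :=
  rfl
theorem F_4271 (IH : D.IHyp) : ed Gen.f V_14254 = V_14253 :=
  flipE D.rels D.S (hinv Gen.f) (F_4270 IH)
theorem F_4272 (IH : D.IHyp) : ed Gen.e V_14254 = V_14255 :=
  rfl
theorem F_4273 (IH : D.IHyp) : ed Gen.e V_14255 = V_14254 :=
  flipE D.rels D.S (hinv Gen.e) (F_4272 IH)
theorem F_4274 (IH : D.IHyp) : ed Gen.c (D.P 314) = (D.P 239) :=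
  D.real_edge' IH Gen.c 314 239 (by decide +kernel)
theorem F_4275 (IH : D.IHyp) : ed Gen.d V_14255 = (D.P 314) :=
  gap_rel RW_27 (path_edge (F_4272 IH) (path_edge (F_4270 IH) (path_edge (F_4268 IH) (path_edge (F_4266 IH) (path_edge (F_4264 IH) (path_edge (F_4262 IH) (path_edge (F_4260 IH) (path_edge (F_4258 IH) (path_edge (F_4256 IH) (path_edge (F_4254 IH) (path_edge (F_4251 IH) (path_edge (F_4248 IH) (path_edge (F_4245 IH) (path_edge (F_4243 IH) (path_edge (F_4240 IH) (path_edge (F_4239 IH) (path_edge (F_4236 IH) (path_edge (F_4232 IH) (path_edge (F_4228 IH) (path_edge (F_4225 IH) (path_edge (F_4221 IH) (path_edge (F_4219 IH) (path_edge (F_4220 IH) (path_edge (F_4216 IH) (path_edge (F_4211 IH) (path_edge (F_4207 IH) (path_edge (F_4202 IH) (path_edge (F_4197 IH) (path_edge (F_4193 IH) (path_edge (F_4189 IH) (path_edge (F_4183 IH) (path_edge (F_4182 IH) (path_edge (F_4175 IH) (path_edge (F_774 IH) (path_edge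 (F_770 IH) (path_edge (F_438 IH) (path_edge (F_448 IH) (path_edge (F_450 IH) (path_edge (F_442 IH) (path_edge (F_145 IH) (path_edge (F_148 IH) (path_edge (F_473 IH) (path_edge (F_3381 IH) (path_edge (F_477 IH) (path_edge (F_656 IH) (path_edge (F_530 IH) (path_edge (F_480 IH) (path_edge (F_481 IH) (path_edge (F_329 IH) (path_edge (F_482 IH) (path_edge (F_483 IH) (path_edge (F_1612 IH) (path_edge (F_620 IH) (path_edge (F_2912 IH) (path_edge (F_486 IH) (path_edge (F_2095 IH) (path_edge (F_2911 IH) (path_edge (F_2910 IH) (path_edge (F_674 IH) (path_edge (F_491 IH) (path_edge (F_304 IH) (path_edge (F_4274 IH) (path_nil _)))))))))))))))))))))))))))))))))))))))))))))))))))))))))))))))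
theorem F_4276 (IH : D.IHyp) : ed Gen.d (D.P 314) = V_14255 :=
  flipE D.rels D.S (hinv Gen.d) (F_4275 IH)
theorem F_4277 (IH : D.IHyp) : ed Gen.c (D.P 409) = (D.P 326) :=
  D.real_edge' IH Gen.c 409 326 (by decide +kernel)
theorem F_4279 (IH : D.IHyp) : ed Gen.c (D.P 245) = (D.P 186) :=
  D.real_edge' IH Gen.c 245 186 (by decide +kernel)
theorem F_4280 (IH : D.IHyp) : ed Gen.f (D.P 314) = (D.P 238) :=
  D.real_edge' IH Gen.f 314 238 (by decide +kernel)
theorem F_4281 (IH : D.IHyp) : ed Gen.f (D.P 313) = V_14255 :=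
  gap_rel RW_34 (path_edge (F_858 IH) (path_edge (F_4280 IH) (path_edge (F_4275 IH) (path_nil _))))
theorem F_4282 (IH : D.IHyp) : ed Gen.f V_14255 = (D.P 313) :=
  flipE D.rels D.S (hinv Gen.f) (F_4281 IH)
theorem F_4288 (IH : D.IHyp) : ed Gen.h V_14210 = V_14255 :=
  gap_rel RW_23 (path_edge (F_3667 IH) (path_edge (F_2046 IH) (path_edge (F_4282 IH) (path_nil _))))
theorem F_4292 (IH : D.IHyp) : ed Gen.e V_14253 = V_14255 :=
  gap_rel RW_24 (path_edge (F_4271 IH) (path_edge (F_4273 IH) (path_edge (F_4281 IH) (path_edge (F_2043 IH) (path_edge (F_4282 IH) (path_nil _))))))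
theorem F_4293 (IH : D.IHyp) : ed Gen.e V_14255 = V_14253 :=
  flipE D.rels D.S (hinv Gen.e) (F_4292 IH)
theorem F_4294 (IH : D.IHyp) : V_14254 = V_14253 :=
  edge_fun (F_4273 IH) (F_4293 IH)
theorem F_4297 (IH : D.IHyp) : ed Gen.e V_14253 = V_14255 :=
  edge_congr (F_4272 IH) (F_4294 IH)
theorem F_4298 (IH : D.IHyp) : ed Gen.e V_14255 = V_14253 :=
  flipE D.rels D.S (hinv Gen.e) (F_4297 IH)
theorem F_4307 (IH : D.IHyp) : ed Gen.e V_14252 = V_14210 :=
  gap_rel RW_26 (path_edge (F_4269 IH) (path_edge (F_4298 IH) (path_edge (F_4288 IH) (path_nil _))))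
theorem F_4335 (IH : D.IHyp) : ed Gen.c V_14191 = V_14252 :=
  gap_rel RW_5 (path_edge (F_3661 IH) (path_edge (F_3532 IH) (path_edge (F_4307 IH) (path_nil _))))
theorem F_4338 (IH : D.IHyp) : ed Gen.c V_14251 = V_14190 :=
  gap_rel RW_9 (path_edge (F_4267 IH) (path_edge (F_4335 IH) (path_edge (F_3219 IH) (path_nil _))))
theorem F_4339 (IH : D.IHyp) : ed Gen.c V_14190 = V_14251 :=
  flipE D.rels D.S (hinv Gen.c) (F_4338 IH)
theorem F_4342 (IH : D.IHyp) : ed Gen.b V_14249 = V_14188 :=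
  gap_rel RW_48 (path_edge (F_4263 IH) (path_edge (F_4265 IH) (path_edge (F_4339 IH) (path_edge (F_3216 IH) (path_edge (F_3213 IH) (path_nil _))))))
theorem F_4345 (IH : D.IHyp) : ed Gen.b V_14187 = V_14248 :=
  gap_rel RW_38 (path_edge (F_3211 IH) (path_edge (F_4342 IH) (path_edge (F_4260 IH) (path_nil _))))
theorem F_4348 (IH : D.IHyp) : ed Gen.b V_14247 = V_14186 :=
  gap_rel RW_4 (path_edge (F_4259 IH) (path_edge (F_4345 IH) (path_edge (F_3207 IH) (path_nil _))))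
theorem F_4351 (IH : D.IHyp) : ed Gen.b V_14185 = V_14246 :=
  gap_rel RW_17 (path_edge (F_3206 IH) (path_edge (F_4348 IH) (path_edge (F_4256 IH) (path_nil _))))
theorem F_4352 (IH : D.IHyp) : ed Gen.b V_14246 = V_14185 :=
  flipE D.rels D.S (hinv Gen.b) (F_4351 IH)
theorem F_4353 (IH : D.IHyp) : ed Gen.h V_14182 = V_14246 :=
  gap_rel RW_12 (path_edge (F_3195 IH) (path_edge (F_3259 IH) (path_edge (F_4352 IH) (path_nil _))))
theorem F_4354 (IH : D.IHyp) : ed Gen.h V_14246 = V_14182 :=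
  flipE D.rels D.S (hinv Gen.h) (F_4353 IH)
theorem F_4355 (IH : D.IHyp) : V_14245 = V_14182 :=
  edge_fun (F_4255 IH) (F_4354 IH)
theorem F_4356 (IH : D.IHyp) : ed Gen.a V_14182 = V_14244 :=
  edge_congr (F_4252 IH) (F_4355 IH)
theorem F_4357 (IH : D.IHyp) : ed Gen.a V_14244 = V_14182 :=
  flipE D.rels D.S (hinv Gen.a) (F_4356 IH)
theorem F_4363 (IH : D.IHyp) : ed Gen.a V_14243 = V_14182 :=
  gap_rel RW_14 (path_edge (F_4249 IH) (path_edge (F_4356 IH) (path_edge (F_3195 IH) (path_edge (F_3253 IH) (path_edge (F_3194 IH) (path_nil _))))))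
theorem F_4364 (IH : D.IHyp) : ed Gen.a V_14182 = V_14243 :=
  flipE D.rels D.S (hinv Gen.a) (F_4363 IH)
theorem F_4365 (IH : D.IHyp) : V_14244 = V_14243 :=
  edge_fun (F_4356 IH) (F_4364 IH)
theorem F_4366 (IH : D.IHyp) : ed Gen.a V_14243 = V_14182 :=
  edge_congr (F_4357 IH) (F_4365 IH)
theorem F_4367 (IH : D.IHyp) : ed Gen.a V_14182 = V_14243 :=
  flipE D.rels D.S (hinv Gen.a) (F_4366 IH)
theorem F_4373 (IH : D.IHyp) : ed Gen.a V_14242 = V_14181 :=
  gap_rel RW_0 (path_edge (F_4246 IH) (path_edge (F_4367 IH) (path_edge (F_3190 IH) (path_nil _))))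
theorem F_4376 (IH : D.IHyp) : ed Gen.a V_14180 = V_14241 :=
  gap_rel RW_28 (path_edge (F_3188 IH) (path_edge (F_4373 IH) (path_edge (F_4243 IH) (path_nil _))))
theorem F_4379 (IH : D.IHyp) : ed Gen.a V_14240 = V_14179 :=
  gap_rel RW_16 (path_edge (F_4241 IH) (path_edge (F_4376 IH) (path_edge (F_3184 IH) (path_nil _))))
theorem F_4381 (IH : D.IHyp) : ed Gen.h V_14177 = V_14240 :=
  gap_rel RW_2 (path_edge (F_3174 IH) (path_edge (F_3180 IH) (path_edge (F_4379 IH) (path_nil _))))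
theorem F_4382 (IH : D.IHyp) : ed Gen.h V_14240 = V_14177 :=
  flipE D.rels D.S (hinv Gen.h) (F_4381 IH)
theorem F_4383 (IH : D.IHyp) : V_14239 = V_14177 :=
  edge_fun (F_4237 IH) (F_4382 IH)
theorem F_4384 (IH : D.IHyp) : ed Gen.a V_14177 = V_14238 :=
  edge_congr (F_4233 IH) (F_4383 IH)
theorem F_4385 (IH : D.IHyp) : V_14178 = V_14238 :=
  edge_fun (F_3173 IH) (F_4384 IH)
theorem F_4393 (IH : D.IHyp) : V_14238 = V_14178 :=
  (F_4385 IH).symm
theorem F_4395 (IH : D.IHyp) : ed Gen.b V_14178 = V_14237 :=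
  edge_congr (F_4229 IH) (F_4393 IH)
theorem F_4396 (IH : D.IHyp) : ed Gen.b V_14237 = V_14178 :=
  flipE D.rels D.S (hinv Gen.b) (F_4395 IH)
theorem F_4401 (IH : D.IHyp) : ed Gen.f (D.P 513) = V_14256 :=
  rfl
theorem F_4414 (IH : D.IHyp) : ed Gen.i V_14256 = (D.P 668) :=
  gap_rel RW_49 (path_edge (F_4401 IH) (path_edge (F_3806 IH) (path_edge (F_1671 IH) (path_nil _))))
theorem F_4415 (IH : D.IHyp) : ed Gen.i (D.P 668) = V_14256 :=
  flipE D.rels D.S (hinv Gen.i) (F_4414 IH)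
theorem F_4449 (IH : D.IHyp) : ed Gen.e V_14256 = V_14257 :=
  rfl
theorem F_4452 (IH : D.IHyp) : ed Gen.i V_14257 = (D.P 860) :=
  gap_rel RW_7 (path_edge (F_4449 IH) (path_edge (F_4415 IH) (path_edge (F_1654 IH) (path_nil _))))
theorem F_4453 (IH : D.IHyp) : ed Gen.i (D.P 860) = V_14257 :=
  flipE D.rels D.S (hinv Gen.i) (F_4452 IH)
theorem F_4454 (IH : D.IHyp) : ed Gen.f V_14257 = V_14205 :=
  gap_rel RW_25 (path_edge (F_4449 IH) (path_edge (F_4401 IH) (path_edge (F_1555 IH) (path_edge (F_1554 IH) (path_edge (F_3826 IH) (path_nil _))))))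
theorem F_4455 (IH : D.IHyp) : ed Gen.f V_14205 = V_14257 :=
  flipE D.rels D.S (hinv Gen.f) (F_4454 IH)
theorem F_4456 (IH : D.IHyp) : ed Gen.d V_14257 = V_14257 :=
  gap_rel RW_18 (path_edge (F_4455 IH) (path_edge (F_3515 IH) (path_edge (F_4454 IH) (path_nil _))))
theorem F_4457 (IH : D.IHyp) : ed Gen.b V_14257 = V_14258 :=
  rfl
theorem F_4462 (IH : D.IHyp) : ed Gen.i V_14258 = (D.P 1104) :=
  gap_rel RW_13 (path_edge (F_4457 IH) (path_edge (F_4453 IH) (path_edge (F_1637 IH) (path_nil _))))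
theorem F_4463 (IH : D.IHyp) : ed Gen.i (D.P 1104) = V_14258 :=
  flipE D.rels D.S (hinv Gen.i) (F_4462 IH)
theorem F_4464 (IH : D.IHyp) : ed Gen.c V_14258 = V_14259 :=
  rfl
theorem F_4468 (IH : D.IHyp) : ed Gen.i V_14259 = (D.P 1402) :=
  gap_rel RW_50 (path_edge (F_4464 IH) (path_edge (F_4463 IH) (path_edge (F_1647 IH) (path_nil _))))
theorem F_4469 (IH : D.IHyp) : ed Gen.i (D.P 1402) = V_14259 :=
  flipE D.rels D.S (hinv Gen.i) (F_4468 IH)
theorem F_4471 (IH : D.IHyp) : ed Gen.b (D.P 1756) = (D.P 1756) :=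
  D.real_edge' IH Gen.b 1756 1756 (by decide +kernel)
theorem F_4478 (IH : D.IHyp) : ed Gen.d V_14259 = V_14260 :=
  rfl
theorem F_4483 (IH : D.IHyp) : ed Gen.i V_14260 = (D.P 1756) :=
  gap_rel RW_20 (path_edge (F_4478 IH) (path_edge (F_4469 IH) (path_edge (F_1669 IH) (path_nil _))))
theorem F_4491 (IH : D.IHyp) : ed Gen.h (D.P 1756) = V_14261 :=
  rfl
theorem F_4492 (IH : D.IHyp) : ed Gen.h V_14261 = (D.P 1756) :=
  flipE D.rels D.S (hinv Gen.h) (F_4491 IH)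
theorem F_4493 (IH : D.IHyp) : ed Gen.b V_14261 = V_14261 :=
  gap_rel RW_33 (path_edge (F_4491 IH) (path_edge (F_4471 IH) (path_edge (F_4492 IH) (path_nil _))))
theorem F_4496 (IH : D.IHyp) : ed Gen.d V_14261 = V_14262 :=
  rfl
theorem F_4497 (IH : D.IHyp) : ed Gen.d V_14262 = V_14261 :=
  flipE D.rels D.S (hinv Gen.d) (F_4496 IH)
theorem F_4498 (IH : D.IHyp) : ed Gen.b V_14262 = V_14262 :=
  gap_rel RW_38 (path_edge (F_4496 IH) (path_edge (F_4493 IH) (path_edge (F_4497 IH) (path_nil _))))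
theorem F_4499 (IH : D.IHyp) : ed Gen.f V_14262 = V_14263 :=
  rfl
theorem F_4500 (IH : D.IHyp) : ed Gen.f V_14263 = V_14262 :=
  flipE D.rels D.S (hinv Gen.f) (F_4499 IH)
theorem F_4501 (IH : D.IHyp) : ed Gen.b V_14263 = V_14263 :=
  gap_rel RW_17 (path_edge (F_4499 IH) (path_edge (F_4498 IH) (path_edge (F_4500 IH) (path_nil _))))
theorem F_4502 (IH : D.IHyp) : ed Gen.e V_14263 = V_14264 :=
  rfl
theorem F_4503 (IH : D.IHyp) : ed Gen.e V_14264 = V_14263 :=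
  flipE D.rels D.S (hinv Gen.e) (F_4502 IH)
theorem F_4504 (IH : D.IHyp) : ed Gen.b V_14264 = V_14264 :=
  gap_rel RW_4 (path_edge (F_4502 IH) (path_edge (F_4501 IH) (path_edge (F_4503 IH) (path_nil _))))
theorem F_4505 (IH : D.IHyp) : ed Gen.d V_14264 = V_14265 :=
  rfl
theorem F_4506 (IH : D.IHyp) : ed Gen.d V_14265 = V_14264 :=
  flipE D.rels D.S (hinv Gen.d) (F_4505 IH)
theorem F_4507 (IH : D.IHyp) : ed Gen.b V_14265 = V_14265 :=
  gap_rel RW_38 (path_edge (F_4505 IH) (path_edge (F_4504 IH) (path_edge (F_4506 IH) (path_nil _))))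
theorem F_4508 (IH : D.IHyp) : ed Gen.c V_14265 = V_14266 :=
  rfl
theorem F_4510 (IH : D.IHyp) : ed Gen.d V_14266 = V_14267 :=
  rfl
theorem F_4512 (IH : D.IHyp) : ed Gen.i V_14267 = V_14268 :=
  rfl
theorem F_4514 (IH : D.IHyp) : ed Gen.h V_14268 = V_14269 :=
  rfl
theorem F_4516 (IH : D.IHyp) : ed Gen.d V_14269 = V_14270 :=
  rfl
theorem F_4518 (IH : D.IHyp) : ed Gen.f V_14270 = V_14271 :=
  rfl
theorem F_4520 (IH : D.IHyp) : ed Gen.e V_14271 = V_14272 :=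
  rfl
theorem F_4522 (IH : D.IHyp) : ed Gen.d V_14272 = V_14273 :=
  rfl
theorem F_4524 (IH : D.IHyp) : ed Gen.b V_14273 = V_14274 :=
  rfl
theorem F_4526 (IH : D.IHyp) : ed Gen.c V_14274 = V_14275 :=
  rfl
theorem F_4528 (IH : D.IHyp) : ed Gen.d V_14275 = V_14276 :=
  rfl
theorem F_4530 (IH : D.IHyp) : ed Gen.i V_14276 = V_14277 :=
  rfl
theorem F_4532 (IH : D.IHyp) : ed Gen.h V_14277 = V_14278 :=
  rfl
theorem F_4534 (IH : D.IHyp) : ed Gen.d V_14278 = V_14279 :=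
  rfl
theorem F_4536 (IH : D.IHyp) : ed Gen.f V_14279 = V_14280 :=
  rfl
theorem F_4538 (IH : D.IHyp) : ed Gen.e V_14280 = V_14281 :=
  rfl
theorem F_4540 (IH : D.IHyp) : ed Gen.d V_14281 = V_14282 :=
  rfl
theorem F_4542 (IH : D.IHyp) : ed Gen.b V_14282 = V_14283 :=
  rfl
theorem F_4544 (IH : D.IHyp) : ed Gen.c V_14283 = V_14284 :=
  rfl
theorem F_4546 (IH : D.IHyp) : ed Gen.d V_14284 = V_14285 :=
  rfl
theorem F_4548 (IH : D.IHyp) : ed Gen.i V_14285 = V_14286 :=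
  rfl
theorem F_4550 (IH : D.IHyp) : ed Gen.h V_14286 = V_14287 :=
  rfl
theorem F_4552 (IH : D.IHyp) : ed Gen.d V_14287 = V_14288 :=
  rfl
theorem F_4554 (IH : D.IHyp) : ed Gen.f V_14288 = V_14289 :=
  rfl
theorem F_4556 (IH : D.IHyp) : ed Gen.e V_14289 = V_14290 :=
  rfl
theorem F_4558 (IH : D.IHyp) : ed Gen.d V_14290 = V_14291 :=
  rfl
theorem F_4560 (IH : D.IHyp) : ed Gen.b V_14291 = V_14292 :=
  rfl
theorem F_4562 (IH : D.IHyp) : ed Gen.c V_14292 = V_14293 :=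
  rfl
theorem F_4564 (IH : D.IHyp) : ed Gen.d V_14293 = V_14294 :=
  rfl
theorem F_4566 (IH : D.IHyp) : ed Gen.i V_14294 = V_14295 :=
  rfl
theorem F_4568 (IH : D.IHyp) : ed Gen.h V_14295 = V_14296 :=
  rfl
theorem F_4570 (IH : D.IHyp) : ed Gen.d V_14296 = V_14297 :=
  rfl
theorem F_4572 (IH : D.IHyp) : ed Gen.f V_14297 = V_14298 :=
  rfl
theorem F_4574 (IH : D.IHyp) : ed Gen.e V_14298 = V_14299 :=
  rfl
theorem F_4576 (IH : D.IHyp) : ed Gen.d V_14299 = V_14300 :=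
  rfl
theorem F_4578 (IH : D.IHyp) : ed Gen.b V_14300 = V_14301 :=
  rfl
theorem F_4580 (IH : D.IHyp) : ed Gen.c V_14301 = V_14302 :=
  rfl
theorem F_4582 (IH : D.IHyp) : ed Gen.d V_14302 = V_14303 :=
  rfl
theorem F_4584 (IH : D.IHyp) : ed Gen.i V_14303 = V_14304 :=
  rfl
theorem F_4586 (IH : D.IHyp) : ed Gen.h V_14304 = V_14305 :=
  rfl
theorem F_4588 (IH : D.IHyp) : ed Gen.d V_14305 = V_14306 :=
  rfl
theorem F_4590 (IH : D.IHyp) : ed Gen.f V_14306 = V_14307 :=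
  rfl
theorem F_4592 (IH : D.IHyp) : ed Gen.e V_14307 = V_14308 :=
  rfl
theorem F_4594 (IH : D.IHyp) : ed Gen.d V_14308 = V_14309 :=
  rfl
theorem F_4596 (IH : D.IHyp) : ed Gen.b V_14309 = V_14310 :=
  rfl
theorem F_4598 (IH : D.IHyp) : ed Gen.c V_14310 = V_14311 :=
  rfl
theorem F_4600 (IH : D.IHyp) : ed Gen.d V_14311 = V_14312 :=
  rfl
theorem F_4602 (IH : D.IHyp) : ed Gen.i V_14312 = V_14313 :=
  rfl
theorem F_4604 (IH : D.IHyp) : ed Gen.h V_14313 = V_14314 :=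
  rfl
theorem F_4606 (IH : D.IHyp) : ed Gen.d V_14314 = V_14315 :=
  rfl
theorem F_4608 (IH : D.IHyp) : ed Gen.f V_14315 = V_14316 :=
  rfl
theorem F_4610 (IH : D.IHyp) : ed Gen.e V_14316 = V_14317 :=
  rfl
theorem F_4612 (IH : D.IHyp) : ed Gen.d V_14317 = V_14318 :=
  rfl
theorem F_4613 (IH : D.IHyp) : ed Gen.d V_14318 = V_14317 :=
  flipE D.rels D.S (hinv Gen.d) (F_4612 IH)
theorem F_4614 (IH : D.IHyp) : ed Gen.b V_14318 = V_14319 :=
  rfl
theorem F_4615 (IH : D.IHyp) : ed Gen.b V_14319 = V_14318 :=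
  flipE D.rels D.S (hinv Gen.b) (F_4614 IH)
theorem F_4616 (IH : D.IHyp) : ed Gen.c V_14319 = V_14320 :=
  rfl
theorem F_4617 (IH : D.IHyp) : ed Gen.c V_14320 = V_14319 :=
  flipE D.rels D.S (hinv Gen.c) (F_4616 IH)
theorem F_4618 (IH : D.IHyp) : ed Gen.d V_14320 = V_14321 :=
  rfl
theorem F_4619 (IH : D.IHyp) : ed Gen.d V_14321 = V_14320 :=
  flipE D.rels D.S (hinv Gen.d) (F_4618 IH)
theorem F_4620 (IH : D.IHyp) : ed Gen.i V_14321 = V_14322 :=
  rfl
theorem F_4621 (IH : D.IHyp) : ed Gen.i V_14322 = V_14321 :=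
  flipE D.rels D.S (hinv Gen.i) (F_4620 IH)
theorem F_4622 (IH : D.IHyp) : ed Gen.h V_14322 = V_14323 :=
  rfl
theorem F_4623 (IH : D.IHyp) : ed Gen.h V_14323 = V_14322 :=
  flipE D.rels D.S (hinv Gen.h) (F_4622 IH)
theorem F_4624 (IH : D.IHyp) : ed Gen.d V_14323 = V_14089 :=
  gap_rel RW_51 (path_edge (F_4622 IH) (path_edge (F_4620 IH) (path_edge (F_4618 IH) (path_edge (F_4616 IH) (path_edge (F_4614 IH) (path_edge (F_4612 IH) (path_edge (F_4610 IH) (path_edge (F_4608 IH) (path_edge (F_4606 IH) (path_edge (F_4604 IH) (path_edge (F_4602 IH) (path_edge (F_4600 IH) (path_edge (F_4598 IH) (path_edge (F_4596 IH) (path_edge (F_4594 IH) (path_edge (F_4592 IH) (path_edge (F_4590 IH) (path_edge (F_4588 IH) (path_edge (F_4586 IH) (path_edge (F_4584 IH) (path_edge (F_4582 IH) (path_edge (F_4580 IH) (path_edge (F_4578 IH) (path_edge (F_4576 IH) (path_edge (F_4574 IH) (path_edge (F_4572 IH) (path_edge (F_4570 IH) (path_edge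 (F_4568 IH) (path_edge (F_4566 IH) (path_edge (F_4564 IH) (path_edge (F_4562 IH) (path_edge (F_4560 IH) (path_edge (F_4558 IH) (path_edge (F_4556 IH) (path_edge (F_4554 IH) (path_edge (F_4552 IH) (path_edge (F_4550 IH) (path_edge (F_4548 IH) (path_edge (F_4546 IH) (path_edge (F_4544 IH) (path_edge (F_4542 IH) (path_edge (F_4540 IH) (path_edge (F_4538 IH) (path_edge (F_4536 IH) (path_edge (F_4534 IH) (path_edge (F_4532 IH) (path_edge (F_4530 IH) (path_edge (F_4528 IH) (path_edge (F_4526 IH) (path_edge (F_4524 IH) (path_edge (F_4522 IH) (path_edge (F_4520 IH) (path_edge (F_4518 IH) (path_edge (F_4516 IH) (path_edge (F_4514 IH) (path_edge (F_4512 IH) (path_edge (F_4510 IH) (path_edge (F_4508 IH) (path_edge (F_4507 IH) (path_edge (F_4505 IH) (path_edge (F_4502 IH) (path_edge (F_4499 IH) (path_edge (F_4496 IH) (path_edge (F_4491 IH) (path_edge (F_4483 IH) (path_edge (F_4478 IH) (path_edge (F_4464 IH) (path_edge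 (F_4457 IH) (path_edge (F_4456 IH) (path_edge (F_4449 IH) (path_edge (F_4401 IH) (path_edge (F_1698 IH) (path_edge (F_2041 IH) (path_edge (F_2040 IH) (path_edge (F_2025 IH) (path_edge (F_2013 IH) (path_edge (F_3117 IH) (path_edge (F_3113 IH) (path_edge (F_3105 IH) (path_edge (F_716 IH) (path_edge (F_701 IH) (path_edge (F_703 IH) (path_edge (F_704 IH) (path_edge (F_701 IH) (path_edge (F_706 IH) (path_edge (F_699 IH) (path_edge (F_9 IH) (path_edge (F_437 IH) (path_edge (F_777 IH) (path_nil _))))))))))))))))))))))))))))))))))))))))))))))))))))))))))))))))))))))))))))))))))))))))))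
theorem F_4625 (IH : D.IHyp) : ed Gen.d V_14089 = V_14323 :=
  flipE D.rels D.S (hinv Gen.d) (F_4624 IH)
theorem F_4626 (IH : D.IHyp) : ed Gen.f V_14088 = V_14323 :=
  gap_rel RW_34 (path_edge (F_770 IH) (path_edge (F_777 IH) (path_edge (F_4624 IH) (path_nil _))))
theorem F_4627 (IH : D.IHyp) : ed Gen.f V_14323 = V_14088 :=
  flipE D.rels D.S (hinv Gen.f) (F_4626 IH)
theorem F_4629 (IH : D.IHyp) : ed Gen.c V_14323 = V_14323 :=
  gap_rel RW_37 (path_edge (F_4626 IH) (path_edge (F_774 IH) (path_edge (F_4627 IH) (path_nil _))))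
theorem F_4630 (IH : D.IHyp) : ed Gen.c V_14322 = V_14322 :=
  gap_rel RW_39 (path_edge (F_4623 IH) (path_edge (F_4629 IH) (path_edge (F_4622 IH) (path_nil _))))
theorem F_4631 (IH : D.IHyp) : ed Gen.d V_14322 = V_14322 :=
  gap_rel RW_44 (path_edge (F_4623 IH) (path_edge (F_4625 IH) (path_edge (F_778 IH) (path_edge (F_4624 IH) (path_edge (F_4622 IH) (path_nil _))))))
theorem F_4633 (IH : D.IHyp) : ed Gen.c V_14321 = V_14321 :=
  gap_rel RW_52 (path_edge (F_4621 IH) (path_edge (F_4630 IH) (path_edge (F_4620 IH) (path_nil _))))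
theorem F_4634 (IH : D.IHyp) : ed Gen.i V_14320 = V_14322 :=
  gap_rel RW_20 (path_edge (F_4619 IH) (path_edge (F_4621 IH) (path_edge (F_4631 IH) (path_nil _))))
theorem F_4635 (IH : D.IHyp) : ed Gen.i V_14322 = V_14320 :=
  flipE D.rels D.S (hinv Gen.i) (F_4634 IH)
theorem F_4636 (IH : D.IHyp) : V_14321 = V_14320 :=
  edge_fun (F_4621 IH) (F_4635 IH)
theorem F_4637 (IH : D.IHyp) : ed Gen.c V_14321 = V_14320 :=
  (F_4633 IH).trans (F_4636 IH)
theorem F_4638 (IH : D.IHyp) : ed Gen.c V_14320 = V_14320 :=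
  edge_congr (F_4637 IH) (F_4636 IH)
theorem F_4639 (IH : D.IHyp) : V_14319 = V_14320 :=
  edge_fun (F_4617 IH) (F_4638 IH)
theorem F_4642 (IH : D.IHyp) : ed Gen.d V_14320 = V_14320 :=
  edge_congr (F_4619 IH) (F_4636 IH)
theorem F_4647 (IH : D.IHyp) : V_14320 = V_14319 :=
  (F_4639 IH).symm
theorem F_4648 (IH : D.IHyp) : ed Gen.c V_14319 = V_14319 :=
  edge_congr (F_4617 IH) (F_4647 IH)
theorem F_4649 (IH : D.IHyp) : ed Gen.d V_14320 = V_14319 :=
  (F_4642 IH).trans (F_4647 IH)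
theorem F_4650 (IH : D.IHyp) : ed Gen.d V_14319 = V_14319 :=
  edge_congr (F_4649 IH) (F_4647 IH)
theorem F_4653 (IH : D.IHyp) : ed Gen.i V_14319 = V_14322 :=
  edge_congr (F_4634 IH) (F_4647 IH)
theorem F_4654 (IH : D.IHyp) : ed Gen.i V_14322 = V_14319 :=
  flipE D.rels D.S (hinv Gen.i) (F_4653 IH)
theorem F_4655 (IH : D.IHyp) : ed Gen.b V_14317 = V_14319 :=
  gap_rel RW_38 (path_edge (F_4613 IH) (path_edge (F_4615 IH) (path_edge (F_4650 IH) (path_nil _))))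
theorem F_4656 (IH : D.IHyp) : ed Gen.b V_14319 = V_14317 :=
  flipE D.rels D.S (hinv Gen.b) (F_4655 IH)
theorem F_4657 (IH : D.IHyp) : V_14318 = V_14317 :=
  edge_fun (F_4615 IH) (F_4656 IH)
theorem F_4658 (IH : D.IHyp) : ed Gen.b V_14317 = V_14319 :=
  edge_congr (F_4614 IH) (F_4657 IH)
theorem F_4659 (IH : D.IHyp) : ed Gen.b V_14319 = V_14317 :=
  flipE D.rels D.S (hinv Gen.b) (F_4658 IH)
theorem F_4660 (IH : D.IHyp) : ed Gen.d V_14317 = V_14317 :=
  edge_congr (F_4613 IH) (F_4657 IH)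
theorem F_4671 (IH : D.IHyp) : ed Gen.d V_14164 = V_14324 :=
  rfl
theorem F_4672 (IH : D.IHyp) : ed Gen.d V_14324 = V_14164 :=
  flipE D.rels D.S (hinv Gen.d) (F_4671 IH)
theorem F_4674 (IH : D.IHyp) : ed Gen.b V_14323 = V_14324 :=
  gap_rel RW_38 (path_edge (F_4625 IH) (path_edge (F_2676 IH) (path_edge (F_4672 IH) (path_nil _))))
theorem F_4676 (IH : D.IHyp) : ed Gen.f V_14324 = V_14227 :=
  gap_rel RW_34 (path_edge (F_4671 IH) (path_edge (F_2673 IH) (path_edge (F_4177 IH) (path_nil _))))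
theorem F_4679 (IH : D.IHyp) : ed Gen.h V_14229 = V_14324 :=
  gap_rel RW_23 (path_edge (F_4189 IH) (path_edge (F_4183 IH) (path_edge (F_4676 IH) (path_nil _))))
theorem F_4680 (IH : D.IHyp) : ed Gen.h V_14324 = V_14229 :=
  flipE D.rels D.S (hinv Gen.h) (F_4679 IH)
theorem F_4681 (IH : D.IHyp) : ed Gen.b V_14229 = V_14322 :=
  gap_rel RW_33 (path_edge (F_4680 IH) (path_edge (F_4674 IH) (path_edge (F_4622 IH) (path_nil _))))
theorem F_4682 (IH : D.IHyp) : ed Gen.b V_14322 = V_14229 :=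
  flipE D.rels D.S (hinv Gen.b) (F_4681 IH)
theorem F_4683 (IH : D.IHyp) : ed Gen.i V_14317 = V_14229 :=
  gap_rel RW_13 (path_edge (F_4659 IH) (path_edge (F_4654 IH) (path_edge (F_4681 IH) (path_nil _))))
theorem F_4684 (IH : D.IHyp) : ed Gen.i V_14229 = V_14317 :=
  flipE D.rels D.S (hinv Gen.i) (F_4683 IH)
theorem F_4687 (IH : D.IHyp) : ed Gen.a V_14317 = V_14317 :=
  gap_rel RW_53 (path_edge (F_4684 IH) (path_edge (F_4191 IH) (path_edge (F_4683 IH) (path_nil _))))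
theorem F_4730 (IH : D.IHyp) : ed Gen.c V_14317 = V_14325 :=
  rfl
theorem F_4731 (IH : D.IHyp) : ed Gen.c V_14325 = V_14317 :=
  flipE D.rels D.S (hinv Gen.c) (F_4730 IH)
theorem F_4732 (IH : D.IHyp) : ed Gen.a V_14325 = V_14325 :=
  gap_rel RW_0 (path_edge (F_4730 IH) (path_edge (F_4687 IH) (path_edge (F_4731 IH) (path_nil _))))
theorem F_4734 (IH : D.IHyp) : ed Gen.b V_14325 = V_14325 :=
  gap_rel RW_48 (path_edge (F_4730 IH) (path_edge (F_4659 IH) (path_edge (F_4648 IH) (path_edge (F_4655 IH) (path_edge (F_4731 IH) (path_nil _))))))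
theorem F_4735 (IH : D.IHyp) : ed Gen.d V_14325 = V_14326 :=
  rfl
theorem F_4736 (IH : D.IHyp) : ed Gen.d V_14326 = V_14325 :=
  flipE D.rels D.S (hinv Gen.d) (F_4735 IH)
theorem F_4737 (IH : D.IHyp) : ed Gen.a V_14326 = V_14326 :=
  gap_rel RW_28 (path_edge (F_4735 IH) (path_edge (F_4732 IH) (path_edge (F_4736 IH) (path_nil _))))
theorem F_4738 (IH : D.IHyp) : ed Gen.b V_14326 = V_14326 :=
  gap_rel RW_38 (path_edge (F_4735 IH) (path_edge (F_4734 IH) (path_edge (F_4736 IH) (path_nil _))))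
theorem F_4740 (IH : D.IHyp) : ed Gen.e V_14326 = V_14327 :=
  rfl
theorem F_4741 (IH : D.IHyp) : ed Gen.e V_14327 = V_14326 :=
  flipE D.rels D.S (hinv Gen.e) (F_4740 IH)
theorem F_4742 (IH : D.IHyp) : ed Gen.a V_14327 = V_14327 :=
  gap_rel RW_16 (path_edge (F_4740 IH) (path_edge (F_4737 IH) (path_edge (F_4741 IH) (path_nil _))))
theorem F_4743 (IH : D.IHyp) : ed Gen.b V_14327 = V_14327 :=
  gap_rel RW_4 (path_edge (F_4740 IH) (path_edge (F_4738 IH) (path_edge (F_4741 IH) (path_nil _))))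
theorem F_4745 (IH : D.IHyp) : ed Gen.f V_14327 = V_14328 :=
  rfl
theorem F_4746 (IH : D.IHyp) : ed Gen.f V_14328 = V_14327 :=
  flipE D.rels D.S (hinv Gen.f) (F_4745 IH)
theorem F_4747 (IH : D.IHyp) : ed Gen.a V_14328 = V_14328 :=
  gap_rel RW_42 (path_edge (F_4745 IH) (path_edge (F_4742 IH) (path_edge (F_4746 IH) (path_nil _))))
theorem F_4748 (IH : D.IHyp) : ed Gen.b V_14328 = V_14328 :=
  gap_rel RW_17 (path_edge (F_4745 IH) (path_edge (F_4743 IH) (path_edge (F_4746 IH) (path_nil _))))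
theorem F_4750 (IH : D.IHyp) : ed Gen.d V_14328 = V_14329 :=
  rfl
theorem F_4751 (IH : D.IHyp) : ed Gen.d V_14329 = V_14328 :=
  flipE D.rels D.S (hinv Gen.d) (F_4750 IH)
theorem F_4752 (IH : D.IHyp) : ed Gen.a V_14329 = V_14329 :=
  gap_rel RW_28 (path_edge (F_4750 IH) (path_edge (F_4747 IH) (path_edge (F_4751 IH) (path_nil _))))
theorem F_4753 (IH : D.IHyp) : ed Gen.b V_14329 = V_14329 :=
  gap_rel RW_38 (path_edge (F_4750 IH) (path_edge (F_4748 IH) (path_edge (F_4751 IH) (path_nil _))))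
theorem F_4754 (IH : D.IHyp) : ed Gen.h V_14329 = V_14330 :=
  rfl
theorem F_4755 (IH : D.IHyp) : ed Gen.h V_14330 = V_14329 :=
  flipE D.rels D.S (hinv Gen.h) (F_4754 IH)
theorem F_4756 (IH : D.IHyp) : ed Gen.a V_14330 = V_14330 :=
  gap_rel RW_47 (path_edge (F_4754 IH) (path_edge (F_4752 IH) (path_edge (F_4755 IH) (path_nil _))))
theorem F_4757 (IH : D.IHyp) : ed Gen.b V_14330 = V_14330 :=
  gap_rel RW_33 (path_edge (F_4754 IH) (path_edge (F_4753 IH) (path_edge (F_4755 IH) (path_nil _))))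
theorem F_4758 (IH : D.IHyp) : ed Gen.i V_14330 = V_14331 :=
  rfl
theorem F_4759 (IH : D.IHyp) : ed Gen.i V_14331 = V_14330 :=
  flipE D.rels D.S (hinv Gen.i) (F_4758 IH)
theorem F_4760 (IH : D.IHyp) : ed Gen.a V_14331 = V_14331 :=
  gap_rel RW_53 (path_edge (F_4758 IH) (path_edge (F_4756 IH) (path_edge (F_4759 IH) (path_nil _))))
theorem F_4761 (IH : D.IHyp) : ed Gen.b V_14331 = V_14331 :=
  gap_rel RW_54 (path_edge (F_4758 IH) (path_edge (F_4757 IH) (path_edge (F_4759 IH) (path_nil _))))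
theorem F_4762 (IH : D.IHyp) : ed Gen.d V_14331 = V_14332 :=
  rfl
theorem F_4763 (IH : D.IHyp) : ed Gen.d V_14332 = V_14331 :=
  flipE D.rels D.S (hinv Gen.d) (F_4762 IH)
theorem F_4765 (IH : D.IHyp) : ed Gen.b V_14332 = V_14332 :=
  gap_rel RW_38 (path_edge (F_4762 IH) (path_edge (F_4761 IH) (path_edge (F_4763 IH) (path_nil _))))
theorem F_4766 (IH : D.IHyp) : ed Gen.c V_14332 = V_14333 :=
  rfl
theorem F_4767 (IH : D.IHyp) : ed Gen.c V_14333 = V_14332 :=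
  flipE D.rels D.S (hinv Gen.c) (F_4766 IH)
theorem F_4769 (IH : D.IHyp) : ed Gen.b V_14333 = V_14334 :=
  rfl
theorem F_4770 (IH : D.IHyp) : ed Gen.b V_14334 = V_14333 :=
  flipE D.rels D.S (hinv Gen.b) (F_4769 IH)
theorem F_4771 (IH : D.IHyp) : ed Gen.c V_14334 = V_14334 :=
  gap_rel RW_15 (path_edge (F_4769 IH) (path_edge (F_4766 IH) (path_edge (F_4765 IH) (path_edge (F_4767 IH) (path_edge (F_4770 IH) (path_nil _))))))
theorem F_4772 (IH : D.IHyp) : ed Gen.d V_14334 = V_14335 :=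
  rfl
theorem F_4773 (IH : D.IHyp) : ed Gen.d V_14335 = V_14334 :=
  flipE D.rels D.S (hinv Gen.d) (F_4772 IH)
theorem F_4774 (IH : D.IHyp) : ed Gen.e V_14335 = V_14336 :=
  rfl
theorem F_4775 (IH : D.IHyp) : ed Gen.e V_14336 = V_14335 :=
  flipE D.rels D.S (hinv Gen.e) (F_4774 IH)
theorem F_4776 (IH : D.IHyp) : ed Gen.f V_14336 = V_14337 :=
  rfl
theorem F_4777 (IH : D.IHyp) : ed Gen.f V_14337 = V_14336 :=
  flipE D.rels D.S (hinv Gen.f) (F_4776 IH)
theorem F_4778 (IH : D.IHyp) : ed Gen.d V_14337 = V_14338 :=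
  rfl
theorem F_4779 (IH : D.IHyp) : ed Gen.d V_14338 = V_14337 :=
  flipE D.rels D.S (hinv Gen.d) (F_4778 IH)
theorem F_4780 (IH : D.IHyp) : ed Gen.h V_14338 = V_14339 :=
  rfl
theorem F_4781 (IH : D.IHyp) : ed Gen.h V_14339 = V_14338 :=
  flipE D.rels D.S (hinv Gen.h) (F_4780 IH)
theorem F_4782 (IH : D.IHyp) : ed Gen.i V_14339 = V_14340 :=
  rfl
theorem F_4783 (IH : D.IHyp) : ed Gen.i V_14340 = V_14339 :=
  flipE D.rels D.S (hinv Gen.i) (F_4782 IH)
theorem F_4784 (IH : D.IHyp) : ed Gen.d V_14340 = V_14341 :=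
  rfl
theorem F_4785 (IH : D.IHyp) : ed Gen.d V_14341 = V_14340 :=
  flipE D.rels D.S (hinv Gen.d) (F_4784 IH)
theorem F_4786 (IH : D.IHyp) : ed Gen.c V_14341 = V_14342 :=
  rfl
theorem F_4787 (IH : D.IHyp) : ed Gen.c V_14342 = V_14341 :=
  flipE D.rels D.S (hinv Gen.c) (F_4786 IH)
theorem F_4788 (IH : D.IHyp) : ed Gen.b V_14342 = V_14343 :=
  rfl
theorem F_4789 (IH : D.IHyp) : ed Gen.b V_14343 = V_14342 :=
  flipE D.rels D.S (hinv Gen.b) (F_4788 IH)
theorem F_4790 (IH : D.IHyp) : ed Gen.d V_14343 = V_14344 :=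
  rfl
theorem F_4791 (IH : D.IHyp) : ed Gen.d V_14344 = V_14343 :=
  flipE D.rels D.S (hinv Gen.d) (F_4790 IH)
theorem F_4792 (IH : D.IHyp) : ed Gen.e V_14344 = V_14345 :=
  rfl
theorem F_4793 (IH : D.IHyp) : ed Gen.e V_14345 = V_14344 :=
  flipE D.rels D.S (hinv Gen.e) (F_4792 IH)
theorem F_4794 (IH : D.IHyp) : ed Gen.f V_14345 = V_14346 :=
  rfl
theorem F_4795 (IH : D.IHyp) : ed Gen.f V_14346 = V_14345 :=
  flipE D.rels D.S (hinv Gen.f) (F_4794 IH)
theorem F_4796 (IH : D.IHyp) : ed Gen.d V_14346 = V_14347 :=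
  rfl
theorem F_4797 (IH : D.IHyp) : ed Gen.d V_14347 = V_14346 :=
  flipE D.rels D.S (hinv Gen.d) (F_4796 IH)
theorem F_4798 (IH : D.IHyp) : ed Gen.h V_14347 = V_14348 :=
  rfl
theorem F_4799 (IH : D.IHyp) : ed Gen.h V_14348 = V_14347 :=
  flipE D.rels D.S (hinv Gen.h) (F_4798 IH)
theorem F_4800 (IH : D.IHyp) : ed Gen.i V_14348 = V_14349 :=
  rfl
theorem F_4801 (IH : D.IHyp) : ed Gen.i V_14349 = V_14348 :=
  flipE D.rels D.S (hinv Gen.i) (F_4800 IH)
theorem F_4802 (IH : D.IHyp) : ed Gen.d V_14349 = V_14350 :=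
  rfl
theorem F_4803 (IH : D.IHyp) : ed Gen.d V_14350 = V_14349 :=
  flipE D.rels D.S (hinv Gen.d) (F_4802 IH)
theorem F_4804 (IH : D.IHyp) : ed Gen.c V_14350 = V_14351 :=
  rfl
theorem F_4805 (IH : D.IHyp) : ed Gen.c V_14351 = V_14350 :=
  flipE D.rels D.S (hinv Gen.c) (F_4804 IH)
theorem F_4806 (IH : D.IHyp) : ed Gen.b V_14351 = V_14352 :=
  rfl
theorem F_4807 (IH : D.IHyp) : ed Gen.b V_14352 = V_14351 :=
  flipE D.rels D.S (hinv Gen.b) (F_4806 IH)
theorem F_4808 (IH : D.IHyp) : ed Gen.d V_14352 = V_14353 :=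
  rfl
theorem F_4809 (IH : D.IHyp) : ed Gen.d V_14353 = V_14352 :=
  flipE D.rels D.S (hinv Gen.d) (F_4808 IH)
theorem F_4810 (IH : D.IHyp) : ed Gen.e V_14353 = V_14354 :=
  rfl
theorem F_4811 (IH : D.IHyp) : ed Gen.e V_14354 = V_14353 :=
  flipE D.rels D.S (hinv Gen.e) (F_4810 IH)
theorem F_4812 (IH : D.IHyp) : ed Gen.f V_14354 = V_14355 :=
  rfl
theorem F_4813 (IH : D.IHyp) : ed Gen.f V_14355 = V_14354 :=
  flipE D.rels D.S (hinv Gen.f) (F_4812 IH)
theorem F_4814 (IH : D.IHyp) : ed Gen.d V_14355 = V_14356 :=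
  rfl
theorem F_4815 (IH : D.IHyp) : ed Gen.d V_14356 = V_14355 :=
  flipE D.rels D.S (hinv Gen.d) (F_4814 IH)
theorem F_4816 (IH : D.IHyp) : ed Gen.h V_14356 = V_14357 :=
  rfl
theorem F_4817 (IH : D.IHyp) : ed Gen.h V_14357 = V_14356 :=
  flipE D.rels D.S (hinv Gen.h) (F_4816 IH)
theorem F_4818 (IH : D.IHyp) : ed Gen.i V_14357 = V_14358 :=
  rfl
theorem F_4819 (IH : D.IHyp) : ed Gen.i V_14358 = V_14357 :=
  flipE D.rels D.S (hinv Gen.i) (F_4818 IH)
theorem F_4820 (IH : D.IHyp) : ed Gen.d V_14081 = V_14358 :=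
  gap_rel RW_55 (path_edge (F_269 IH) (path_edge (F_137 IH) (path_edge (F_136 IH) (path_edge (F_135 IH) (path_edge (F_134 IH) (path_edge (F_81 IH) (path_edge (F_133 IH) (path_edge (F_132 IH) (path_edge (F_131 IH) (path_edge (F_130 IH) (path_edge (F_129 IH) (path_edge (F_128 IH) (path_edge (F_127 IH) (path_edge (F_126 IH) (path_edge (F_125 IH) (path_edge (F_124 IH) (path_edge (F_123 IH) (path_edge (F_74 IH) (path_edge (F_73 IH) (path_edge (F_72 IH) (path_edge (F_122 IH) (path_edge (F_75 IH) (path_edge (F_121 IH) (path_edge (F_120 IH) (path_edge (F_119 IH) (path_edge (F_118 IH) (path_edge (F_117 IH) (path_edge (F_116 IH) (path_edge (F_115 IH) (path_edge (F_114 IH) (path_edge (F_113 IH) (path_edge (F_112 IH) (path_edge (F_111 IH) (path_edge (F_110 IH) (path_edge (F_109 IH) (path_edge (F_108 IH) (path_edge (F_107 IH) (path_edge (F_106 IH) (path_edge (F_105 IH) (path_edge (F_34 IH) (path_edge (F_104 IH) (path_edge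 (F_103 IH) (path_edge (F_102 IH) (path_edge (F_101 IH) (path_edge (F_23 IH) (path_edge (F_1 IH) (path_edge (F_700 IH) (path_edge (F_701 IH) (path_edge (F_708 IH) (path_edge (F_2672 IH) (path_edge (F_4672 IH) (path_edge (F_4679 IH) (path_edge (F_4683 IH) (path_edge (F_4660 IH) (path_edge (F_4731 IH) (path_edge (F_4734 IH) (path_edge (F_4736 IH) (path_edge (F_4741 IH) (path_edge (F_4746 IH) (path_edge (F_4751 IH) (path_edge (F_4755 IH) (path_edge (F_4759 IH) (path_edge (F_4763 IH) (path_edge (F_4767 IH) (path_edge (F_4770 IH) (path_edge (F_4773 IH) (path_edge (F_4775 IH) (path_edge (F_4777 IH) (path_edge (F_4779 IH) (path_edge (F_4781 IH) (path_edge (F_4783 IH) (path_edge (F_4785 IH) (path_edge (F_4787 IH) (path_edge (F_4789 IH) (path_edge (F_4791 IH) (path_edge (F_4793 IH) (path_edge (F_4795 IH) (path_edge (F_4797 IH) (path_edge (F_4799 IH) (path_edge (F_4801 IH) (path_edge (F_4803 IH) (path_edge (F_4805 IH)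 (path_edge (F_4807 IH) (path_edge (F_4809 IH) (path_edge (F_4811 IH) (path_edge (F_4813 IH) (path_edge (F_4815 IH) (path_edge (F_4817 IH) (path_edge (F_4819 IH) (path_nil _))))))))))))))))))))))))))))))))))))))))))))))))))))))))))))))))))))))))))))))))))))))))))
theorem F_4821 (IH : D.IHyp) : ed Gen.d V_14358 = V_14081 :=
  flipE D.rels D.S (hinv Gen.d) (F_4820 IH)
theorem F_4822 (IH : D.IHyp) : ed Gen.a V_14358 = V_14088 :=
  gap_rel RW_28 (path_edge (F_4820 IH) (path_edge (F_436 IH) (path_edge (F_771 IH) (path_nil _))))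
theorem F_4823 (IH : D.IHyp) : ed Gen.a V_14088 = V_14358 :=
  flipE D.rels D.S (hinv Gen.a) (F_4822 IH)
theorem F_4824 (IH : D.IHyp) : ed Gen.e V_14358 = V_14358 :=
  gap_rel RW_8 (path_edge (F_4823 IH) (path_edge (F_775 IH) (path_edge (F_4822 IH) (path_nil _))))
theorem F_4826 (IH : D.IHyp) : V_14358 = V_14357 :=
  loop_rel RW_3 (path_edge (F_4819 IH) (path_edge (F_4823 IH) (path_edge (F_773 IH) (path_edge (F_4822 IH) (path_nil _)))))
theorem F_4827 (IH : D.IHyp) : ed Gen.a V_14357 = V_14088 :=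
  edge_congr (F_4822 IH) (F_4826 IH)
theorem F_4828 (IH : D.IHyp) : ed Gen.a V_14088 = V_14357 :=
  flipE D.rels D.S (hinv Gen.a) (F_4827 IH)
theorem F_4829 (IH : D.IHyp) : ed Gen.d V_14357 = V_14081 :=
  edge_congr (F_4821 IH) (F_4826 IH)
theorem F_4830 (IH : D.IHyp) : ed Gen.d V_14081 = V_14357 :=
  flipE D.rels D.S (hinv Gen.d) (F_4829 IH)
theorem F_4831 (IH : D.IHyp) : ed Gen.e V_14358 = V_14357 :=
  (F_4824 IH).trans (F_4826 IH)
theorem F_4832 (IH : D.IHyp) : ed Gen.e V_14357 = V_14357 :=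
  edge_congr (F_4831 IH) (F_4826 IH)
theorem F_4835 (IH : D.IHyp) : ed Gen.i V_14357 = V_14357 :=
  edge_congr (F_4819 IH) (F_4826 IH)
theorem F_4836 (IH : D.IHyp) : ed Gen.b V_14357 = V_14357 :=
  gap_rel RW_38 (path_edge (F_4830 IH) (path_edge (F_268 IH) (path_edge (F_4829 IH) (path_nil _))))
theorem F_4837 (IH : D.IHyp) : ed Gen.b V_14356 = V_14356 :=
  gap_rel RW_33 (path_edge (F_4817 IH) (path_edge (F_4836 IH) (path_edge (F_4816 IH) (path_nil _))))
theorem F_4838 (IH : D.IHyp) : ed Gen.c V_14357 = V_14357 :=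
  gap_rel RW_9 (path_edge (F_4828 IH) (path_edge (F_774 IH) (path_edge (F_4827 IH) (path_nil _))))
theorem F_4839 (IH : D.IHyp) : ed Gen.c V_14356 = V_14356 :=
  gap_rel RW_39 (path_edge (F_4817 IH) (path_edge (F_4838 IH) (path_edge (F_4816 IH) (path_nil _))))
theorem F_4840 (IH : D.IHyp) : ed Gen.e V_14356 = V_14356 :=
  gap_rel RW_26 (path_edge (F_4817 IH) (path_edge (F_4832 IH) (path_edge (F_4816 IH) (path_nil _))))
theorem F_4842 (IH : D.IHyp) : ed Gen.h V_14355 = V_14357 :=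
  gap_rel RW_43 (path_edge (F_4815 IH) (path_edge (F_4817 IH) (path_edge (F_4830 IH) (path_edge (F_273 IH) (path_edge (F_4829 IH) (path_nil _))))))
theorem F_4843 (IH : D.IHyp) : ed Gen.h V_14357 = V_14355 :=
  flipE D.rels D.S (hinv Gen.h) (F_4842 IH)
theorem F_4844 (IH : D.IHyp) : V_14356 = V_14355 :=
  edge_fun (F_4817 IH) (F_4843 IH)
theorem F_4845 (IH : D.IHyp) : ed Gen.b V_14356 = V_14355 :=
  (F_4837 IH).trans (F_4844 IH)
theorem F_4846 (IH : D.IHyp) : ed Gen.b V_14355 = V_14355 :=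
  edge_congr (F_4845 IH) (F_4844 IH)
theorem F_4847 (IH : D.IHyp) : ed Gen.c V_14356 = V_14355 :=
  (F_4839 IH).trans (F_4844 IH)
theorem F_4848 (IH : D.IHyp) : ed Gen.c V_14355 = V_14355 :=
  edge_congr (F_4847 IH) (F_4844 IH)
theorem F_4849 (IH : D.IHyp) : ed Gen.d V_14355 = V_14355 :=
  edge_congr (F_4815 IH) (F_4844 IH)
theorem F_4850 (IH : D.IHyp) : ed Gen.e V_14356 = V_14355 :=
  (F_4840 IH).trans (F_4844 IH)
theorem F_4851 (IH : D.IHyp) : ed Gen.e V_14355 = V_14355 :=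
  edge_congr (F_4850 IH) (F_4844 IH)
theorem F_4854 (IH : D.IHyp) : ed Gen.h V_14355 = V_14357 :=
  edge_congr (F_4816 IH) (F_4844 IH)
theorem F_4855 (IH : D.IHyp) : ed Gen.h V_14357 = V_14355 :=
  flipE D.rels D.S (hinv Gen.h) (F_4854 IH)
theorem F_4856 (IH : D.IHyp) : ed Gen.b V_14354 = V_14354 :=
  gap_rel RW_17 (path_edge (F_4813 IH) (path_edge (F_4846 IH) (path_edge (F_4812 IH) (path_nil _))))
theorem F_4857 (IH : D.IHyp) : ed Gen.c V_14354 = V_14354 :=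
  gap_rel RW_37 (path_edge (F_4813 IH) (path_edge (F_4848 IH) (path_edge (F_4812 IH) (path_nil _))))
theorem F_4858 (IH : D.IHyp) : ed Gen.d V_14354 = V_14354 :=
  gap_rel RW_18 (path_edge (F_4813 IH) (path_edge (F_4849 IH) (path_edge (F_4812 IH) (path_nil _))))
theorem F_4859 (IH : D.IHyp) : ed Gen.f V_14353 = V_14353 :=
  gap_rel RW_25 (path_edge (F_4811 IH) (path_edge (F_4813 IH) (path_edge (F_4851 IH) (path_edge (F_4812 IH) (path_edge (F_4810 IH) (path_nil _))))))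
theorem F_4860 (IH : D.IHyp) : ed Gen.b V_14353 = V_14353 :=
  gap_rel RW_4 (path_edge (F_4811 IH) (path_edge (F_4856 IH) (path_edge (F_4810 IH) (path_nil _))))
theorem F_4861 (IH : D.IHyp) : ed Gen.c V_14353 = V_14353 :=
  gap_rel RW_5 (path_edge (F_4811 IH) (path_edge (F_4857 IH) (path_edge (F_4810 IH) (path_nil _))))
theorem F_4862 (IH : D.IHyp) : ed Gen.e V_14352 = V_14352 :=
  gap_rel RW_22 (path_edge (F_4809 IH) (path_edge (F_4811 IH) (path_edge (F_4858 IH) (path_edge (F_4810 IH) (path_edge (F_4808 IH) (path_nil _))))))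
theorem F_4863 (IH : D.IHyp) : ed Gen.d V_14351 = V_14353 :=
  gap_rel RW_11 (path_edge (F_4807 IH) (path_edge (F_4809 IH) (path_edge (F_4860 IH) (path_nil _))))
theorem F_4864 (IH : D.IHyp) : ed Gen.d V_14353 = V_14351 :=
  flipE D.rels D.S (hinv Gen.d) (F_4863 IH)
theorem F_4865 (IH : D.IHyp) : V_14352 = V_14351 :=
  edge_fun (F_4809 IH) (F_4864 IH)
theorem F_4866 (IH : D.IHyp) : ed Gen.b V_14351 = V_14351 :=
  edge_congr (F_4807 IH) (F_4865 IH)
theorem F_4867 (IH : D.IHyp) : ed Gen.d V_14351 = V_14353 :=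
  edge_congr (F_4808 IH) (F_4865 IH)
theorem F_4868 (IH : D.IHyp) : ed Gen.d V_14353 = V_14351 :=
  flipE D.rels D.S (hinv Gen.d) (F_4867 IH)
theorem F_4869 (IH : D.IHyp) : ed Gen.e V_14352 = V_14351 :=
  (F_4862 IH).trans (F_4865 IH)
theorem F_4870 (IH : D.IHyp) : ed Gen.e V_14351 = V_14351 :=
  edge_congr (F_4869 IH) (F_4865 IH)
theorem F_4871 (IH : D.IHyp) : ed Gen.f V_14351 = V_14351 :=
  gap_rel RW_34 (path_edge (F_4868 IH) (path_edge (F_4859 IH) (path_edge (F_4863 IH) (path_nil _))))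
theorem F_4872 (IH : D.IHyp) : ed Gen.c V_14349 = V_14351 :=
  gap_rel RW_21 (path_edge (F_4803 IH) (path_edge (F_4805 IH) (path_edge (F_4868 IH) (path_edge (F_4861 IH) (path_edge (F_4863 IH) (path_nil _))))))
theorem F_4873 (IH : D.IHyp) : ed Gen.c V_14351 = V_14349 :=
  flipE D.rels D.S (hinv Gen.c) (F_4872 IH)
theorem F_4874 (IH : D.IHyp) : V_14350 = V_14349 :=
  edge_fun (F_4805 IH) (F_4873 IH)
theorem F_4875 (IH : D.IHyp) : ed Gen.c V_14349 = V_14351 :=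
  edge_congr (F_4804 IH) (F_4874 IH)
theorem F_4876 (IH : D.IHyp) : ed Gen.c V_14351 = V_14349 :=
  flipE D.rels D.S (hinv Gen.c) (F_4875 IH)
theorem F_4878 (IH : D.IHyp) : ed Gen.e V_14349 = V_14349 :=
  gap_rel RW_29 (path_edge (F_4876 IH) (path_edge (F_4870 IH) (path_edge (F_4872 IH) (path_nil _))))
theorem F_4879 (IH : D.IHyp) : ed Gen.f V_14349 = V_14349 :=
  gap_rel RW_35 (path_edge (F_4876 IH) (path_edge (F_4871 IH) (path_edge (F_4872 IH) (path_nil _))))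
theorem F_4881 (IH : D.IHyp) : ed Gen.e V_14348 = V_14348 :=
  gap_rel RW_56 (path_edge (F_4801 IH) (path_edge (F_4878 IH) (path_edge (F_4800 IH) (path_nil _))))
theorem F_4882 (IH : D.IHyp) : ed Gen.f V_14348 = V_14348 :=
  gap_rel RW_57 (path_edge (F_4801 IH) (path_edge (F_4879 IH) (path_edge (F_4800 IH) (path_nil _))))
theorem F_4883 (IH : D.IHyp) : ed Gen.e V_14347 = V_14347 :=
  gap_rel RW_26 (path_edge (F_4799 IH) (path_edge (F_4881 IH) (path_edge (F_4798 IH) (path_nil _))))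
theorem F_4884 (IH : D.IHyp) : ed Gen.f V_14347 = V_14347 :=
  gap_rel RW_40 (path_edge (F_4799 IH) (path_edge (F_4882 IH) (path_edge (F_4798 IH) (path_nil _))))
theorem F_4886 (IH : D.IHyp) : ed Gen.d V_14345 = V_14347 :=
  gap_rel RW_18 (path_edge (F_4795 IH) (path_edge (F_4797 IH) (path_edge (F_4884 IH) (path_nil _))))
theorem F_4887 (IH : D.IHyp) : ed Gen.d V_14347 = V_14345 :=
  flipE D.rels D.S (hinv Gen.d) (F_4886 IH)
theorem F_4888 (IH : D.IHyp) : V_14346 = V_14345 :=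
  edge_fun (F_4797 IH) (F_4887 IH)
theorem F_4889 (IH : D.IHyp) : ed Gen.d V_14345 = V_14347 :=
  edge_congr (F_4796 IH) (F_4888 IH)
theorem F_4890 (IH : D.IHyp) : ed Gen.d V_14347 = V_14345 :=
  flipE D.rels D.S (hinv Gen.d) (F_4889 IH)
theorem F_4894 (IH : D.IHyp) : ed Gen.e V_14343 = V_14345 :=
  gap_rel RW_22 (path_edge (F_4791 IH) (path_edge (F_4793 IH) (path_edge (F_4890 IH) (path_edge (F_4883 IH) (path_edge (F_4886 IH) (path_nil _))))))
theorem F_4895 (IH : D.IHyp) : ed Gen.e V_14345 = V_14343 :=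
  flipE D.rels D.S (hinv Gen.e) (F_4894 IH)
theorem F_4896 (IH : D.IHyp) : V_14344 = V_14343 :=
  edge_fun (F_4793 IH) (F_4895 IH)
theorem F_4898 (IH : D.IHyp) : ed Gen.e V_14343 = V_14345 :=
  edge_congr (F_4792 IH) (F_4896 IH)
theorem F_4899 (IH : D.IHyp) : ed Gen.e V_14345 = V_14343 :=
  flipE D.rels D.S (hinv Gen.e) (F_4898 IH)
theorem F_4918 (IH : D.IHyp) : ed Gen.e (D.P 66) = (D.P 46) :=
  D.real_edge' IH Gen.e 66 46 (by decide +kernel)
theorem F_4984 (IH : D.IHyp) : ed Gen.i (D.P 31) = (D.P 48) :=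
  D.real_edge' IH Gen.i 31 48 (by decide +kernel)
theorem F_5154 (IH : D.IHyp) : ed Gen.c V_14227 = V_14415 :=
  rfl
theorem F_5155 (IH : D.IHyp) : ed Gen.c V_14415 = V_14227 :=
  flipE D.rels D.S (hinv Gen.c) (F_5154 IH)
theorem F_5159 (IH : D.IHyp) : ed Gen.i V_14415 = V_14415 :=
  gap_rel RW_50 (path_edge (F_5154 IH) (path_edge (F_4181 IH) (path_edge (F_5155 IH) (path_nil _))))
theorem F_5160 (IH : D.IHyp) : ed Gen.b V_14415 = V_14415 :=
  gap_rel RW_48 (path_edge (F_5154 IH) (path_edge (F_4175 IH) (path_edge (F_774 IH) (path_edge (F_4176 IH) (path_edge (F_5155 IH) (path_nil _))))))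
theorem F_5161 (IH : D.IHyp) : ed Gen.d V_14415 = V_14415 :=
  gap_rel RW_30 (path_edge (F_5154 IH) (path_edge (F_4178 IH) (path_edge (F_712 IH) (path_edge (F_4177 IH) (path_edge (F_5155 IH) (path_nil _))))))
theorem F_5162 (IH : D.IHyp) : ed Gen.h V_14415 = V_14416 :=
  rfl
theorem F_5163 (IH : D.IHyp) : ed Gen.h V_14416 = V_14415 :=
  flipE D.rels D.S (hinv Gen.h) (F_5162 IH)
theorem F_5165 (IH : D.IHyp) : ed Gen.b V_14416 = V_14416 :=
  gap_rel RW_33 (path_edge (F_5162 IH) (path_edge (F_5160 IH) (path_edge (F_5163 IH) (path_nil _))))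
theorem F_5166 (IH : D.IHyp) : ed Gen.c V_14228 = V_14416 :=
  gap_rel RW_39 (path_edge (F_4183 IH) (path_edge (F_5155 IH) (path_edge (F_5163 IH) (path_nil _))))
theorem F_5167 (IH : D.IHyp) : ed Gen.c V_14416 = V_14228 :=
  flipE D.rels D.S (hinv Gen.c) (F_5166 IH)
theorem F_5170 (IH : D.IHyp) : ed Gen.d V_14416 = V_14417 :=
  rfl
theorem F_5171 (IH : D.IHyp) : ed Gen.d V_14417 = V_14416 :=
  flipE D.rels D.S (hinv Gen.d) (F_5170 IH)
theorem F_5173 (IH : D.IHyp) : ed Gen.b V_14417 = V_14417 :=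
  gap_rel RW_38 (path_edge (F_5170 IH) (path_edge (F_5165 IH) (path_edge (F_5171 IH) (path_nil _))))
theorem F_5175 (IH : D.IHyp) : ed Gen.c V_14417 = V_14417 :=
  gap_rel RW_21 (path_edge (F_5170 IH) (path_edge (F_5166 IH) (path_edge (F_4188 IH) (path_edge (F_5167 IH) (path_edge (F_5171 IH) (path_nil _))))))
theorem F_5177 (IH : D.IHyp) : ed Gen.f V_14417 = V_14418 :=
  rfl
theorem F_5178 (IH : D.IHyp) : ed Gen.f V_14418 = V_14417 :=
  flipE D.rels D.S (hinv Gen.f) (F_5177 IH)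
theorem F_5180 (IH : D.IHyp) : ed Gen.b V_14418 = V_14418 :=
  gap_rel RW_17 (path_edge (F_5177 IH) (path_edge (F_5173 IH) (path_edge (F_5178 IH) (path_nil _))))
theorem F_5181 (IH : D.IHyp) : ed Gen.c V_14418 = V_14418 :=
  gap_rel RW_37 (path_edge (F_5177 IH) (path_edge (F_5175 IH) (path_edge (F_5178 IH) (path_nil _))))
theorem F_5183 (IH : D.IHyp) : ed Gen.e V_14418 = V_14419 :=
  rfl
theorem F_5184 (IH : D.IHyp) : ed Gen.e V_14419 = V_14418 :=
  flipE D.rels D.S (hinv Gen.e) (F_5183 IH)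
theorem F_5186 (IH : D.IHyp) : ed Gen.b V_14419 = V_14419 :=
  gap_rel RW_4 (path_edge (F_5183 IH) (path_edge (F_5180 IH) (path_edge (F_5184 IH) (path_nil _))))
theorem F_5187 (IH : D.IHyp) : ed Gen.c V_14419 = V_14419 :=
  gap_rel RW_5 (path_edge (F_5183 IH) (path_edge (F_5181 IH) (path_edge (F_5184 IH) (path_nil _))))
theorem F_5189 (IH : D.IHyp) : ed Gen.d V_14419 = V_14420 :=
  rfl
theorem F_5190 (IH : D.IHyp) : ed Gen.d V_14420 = V_14419 :=
  flipE D.rels D.S (hinv Gen.d) (F_5189 IH)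
theorem F_5192 (IH : D.IHyp) : ed Gen.b V_14420 = V_14420 :=
  gap_rel RW_38 (path_edge (F_5189 IH) (path_edge (F_5186 IH) (path_edge (F_5190 IH) (path_nil _))))
theorem F_5193 (IH : D.IHyp) : ed Gen.c V_14420 = V_14421 :=
  rfl
theorem F_5194 (IH : D.IHyp) : ed Gen.c V_14421 = V_14420 :=
  flipE D.rels D.S (hinv Gen.c) (F_5193 IH)
theorem F_5196 (IH : D.IHyp) : ed Gen.d V_14421 = V_14421 :=
  gap_rel RW_30 (path_edge (F_5193 IH) (path_edge (F_5189 IH) (path_edge (F_5187 IH) (path_edge (F_5190 IH) (path_edge (F_5194 IH) (path_nil _))))))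
theorem F_5197 (IH : D.IHyp) : ed Gen.i V_14421 = V_14422 :=
  rfl
theorem F_5201 (IH : D.IHyp) : ed Gen.h V_14422 = V_14423 :=
  rfl
theorem F_5204 (IH : D.IHyp) : ed Gen.d V_14423 = V_14424 :=
  rfl
theorem F_5208 (IH : D.IHyp) : ed Gen.f V_14424 = V_14425 :=
  rfl
theorem F_5212 (IH : D.IHyp) : ed Gen.e V_14425 = V_14426 :=
  rfl
theorem F_5216 (IH : D.IHyp) : ed Gen.d V_14426 = V_14427 :=
  rfl
theorem F_5219 (IH : D.IHyp) : ed Gen.b V_14427 = V_14428 :=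
  rfl
theorem F_5221 (IH : D.IHyp) : ed Gen.c V_14428 = V_14429 :=
  rfl
theorem F_5223 (IH : D.IHyp) : ed Gen.d V_14429 = V_14430 :=
  rfl
theorem F_5225 (IH : D.IHyp) : ed Gen.i V_14430 = V_14431 :=
  rfl
theorem F_5227 (IH : D.IHyp) : ed Gen.h V_14431 = V_14432 :=
  rfl
theorem F_5229 (IH : D.IHyp) : ed Gen.d V_14432 = V_14433 :=
  rfl
theorem F_5231 (IH : D.IHyp) : ed Gen.f V_14433 = V_14434 :=
  rfl
theorem F_5233 (IH : D.IHyp) : ed Gen.e V_14434 = V_14435 :=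
  rfl
theorem F_5235 (IH : D.IHyp) : ed Gen.d V_14435 = V_14436 :=
  rfl
theorem F_5237 (IH : D.IHyp) : ed Gen.b V_14436 = V_14437 :=
  rfl
theorem F_5239 (IH : D.IHyp) : ed Gen.c V_14437 = V_14438 :=
  rfl
theorem F_5241 (IH : D.IHyp) : ed Gen.d V_14438 = V_14439 :=
  rfl
theorem F_5243 (IH : D.IHyp) : ed Gen.i V_14439 = V_14440 :=
  rfl
theorem F_5245 (IH : D.IHyp) : ed Gen.h V_14440 = V_14441 :=
  rfl
theorem F_5247 (IH : D.IHyp) : ed Gen.d V_14441 = V_14442 :=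
  rfl
theorem F_5249 (IH : D.IHyp) : ed Gen.f V_14442 = V_14443 :=
  rfl
theorem F_5251 (IH : D.IHyp) : ed Gen.e V_14443 = V_14444 :=
  rfl
theorem F_5253 (IH : D.IHyp) : ed Gen.d V_14444 = V_14445 :=
  rfl
theorem F_5255 (IH : D.IHyp) : ed Gen.b V_14445 = V_14446 :=
  rfl
theorem F_5257 (IH : D.IHyp) : ed Gen.c V_14446 = V_14447 :=
  rfl
theorem F_5259 (IH : D.IHyp) : ed Gen.d V_14447 = V_14448 :=
  rfl
theorem F_5261 (IH : D.IHyp) : ed Gen.i V_14448 = V_14449 :=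
  rfl
theorem F_5263 (IH : D.IHyp) : ed Gen.h V_14449 = V_14450 :=
  rfl
theorem F_5265 (IH : D.IHyp) : ed Gen.d V_14450 = V_14451 :=
  rfl
theorem F_5267 (IH : D.IHyp) : ed Gen.f V_14451 = V_14452 :=
  rfl
theorem F_5269 (IH : D.IHyp) : ed Gen.e V_14452 = V_14453 :=
  rfl
theorem F_5271 (IH : D.IHyp) : ed Gen.d V_14453 = V_14454 :=
  rfl
theorem F_5273 (IH : D.IHyp) : ed Gen.b V_14454 = V_14455 :=
  rfl
theorem F_5275 (IH : D.IHyp) : ed Gen.c V_14455 = V_14456 :=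
  rfl
theorem F_5277 (IH : D.IHyp) : ed Gen.d V_14456 = V_14457 :=
  rfl
theorem F_5279 (IH : D.IHyp) : ed Gen.i V_14457 = V_14458 :=
  rfl
theorem F_5281 (IH : D.IHyp) : ed Gen.h V_14458 = V_14459 :=
  rfl
theorem F_5283 (IH : D.IHyp) : ed Gen.d V_14459 = V_14460 :=
  rfl
theorem F_5284 (IH : D.IHyp) : ed Gen.d V_14460 = V_14459 :=
  flipE D.rels D.S (hinv Gen.d) (F_5283 IH)
theorem F_5285 (IH : D.IHyp) : ed Gen.f V_14460 = (D.P 408) :=
  gap_rel RW_58 (path_edge (F_5283 IH) (path_edge (F_5281 IH) (path_edge (F_5279 IH) (path_edge (F_5277 IH) (path_edge (F_5275 IH) (path_edge (F_5273 IH) (path_edge (F_5271 IH) (path_edge (F_5269 IH) (path_edge (F_5267 IH) (path_edge (F_5265 IH) (path_edge (F_5263 IH) (path_edge (F_5261 IH) (path_edge (F_5259 IH) (path_edge (F_5257 IH) (path_edge (F_5255 IH) (path_edge (F_5253 IH) (path_edge (F_5251 IH) (path_edge (F_5249 IH) (path_edge (F_5247 IH) (path_edge (F_5245 IH)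 (path_edge (F_5243 IH) (path_edge (F_5241 IH) (path_edge (F_5239 IH) (path_edge (F_5237 IH) (path_edge (F_5235 IH) (path_edge (F_5233 IH) (path_edge (F_5231 IH) (path_edge (F_5229 IH) (path_edge (F_5227 IH) (path_edge (F_5225 IH) (path_edge (F_5223 IH) (path_edge (F_5221 IH) (path_edge (F_5219 IH) (path_edge (F_5216 IH) (path_edge (F_5212 IH) (path_edge (F_5208 IH) (path_edge (F_5204 IH) (path_edge (F_5201 IH) (path_edge (F_5197 IH) (path_edge (F_5196 IH) (path_edge (F_5193 IH) (path_edge (F_5192 IH) (path_edge (F_5189 IH) (path_edge (F_5183 IH) (path_edge (F_5177 IH) (path_edge (F_5170 IH) (path_edge (F_5162 IH) (path_edge (F_5159 IH) (path_edge (F_5161 IH) (path_edge (F_5154 IH) (path_edge (F_4175 IH) (path_edge (F_770 IH) (path_edge (F_438 IH) (path_edge (F_448 IH) (path_edge (F_447 IH) (path_edge (F_450 IH) (path_edge (F_451 IH) (path_edge (F_447 IH) (path_edge (F_446 IH) (path_edge (F_284 IH) (path_edge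 (F_138 IH) (path_edge (F_612 IH) (path_edge (F_528 IH) (path_edge (F_611 IH) (path_edge (F_1628 IH) (path_edge (F_2913 IH) (path_edge (F_693 IH) (path_edge (F_2138 IH) (path_edge (F_2912 IH) (path_edge (F_2095 IH) (path_edge (F_2911 IH) (path_edge (F_2910 IH) (path_edge (F_572 IH) (path_edge (F_674 IH) (path_edge (F_573 IH) (path_edge (F_289 IH) (path_edge (F_575 IH) (path_edge (F_2856 IH) (path_edge (F_236 IH) (path_edge (F_576 IH) (path_edge (F_235 IH) (path_edge (F_90 IH) (path_edge (F_579 IH) (path_edge (F_580 IH) (path_edge (F_578 IH) (path_edge (F_860 IH) (path_edge (F_2142 IH) (path_edge (F_900 IH) (path_edge (F_582 IH) (path_nil _))))))))))))))))))))))))))))))))))))))))))))))))))))))))))))))))))))))))))))))))))))))))))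
theorem F_5286 (IH : D.IHyp) : ed Gen.f (D.P 408) = V_14460 :=
  flipE D.rels D.S (hinv Gen.f) (F_5285 IH)
theorem F_5287 (IH : D.IHyp) : ed Gen.b V_14460 = V_14255 :=
  gap_rel RW_17 (path_edge (F_5286 IH) (path_edge (F_58 IH) (path_edge (F_4282 IH) (path_nil _))))
theorem F_5288 (IH : D.IHyp) : ed Gen.b V_14255 = V_14460 :=
  flipE D.rels D.S (hinv Gen.b) (F_5287 IH)
theorem F_5291 (IH : D.IHyp) : ed Gen.b V_14459 = (D.P 314) :=
  gap_rel RW_38 (path_edge (F_5284 IH) (path_edge (F_5288 IH) (path_edge (F_4276 IH) (path_nil _))))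
theorem F_5292 (IH : D.IHyp) : ed Gen.b (D.P 314) = V_14459 :=
  flipE D.rels D.S (hinv Gen.b) (F_5291 IH)
theorem F_5293 (IH : D.IHyp) : (D.P 409) = V_14459 :=
  edge_fun (F_241 IH) (F_5292 IH)
theorem F_5294 (IH : D.IHyp) : V_14459 = (D.P 409) :=
  (F_5293 IH).symm
theorem F_5296 (IH : D.IHyp) : ed Gen.d (D.P 409) = V_14460 :=
  edge_congr (F_5283 IH) (F_5294 IH)
theorem F_5297 (IH : D.IHyp) : ed Gen.d V_14460 = (D.P 409) :=
  flipE D.rels D.S (hinv Gen.d) (F_5296 IH)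
theorem F_5419 (IH : D.IHyp) : ed Gen.f V_14357 = V_14461 :=
  rfl
theorem F_5420 (IH : D.IHyp) : ed Gen.f V_14461 = V_14357 :=
  flipE D.rels D.S (hinv Gen.f) (F_5419 IH)
theorem F_5421 (IH : D.IHyp) : ed Gen.a V_14323 = V_14461 :=
  gap_rel RW_42 (path_edge (F_4626 IH) (path_edge (F_4827 IH) (path_edge (F_5420 IH) (path_nil _))))
theorem F_5422 (IH : D.IHyp) : ed Gen.a V_14461 = V_14323 :=
  flipE D.rels D.S (hinv Gen.a) (F_5421 IH)
theorem F_5425 (IH : D.IHyp) : ed Gen.d V_14225 = V_14461 :=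
  gap_rel RW_18 (path_edge (F_3589 IH) (path_edge (F_4829 IH) (path_edge (F_5420 IH) (path_nil _))))
theorem F_5427 (IH : D.IHyp) : ed Gen.h V_14461 = V_14354 :=
  gap_rel RW_23 (path_edge (F_5419 IH) (path_edge (F_4842 IH) (path_edge (F_4812 IH) (path_nil _))))
theorem F_5428 (IH : D.IHyp) : ed Gen.h V_14354 = V_14461 :=
  flipE D.rels D.S (hinv Gen.h) (F_5427 IH)
theorem F_5430 (IH : D.IHyp) : ed Gen.a V_14322 = V_14354 :=
  gap_rel RW_47 (path_edge (F_4623 IH) (path_edge (F_5422 IH) (path_edge (F_5428 IH) (path_nil _))))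
theorem F_5506 (IH : D.IHyp) : ed Gen.e V_14322 = V_14463 :=
  rfl
theorem F_5507 (IH : D.IHyp) : ed Gen.e V_14463 = V_14322 :=
  flipE D.rels D.S (hinv Gen.e) (F_5506 IH)
theorem F_5508 (IH : D.IHyp) : ed Gen.a V_14353 = V_14463 :=
  gap_rel RW_16 (path_edge (F_4811 IH) (path_edge (F_5430 IH) (path_edge (F_5507 IH) (path_nil _))))
theorem F_5509 (IH : D.IHyp) : ed Gen.a V_14463 = V_14353 :=
  flipE D.rels D.S (hinv Gen.a) (F_5508 IH)
theorem F_5510 (IH : D.IHyp) : ed Gen.b V_14230 = V_14463 :=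
  gap_rel RW_4 (path_edge (F_4193 IH) (path_edge (F_4682 IH) (path_edge (F_5507 IH) (path_nil _))))
theorem F_5511 (IH : D.IHyp) : ed Gen.b V_14463 = V_14230 :=
  flipE D.rels D.S (hinv Gen.b) (F_5510 IH)
theorem F_5512 (IH : D.IHyp) : ed Gen.c V_14463 = V_14463 :=
  gap_rel RW_5 (path_edge (F_5506 IH) (path_edge (F_4630 IH) (path_edge (F_5507 IH) (path_nil _))))
theorem F_5513 (IH : D.IHyp) : ed Gen.f V_14463 = V_14463 :=
  gap_rel RW_10 (path_edge (F_5508 IH) (path_edge (F_4859 IH) (path_edge (F_5509 IH) (path_nil _))))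
theorem F_5514 (IH : D.IHyp) : ed Gen.h V_14463 = V_14464 :=
  rfl
theorem F_5515 (IH : D.IHyp) : ed Gen.h V_14464 = V_14463 :=
  flipE D.rels D.S (hinv Gen.h) (F_5514 IH)
theorem F_5517 (IH : D.IHyp) : ed Gen.e V_14323 = V_14464 :=
  gap_rel RW_26 (path_edge (F_4622 IH) (path_edge (F_5507 IH) (path_edge (F_5515 IH) (path_nil _))))
theorem F_5518 (IH : D.IHyp) : ed Gen.e V_14464 = V_14323 :=
  flipE D.rels D.S (hinv Gen.e) (F_5517 IH)
theorem F_5519 (IH : D.IHyp) : ed Gen.f V_14464 = V_14464 :=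
  gap_rel RW_40 (path_edge (F_5514 IH) (path_edge (F_5513 IH) (path_edge (F_5515 IH) (path_nil _))))
theorem F_5521 (IH : D.IHyp) : ed Gen.a V_14464 = V_14465 :=
  rfl
theorem F_5524 (IH : D.IHyp) : ed Gen.e V_14465 = V_14461 :=
  gap_rel RW_8 (path_edge (F_5521 IH) (path_edge (F_5517 IH) (path_edge (F_5422 IH) (path_nil _))))
theorem F_5525 (IH : D.IHyp) : ed Gen.e V_14461 = V_14465 :=
  flipE D.rels D.S (hinv Gen.e) (F_5524 IH)
theorem F_5527 (IH : D.IHyp) : ed Gen.h V_14465 = V_14353 :=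
  gap_rel RW_2 (path_edge (F_5521 IH) (path_edge (F_5514 IH) (path_edge (F_5508 IH) (path_nil _))))
theorem F_5528 (IH : D.IHyp) : ed Gen.h V_14353 = V_14465 :=
  flipE D.rels D.S (hinv Gen.h) (F_5527 IH)
theorem F_5531 (IH : D.IHyp) : ed Gen.d V_14465 = V_14192 :=
  gap_rel RW_19 (path_edge (F_5525 IH) (path_edge (F_5425 IH) (path_edge (F_3587 IH) (path_edge (F_3227 IH) (path_edge (F_3225 IH) (path_nil _))))))
theorem F_5533 (IH : D.IHyp) : ed Gen.a (D.P 316) = V_14466 :=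
  rfl
theorem F_5537 (IH : D.IHyp) : ed Gen.f V_14466 = V_14213 :=
  gap_rel RW_10 (path_edge (F_5533 IH) (path_edge (F_3663 IH) (path_edge (F_3654 IH) (path_nil _))))
theorem F_5538 (IH : D.IHyp) : ed Gen.f V_14213 = V_14466 :=
  flipE D.rels D.S (hinv Gen.f) (F_5537 IH)
theorem F_5539 (IH : D.IHyp) : ed Gen.h V_14466 = V_14118 :=
  gap_rel RW_2 (path_edge (F_5533 IH) (path_edge (F_861 IH) (path_edge (F_2016 IH) (path_nil _))))
theorem F_6431 (IH : D.IHyp) : ed Gen.d V_14463 = V_14548 :=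
  rfl
theorem F_6432 (IH : D.IHyp) : ed Gen.d V_14548 = V_14463 :=
  flipE D.rels D.S (hinv Gen.d) (F_6431 IH)
theorem F_6433 (IH : D.IHyp) : ed Gen.a V_14351 = V_14548 :=
  gap_rel RW_28 (path_edge (F_4868 IH) (path_edge (F_5509 IH) (path_edge (F_6432 IH) (path_nil _))))
theorem F_6434 (IH : D.IHyp) : ed Gen.a V_14548 = V_14351 :=
  flipE D.rels D.S (hinv Gen.a) (F_6433 IH)
theorem F_6435 (IH : D.IHyp) : ed Gen.b V_14231 = V_14548 :=
  gap_rel RW_38 (path_edge (F_4197 IH) (path_edge (F_5511 IH) (path_edge (F_6432 IH) (path_nil _))))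
theorem F_6437 (IH : D.IHyp) : ed Gen.f V_14548 = V_14548 :=
  gap_rel RW_34 (path_edge (F_6431 IH) (path_edge (F_5513 IH) (path_edge (F_6432 IH) (path_nil _))))
theorem F_6438 (IH : D.IHyp) : ed Gen.e V_14548 = V_14548 :=
  gap_rel RW_22 (path_edge (F_6431 IH) (path_edge (F_5506 IH) (path_edge (F_4631 IH) (path_edge (F_5507 IH) (path_edge (F_6432 IH) (path_nil _))))))
theorem F_6439 (IH : D.IHyp) : ed Gen.c V_14548 = V_14549 :=
  rfl
theorem F_6440 (IH : D.IHyp) : ed Gen.c V_14549 = V_14548 :=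
  flipE D.rels D.S (hinv Gen.c) (F_6439 IH)
theorem F_6441 (IH : D.IHyp) : ed Gen.a V_14349 = V_14549 :=
  gap_rel RW_0 (path_edge (F_4876 IH) (path_edge (F_6434 IH) (path_edge (F_6440 IH) (path_nil _))))
theorem F_6442 (IH : D.IHyp) : ed Gen.a V_14549 = V_14349 :=
  flipE D.rels D.S (hinv Gen.a) (F_6441 IH)
theorem F_6446 (IH : D.IHyp) : ed Gen.b V_14549 = V_14550 :=
  rfl
theorem F_6451 (IH : D.IHyp) : ed Gen.c V_14550 = V_14233 :=
  gap_rel RW_15 (path_edge (F_6446 IH) (path_edge (F_6439 IH) (path_edge (F_6435 IH) (path_edge (F_4203 IH) (path_edge (F_4208 IH) (path_nil _))))))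
theorem F_6452 (IH : D.IHyp) : ed Gen.c V_14233 = V_14550 :=
  flipE D.rels D.S (hinv Gen.c) (F_6451 IH)
theorem F_6453 (IH : D.IHyp) : ed Gen.a V_14550 = V_14551 :=
  rfl
theorem F_6455 (IH : D.IHyp) : ed Gen.c V_14551 = V_14234 :=
  gap_rel RW_9 (path_edge (F_6453 IH) (path_edge (F_6452 IH) (path_edge (F_4212 IH) (path_nil _))))
theorem F_6622 (IH : D.IHyp) : ed Gen.h (D.P 854) = V_14569 :=
  rfl
theorem F_6664 (IH : D.IHyp) : ed Gen.f V_14569 = V_14570 :=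
  rfl
theorem F_6667 (IH : D.IHyp) : ed Gen.e V_14570 = V_14571 :=
  rfl
theorem F_6670 (IH : D.IHyp) : ed Gen.d V_14571 = V_14572 :=
  rfl
theorem F_6673 (IH : D.IHyp) : ed Gen.c V_14572 = V_14573 :=
  rfl
theorem F_6675 (IH : D.IHyp) : ed Gen.b V_14573 = V_14574 :=
  rfl
theorem F_6678 (IH : D.IHyp) : ed Gen.a V_14574 = V_14575 :=
  rfl
theorem F_6681 (IH : D.IHyp) : ed Gen.h V_14575 = V_14576 :=
  rfl
theorem F_6684 (IH : D.IHyp) : ed Gen.f V_14576 = V_14577 :=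
  rfl
theorem F_6687 (IH : D.IHyp) : ed Gen.e V_14577 = V_14578 :=
  rfl
theorem F_6690 (IH : D.IHyp) : ed Gen.d V_14578 = V_14579 :=
  rfl
theorem F_6692 (IH : D.IHyp) : ed Gen.c V_14579 = V_14580 :=
  rfl
theorem F_6695 (IH : D.IHyp) : ed Gen.b V_14580 = V_14581 :=
  rfl
theorem F_6698 (IH : D.IHyp) : ed Gen.a V_14581 = V_14582 :=
  rfl
theorem F_6701 (IH : D.IHyp) : ed Gen.h V_14582 = V_14583 :=
  rfl
theorem F_6703 (IH : D.IHyp) : ed Gen.f V_14583 = V_14584 :=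
  rfl
theorem F_6705 (IH : D.IHyp) : ed Gen.e V_14584 = V_14585 :=
  rfl
theorem F_6707 (IH : D.IHyp) : ed Gen.d V_14585 = V_14586 :=
  rfl
theorem F_6709 (IH : D.IHyp) : ed Gen.c V_14586 = V_14587 :=
  rfl
theorem F_6711 (IH : D.IHyp) : ed Gen.b V_14587 = V_14588 :=
  rfl
theorem F_6712 (IH : D.IHyp) : ed Gen.b V_14588 = V_14587 :=
  flipE D.rels D.S (hinv Gen.b) (F_6711 IH)
theorem F_6713 (IH : D.IHyp) : ed Gen.a V_14588 = V_14589 :=
  rfl
theorem F_6715 (IH : D.IHyp) : ed Gen.h V_14589 = V_14590 :=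
  rfl
theorem F_6716 (IH : D.IHyp) : ed Gen.h V_14590 = V_14589 :=
  flipE D.rels D.S (hinv Gen.h) (F_6715 IH)
theorem F_6717 (IH : D.IHyp) : ed Gen.f V_14590 = V_14591 :=
  rfl
theorem F_6718 (IH : D.IHyp) : ed Gen.f V_14591 = V_14590 :=
  flipE D.rels D.S (hinv Gen.f) (F_6717 IH)
theorem F_6719 (IH : D.IHyp) : ed Gen.e V_14591 = V_14592 :=
  rfl
theorem F_6720 (IH : D.IHyp) : ed Gen.e V_14592 = V_14591 :=
  flipE D.rels D.S (hinv Gen.e) (F_6719 IH)
theorem F_6721 (IH : D.IHyp) : ed Gen.d V_14592 = V_14593 :=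
  rfl
theorem F_6722 (IH : D.IHyp) : ed Gen.d V_14593 = V_14592 :=
  flipE D.rels D.S (hinv Gen.d) (F_6721 IH)
theorem F_6723 (IH : D.IHyp) : ed Gen.c V_14593 = V_14594 :=
  rfl
theorem F_6724 (IH : D.IHyp) : ed Gen.c V_14594 = V_14593 :=
  flipE D.rels D.S (hinv Gen.c) (F_6723 IH)
theorem F_6725 (IH : D.IHyp) : ed Gen.b V_14594 = V_14595 :=
  rfl
theorem F_6726 (IH : D.IHyp) : ed Gen.b V_14595 = V_14594 :=
  flipE D.rels D.S (hinv Gen.b) (F_6725 IH)
theorem F_6727 (IH : D.IHyp) : ed Gen.a V_14595 = V_14596 :=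
  rfl
theorem F_6728 (IH : D.IHyp) : ed Gen.a V_14596 = V_14595 :=
  flipE D.rels D.S (hinv Gen.a) (F_6727 IH)
theorem F_6729 (IH : D.IHyp) : ed Gen.h V_14596 = V_14597 :=
  rfl
theorem F_6730 (IH : D.IHyp) : ed Gen.h V_14597 = V_14596 :=
  flipE D.rels D.S (hinv Gen.h) (F_6729 IH)
theorem F_6731 (IH : D.IHyp) : ed Gen.f V_14597 = V_14598 :=
  rfl
theorem F_6732 (IH : D.IHyp) : ed Gen.f V_14598 = V_14597 :=
  flipE D.rels D.S (hinv Gen.f) (F_6731 IH)
theorem F_6733 (IH : D.IHyp) : ed Gen.e V_14598 = V_14324 :=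
  gap_rel RW_59 (path_edge (F_6731 IH) (path_edge (F_6729 IH) (path_edge (F_6727 IH) (path_edge (F_6725 IH) (path_edge (F_6723 IH) (path_edge (F_6721 IH) (path_edge (F_6719 IH) (path_edge (F_6717 IH) (path_edge (F_6715 IH) (path_edge (F_6713 IH) (path_edge (F_6711 IH) (path_edge (F_6709 IH) (path_edge (F_6707 IH) (path_edge (F_6705 IH) (path_edge (F_6703 IH) (path_edge (F_6701 IH) (path_edge (F_6698 IH) (path_edge (F_6695 IH) (path_edge (F_6692 IH) (path_edge (F_6690 IH) (path_edge (F_6687 IH) (path_edge (F_6684 IH) (path_edge (F_6681 IH) (path_edge (F_6678 IH) (path_edge (F_6675 IH) (path_edge (F_6673 IH) (path_edge (F_6670 IH) (path_edge (F_6667 IH) (path_edge (F_6664 IH) (path_edge (F_6622 IH) (path_edge (F_184 IH) (path_edge (F_183 IH) (path_edge (F_182 IH) (path_edge (F_181 IH) (path_edge (F_180 IH) (path_edge (F_179 IH) (path_edge (F_178 IH) (path_edge (F_177 IH) (path_edge (F_176 IH) (path_edge (F_175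 IH) (path_edge (F_174 IH) (path_edge (F_173 IH) (path_edge (F_172 IH) (path_edge (F_171 IH) (path_edge (F_170 IH) (path_edge (F_169 IH) (path_edge (F_168 IH) (path_edge (F_167 IH) (path_edge (F_82 IH) (path_edge (F_166 IH) (path_edge (F_165 IH) (path_edge (F_164 IH) (path_edge (F_156 IH) (path_edge (F_4 IH) (path_edge (F_8 IH) (path_edge (F_267 IH) (path_edge (F_3588 IH) (path_edge (F_3591 IH) (path_edge (F_3581 IH) (path_edge (F_2676 IH) (path_edge (F_2680 IH) (path_edge (F_4672 IH) (path_nil _)))))))))))))))))))))))))))))))))))))))))))))))))))))))))))))))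
theorem F_6734 (IH : D.IHyp) : ed Gen.e V_14324 = V_14598 :=
  flipE D.rels D.S (hinv Gen.e) (F_6733 IH)
theorem F_6737 (IH : D.IHyp) : ed Gen.b V_14598 = V_14464 :=
  gap_rel RW_4 (path_edge (F_6734 IH) (path_edge (F_4674 IH) (path_edge (F_5518 IH) (path_nil _))))
theorem F_6738 (IH : D.IHyp) : ed Gen.b V_14464 = V_14598 :=
  flipE D.rels D.S (hinv Gen.b) (F_6737 IH)
theorem F_6739 (IH : D.IHyp) : V_14598 = V_14597 :=
  loop_rel RW_36 (path_edge (F_6732 IH) (path_edge (F_6738 IH) (path_edge (F_5519 IH) (path_edge (F_6737 IH) (path_nil _)))))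
theorem F_6742 (IH : D.IHyp) : ed Gen.b V_14597 = V_14464 :=
  edge_congr (F_6737 IH) (F_6739 IH)
theorem F_6747 (IH : D.IHyp) : ed Gen.h V_14230 = V_14597 :=
  gap_rel RW_12 (path_edge (F_5511 IH) (path_edge (F_5515 IH) (path_edge (F_6742 IH) (path_nil _))))
theorem F_6748 (IH : D.IHyp) : ed Gen.h V_14597 = V_14230 :=
  flipE D.rels D.S (hinv Gen.h) (F_6747 IH)
theorem F_6749 (IH : D.IHyp) : V_14596 = V_14230 :=
  edge_fun (F_6730 IH) (F_6748 IH)
theorem F_6750 (IH : D.IHyp) : ed Gen.a V_14230 = V_14595 :=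
  edge_congr (F_6728 IH) (F_6749 IH)
theorem F_6751 (IH : D.IHyp) : V_14230 = V_14595 :=
  edge_fun (F_4195 IH) (F_6750 IH)
theorem F_6755 (IH : D.IHyp) : V_14595 = V_14230 :=
  (F_6751 IH).symm
theorem F_6757 (IH : D.IHyp) : ed Gen.b V_14230 = V_14594 :=
  edge_congr (F_6726 IH) (F_6755 IH)
theorem F_6758 (IH : D.IHyp) : V_14463 = V_14594 :=
  edge_fun (F_5510 IH) (F_6757 IH)
theorem F_6760 (IH : D.IHyp) : V_14594 = V_14463 :=
  (F_6758 IH).symm
theorem F_6762 (IH : D.IHyp) : ed Gen.c V_14463 = V_14593 :=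
  edge_congr (F_6724 IH) (F_6760 IH)
theorem F_6763 (IH : D.IHyp) : V_14463 = V_14593 :=
  edge_fun (F_5512 IH) (F_6762 IH)
theorem F_6765 (IH : D.IHyp) : V_14593 = V_14463 :=
  (F_6763 IH).symm
theorem F_6767 (IH : D.IHyp) : ed Gen.d V_14463 = V_14592 :=
  edge_congr (F_6722 IH) (F_6765 IH)
theorem F_6768 (IH : D.IHyp) : V_14548 = V_14592 :=
  edge_fun (F_6431 IH) (F_6767 IH)
theorem F_6770 (IH : D.IHyp) : V_14592 = V_14548 :=
  (F_6768 IH).symm
theorem F_6772 (IH : D.IHyp) : ed Gen.e V_14548 = V_14591 :=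
  edge_congr (F_6720 IH) (F_6770 IH)
theorem F_6773 (IH : D.IHyp) : V_14548 = V_14591 :=
  edge_fun (F_6438 IH) (F_6772 IH)
theorem F_6775 (IH : D.IHyp) : V_14591 = V_14548 :=
  (F_6773 IH).symm
theorem F_6777 (IH : D.IHyp) : ed Gen.f V_14548 = V_14590 :=
  edge_congr (F_6718 IH) (F_6775 IH)
theorem F_6778 (IH : D.IHyp) : V_14548 = V_14590 :=
  edge_fun (F_6437 IH) (F_6777 IH)
theorem F_6780 (IH : D.IHyp) : V_14590 = V_14548 :=
  (F_6778 IH).symm
theorem F_6782 (IH : D.IHyp) : ed Gen.h V_14548 = V_14589 :=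
  edge_congr (F_6716 IH) (F_6780 IH)
theorem F_6783 (IH : D.IHyp) : ed Gen.h V_14589 = V_14548 :=
  flipE D.rels D.S (hinv Gen.h) (F_6782 IH)
theorem F_6785 (IH : D.IHyp) : ed Gen.h V_14351 = V_14588 :=
  gap_rel RW_2 (path_edge (F_6434 IH) (path_edge (F_6783 IH) (path_edge (F_6713 IH) (path_nil _))))
theorem F_6786 (IH : D.IHyp) : ed Gen.h V_14588 = V_14351 :=
  flipE D.rels D.S (hinv Gen.h) (F_6785 IH)
theorem F_6791 (IH : D.IHyp) : ed Gen.h V_14587 = V_14351 :=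
  gap_rel RW_12 (path_edge (F_6712 IH) (path_edge (F_6785 IH) (path_edge (F_4866 IH) (path_nil _))))
theorem F_6792 (IH : D.IHyp) : ed Gen.h V_14351 = V_14587 :=
  flipE D.rels D.S (hinv Gen.h) (F_6791 IH)
theorem F_6793 (IH : D.IHyp) : V_14588 = V_14587 :=
  edge_fun (F_6785 IH) (F_6792 IH)
theorem F_6801 (IH : D.IHyp) : ed Gen.h V_14587 = V_14351 :=
  edge_congr (F_6786 IH) (F_6793 IH)
theorem F_6802 (IH : D.IHyp) : ed Gen.h V_14351 = V_14587 :=
  flipE D.rels D.S (hinv Gen.h) (F_6801 IH)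
theorem F_6805 (IH : D.IHyp) : ed Gen.d V_14191 = V_14587 :=
  gap_rel RW_44 (path_edge (F_3223 IH) (path_edge (F_5531 IH) (path_edge (F_5528 IH) (path_edge (F_4863 IH) (path_edge (F_6791 IH) (path_nil _))))))
theorem F_6806 (IH : D.IHyp) : ed Gen.d V_14587 = V_14191 :=
  flipE D.rels D.S (hinv Gen.d) (F_6805 IH)
theorem F_7548 (IH : D.IHyp) : ed Gen.i V_14355 = V_14689 :=
  rfl
theorem F_7549 (IH : D.IHyp) : ed Gen.i V_14689 = V_14355 :=
  flipE D.rels D.S (hinv Gen.i) (F_7548 IH)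
theorem F_7550 (IH : D.IHyp) : ed Gen.b V_14689 = V_14689 :=
  gap_rel RW_54 (path_edge (F_7548 IH) (path_edge (F_4846 IH) (path_edge (F_7549 IH) (path_nil _))))
theorem F_7551 (IH : D.IHyp) : ed Gen.c V_14689 = V_14689 :=
  gap_rel RW_52 (path_edge (F_7548 IH) (path_edge (F_4848 IH) (path_edge (F_7549 IH) (path_nil _))))
theorem F_7552 (IH : D.IHyp) : ed Gen.d V_14689 = V_14689 :=
  gap_rel RW_60 (path_edge (F_7548 IH) (path_edge (F_4849 IH) (path_edge (F_7549 IH) (path_nil _))))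
theorem F_7555 (IH : D.IHyp) : ed Gen.h V_14689 = V_14689 :=
  gap_rel RW_61 (path_edge (F_7548 IH) (path_edge (F_4855 IH) (path_edge (F_4835 IH) (path_edge (F_4842 IH) (path_edge (F_7549 IH) (path_nil _))))))
theorem F_7556 (IH : D.IHyp) : ed Gen.f V_14689 = V_14690 :=
  rfl
theorem F_7557 (IH : D.IHyp) : ed Gen.f V_14690 = V_14689 :=
  flipE D.rels D.S (hinv Gen.f) (F_7556 IH)
theorem F_7558 (IH : D.IHyp) : ed Gen.b V_14690 = V_14690 :=
  gap_rel RW_17 (path_edge (F_7556 IH) (path_edge (F_7550 IH) (path_edge (F_7557 IH) (path_nil _))))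
theorem F_7559 (IH : D.IHyp) : ed Gen.c V_14690 = V_14690 :=
  gap_rel RW_37 (path_edge (F_7556 IH) (path_edge (F_7551 IH) (path_edge (F_7557 IH) (path_nil _))))
theorem F_7560 (IH : D.IHyp) : ed Gen.d V_14690 = V_14690 :=
  gap_rel RW_18 (path_edge (F_7556 IH) (path_edge (F_7552 IH) (path_edge (F_7557 IH) (path_nil _))))
theorem F_7561 (IH : D.IHyp) : ed Gen.h V_14690 = V_14690 :=
  gap_rel RW_23 (path_edge (F_7556 IH) (path_edge (F_7555 IH) (path_edge (F_7557 IH) (path_nil _))))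
theorem F_7562 (IH : D.IHyp) : ed Gen.i V_14690 = V_14354 :=
  gap_rel RW_49 (path_edge (F_7556 IH) (path_edge (F_7548 IH) (path_edge (F_4812 IH) (path_nil _))))
theorem F_7563 (IH : D.IHyp) : ed Gen.i V_14354 = V_14690 :=
  flipE D.rels D.S (hinv Gen.i) (F_7562 IH)
theorem F_7733 (IH : D.IHyp) : ed Gen.c (D.P 1431) = V_14744 :=
  rfl
theorem F_7734 (IH : D.IHyp) : ed Gen.c V_14744 = (D.P 1431) :=
  flipE D.rels D.S (hinv Gen.c) (F_7733 IH)
theorem F_7737 (IH : D.IHyp) : ed Gen.f V_14744 = V_14744 :=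
  gap_rel RW_35 (path_edge (F_7733 IH) (path_edge (F_1821 IH) (path_edge (F_7734 IH) (path_nil _))))
theorem F_7738 (IH : D.IHyp) : ed Gen.h V_14744 = V_14744 :=
  gap_rel RW_62 (path_edge (F_7733 IH) (path_edge (F_1822 IH) (path_edge (F_7734 IH) (path_nil _))))
theorem F_7739 (IH : D.IHyp) : ed Gen.i V_14744 = V_14744 :=
  gap_rel RW_50 (path_edge (F_7733 IH) (path_edge (F_3840 IH) (path_edge (F_7734 IH) (path_nil _))))
theorem F_7743 (IH : D.IHyp) : ed Gen.i (D.P 95) = (D.P 65) :=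
  D.real_edge' IH Gen.i 95 65 (by decide +kernel)
theorem F_7745 (IH : D.IHyp) : ed Gen.d V_14744 = V_14745 :=
  rfl
theorem F_7746 (IH : D.IHyp) : ed Gen.d V_14745 = V_14744 :=
  flipE D.rels D.S (hinv Gen.d) (F_7745 IH)
theorem F_7747 (IH : D.IHyp) : ed Gen.f V_14745 = V_14745 :=
  gap_rel RW_34 (path_edge (F_7745 IH) (path_edge (F_7737 IH) (path_edge (F_7746 IH) (path_nil _))))
theorem F_7748 (IH : D.IHyp) : ed Gen.i V_14745 = V_14745 :=
  gap_rel RW_20 (path_edge (F_7745 IH) (path_edge (F_7739 IH) (path_edge (F_7746 IH) (path_nil _))))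
theorem F_7749 (IH : D.IHyp) : ed Gen.h V_14745 = V_14746 :=
  rfl
theorem F_7750 (IH : D.IHyp) : ed Gen.h V_14746 = V_14745 :=
  flipE D.rels D.S (hinv Gen.h) (F_7749 IH)
theorem F_7751 (IH : D.IHyp) : ed Gen.f V_14746 = V_14746 :=
  gap_rel RW_40 (path_edge (F_7749 IH) (path_edge (F_7747 IH) (path_edge (F_7750 IH) (path_nil _))))
theorem F_7752 (IH : D.IHyp) : ed Gen.d V_14746 = V_14746 :=
  gap_rel RW_44 (path_edge (F_7749 IH) (path_edge (F_7745 IH) (path_edge (F_7738 IH) (path_edge (F_7746 IH) (path_edge (F_7750 IH) (path_nil _))))))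
theorem F_7753 (IH : D.IHyp) : ed Gen.e V_14746 = V_14747 :=
  rfl
theorem F_7754 (IH : D.IHyp) : ed Gen.e V_14747 = V_14746 :=
  flipE D.rels D.S (hinv Gen.e) (F_7753 IH)
theorem F_7755 (IH : D.IHyp) : ed Gen.d V_14747 = V_14748 :=
  rfl
theorem F_7756 (IH : D.IHyp) : ed Gen.d V_14748 = V_14747 :=
  flipE D.rels D.S (hinv Gen.d) (F_7755 IH)
theorem F_7758 (IH : D.IHyp) : ed Gen.b V_14748 = V_14749 :=
  rfl
theorem F_7759 (IH : D.IHyp) : ed Gen.b V_14749 = V_14748 :=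
  flipE D.rels D.S (hinv Gen.b) (F_7758 IH)
theorem F_7761 (IH : D.IHyp) : ed Gen.c V_14749 = V_14750 :=
  rfl
theorem F_7762 (IH : D.IHyp) : ed Gen.c V_14750 = V_14749 :=
  flipE D.rels D.S (hinv Gen.c) (F_7761 IH)
theorem F_7764 (IH : D.IHyp) : ed Gen.d V_14750 = V_14751 :=
  rfl
theorem F_7765 (IH : D.IHyp) : ed Gen.d V_14751 = V_14750 :=
  flipE D.rels D.S (hinv Gen.d) (F_7764 IH)
theorem F_7766 (IH : D.IHyp) : ed Gen.i V_14751 = V_14752 :=
  rfl
theorem F_7767 (IH : D.IHyp) : ed Gen.i V_14752 = V_14751 :=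
  flipE D.rels D.S (hinv Gen.i) (F_7766 IH)
theorem F_7768 (IH : D.IHyp) : ed Gen.h V_14752 = V_14753 :=
  rfl
theorem F_7769 (IH : D.IHyp) : ed Gen.h V_14753 = V_14752 :=
  flipE D.rels D.S (hinv Gen.h) (F_7768 IH)
theorem F_7770 (IH : D.IHyp) : ed Gen.d V_14753 = V_14754 :=
  rfl
theorem F_7771 (IH : D.IHyp) : ed Gen.d V_14754 = V_14753 :=
  flipE D.rels D.S (hinv Gen.d) (F_7770 IH)
theorem F_7772 (IH : D.IHyp) : ed Gen.f V_14754 = V_14755 :=
  rfl
theorem F_7773 (IH : D.IHyp) : ed Gen.f V_14755 = V_14754 :=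
  flipE D.rels D.S (hinv Gen.f) (F_7772 IH)
theorem F_7774 (IH : D.IHyp) : ed Gen.e V_14755 = V_14756 :=
  rfl
theorem F_7775 (IH : D.IHyp) : ed Gen.e V_14756 = V_14755 :=
  flipE D.rels D.S (hinv Gen.e) (F_7774 IH)
theorem F_7776 (IH : D.IHyp) : ed Gen.d V_14756 = V_14757 :=
  rfl
theorem F_7777 (IH : D.IHyp) : ed Gen.d V_14757 = V_14756 :=
  flipE D.rels D.S (hinv Gen.d) (F_7776 IH)
theorem F_7778 (IH : D.IHyp) : ed Gen.b V_14757 = V_14758 :=
  rfl
theorem F_7779 (IH : D.IHyp) : ed Gen.b V_14758 = V_14757 :=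
  flipE D.rels D.S (hinv Gen.b) (F_7778 IH)
theorem F_7780 (IH : D.IHyp) : ed Gen.c V_14758 = V_14759 :=
  rfl
theorem F_7781 (IH : D.IHyp) : ed Gen.c V_14759 = V_14758 :=
  flipE D.rels D.S (hinv Gen.c) (F_7780 IH)
theorem F_7782 (IH : D.IHyp) : ed Gen.d V_14759 = V_14760 :=
  rfl
theorem F_7783 (IH : D.IHyp) : ed Gen.d V_14760 = V_14759 :=
  flipE D.rels D.S (hinv Gen.d) (F_7782 IH)
theorem F_7784 (IH : D.IHyp) : ed Gen.i V_14760 = V_14761 :=
  rfl
theorem F_7785 (IH : D.IHyp) : ed Gen.i V_14761 = V_14760 :=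
  flipE D.rels D.S (hinv Gen.i) (F_7784 IH)
theorem F_7786 (IH : D.IHyp) : ed Gen.h V_14761 = V_14762 :=
  rfl
theorem F_7787 (IH : D.IHyp) : ed Gen.h V_14762 = V_14761 :=
  flipE D.rels D.S (hinv Gen.h) (F_7786 IH)
theorem F_7788 (IH : D.IHyp) : ed Gen.d V_14762 = V_14763 :=
  rfl
theorem F_7789 (IH : D.IHyp) : ed Gen.d V_14763 = V_14762 :=
  flipE D.rels D.S (hinv Gen.d) (F_7788 IH)
theorem F_7790 (IH : D.IHyp) : ed Gen.f V_14763 = V_14764 :=
  rfl
theorem F_7791 (IH : D.IHyp) : ed Gen.f V_14764 = V_14763 :=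
  flipE D.rels D.S (hinv Gen.f) (F_7790 IH)
theorem F_7792 (IH : D.IHyp) : ed Gen.e V_14764 = V_14765 :=
  rfl
theorem F_7793 (IH : D.IHyp) : ed Gen.e V_14765 = V_14764 :=
  flipE D.rels D.S (hinv Gen.e) (F_7792 IH)
theorem F_7794 (IH : D.IHyp) : ed Gen.d V_14765 = V_14766 :=
  rfl
theorem F_7795 (IH : D.IHyp) : ed Gen.d V_14766 = V_14765 :=
  flipE D.rels D.S (hinv Gen.d) (F_7794 IH)
theorem F_7796 (IH : D.IHyp) : ed Gen.b V_14766 = V_14767 :=
  rfl
theorem F_7797 (IH : D.IHyp) : ed Gen.b V_14767 = V_14766 :=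
  flipE D.rels D.S (hinv Gen.b) (F_7796 IH)
theorem F_7798 (IH : D.IHyp) : ed Gen.c V_14767 = V_14768 :=
  rfl
theorem F_7799 (IH : D.IHyp) : ed Gen.c V_14768 = V_14767 :=
  flipE D.rels D.S (hinv Gen.c) (F_7798 IH)
theorem F_7800 (IH : D.IHyp) : ed Gen.d V_14768 = V_14769 :=
  rfl
theorem F_7801 (IH : D.IHyp) : ed Gen.d V_14769 = V_14768 :=
  flipE D.rels D.S (hinv Gen.d) (F_7800 IH)
theorem F_7802 (IH : D.IHyp) : ed Gen.i V_14769 = V_14770 :=
  rfl
theorem F_7803 (IH : D.IHyp) : ed Gen.i V_14770 = V_14769 :=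
  flipE D.rels D.S (hinv Gen.i) (F_7802 IH)
theorem F_7804 (IH : D.IHyp) : ed Gen.h V_14770 = V_14771 :=
  rfl
theorem F_7805 (IH : D.IHyp) : ed Gen.h V_14771 = V_14770 :=
  flipE D.rels D.S (hinv Gen.h) (F_7804 IH)
theorem F_7806 (IH : D.IHyp) : ed Gen.d V_14771 = V_14772 :=
  rfl
theorem F_7807 (IH : D.IHyp) : ed Gen.d V_14772 = V_14771 :=
  flipE D.rels D.S (hinv Gen.d) (F_7806 IH)
theorem F_7808 (IH : D.IHyp) : ed Gen.f V_14772 = V_14773 :=
  rfl
theorem F_7809 (IH : D.IHyp) : ed Gen.f V_14773 = V_14772 :=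
  flipE D.rels D.S (hinv Gen.f) (F_7808 IH)
theorem F_7810 (IH : D.IHyp) : ed Gen.e V_14773 = V_14774 :=
  rfl
theorem F_7811 (IH : D.IHyp) : ed Gen.e V_14774 = V_14773 :=
  flipE D.rels D.S (hinv Gen.e) (F_7810 IH)
theorem F_7812 (IH : D.IHyp) : ed Gen.d V_14774 = V_14775 :=
  rfl
theorem F_7813 (IH : D.IHyp) : ed Gen.d V_14775 = V_14774 :=
  flipE D.rels D.S (hinv Gen.d) (F_7812 IH)
theorem F_7814 (IH : D.IHyp) : ed Gen.b V_14775 = V_14776 :=
  rfl
theorem F_7815 (IH : D.IHyp) : ed Gen.b V_14776 = V_14775 :=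
  flipE D.rels D.S (hinv Gen.b) (F_7814 IH)
theorem F_7816 (IH : D.IHyp) : ed Gen.c V_14776 = V_14777 :=
  rfl
theorem F_7817 (IH : D.IHyp) : ed Gen.c V_14777 = V_14776 :=
  flipE D.rels D.S (hinv Gen.c) (F_7816 IH)
theorem F_7818 (IH : D.IHyp) : ed Gen.d V_14777 = V_14778 :=
  rfl
theorem F_7819 (IH : D.IHyp) : ed Gen.d V_14778 = V_14777 :=
  flipE D.rels D.S (hinv Gen.d) (F_7818 IH)
theorem F_7820 (IH : D.IHyp) : ed Gen.i V_14778 = V_14779 :=
  rfl
theorem F_7821 (IH : D.IHyp) : ed Gen.i V_14779 = V_14778 :=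
  flipE D.rels D.S (hinv Gen.i) (F_7820 IH)
theorem F_7822 (IH : D.IHyp) : ed Gen.h V_14779 = V_14780 :=
  rfl
theorem F_7823 (IH : D.IHyp) : ed Gen.h V_14780 = V_14779 :=
  flipE D.rels D.S (hinv Gen.h) (F_7822 IH)
theorem F_7824 (IH : D.IHyp) : ed Gen.d V_14780 = V_14781 :=
  rfl
theorem F_7825 (IH : D.IHyp) : ed Gen.d V_14781 = V_14780 :=
  flipE D.rels D.S (hinv Gen.d) (F_7824 IH)
theorem F_7826 (IH : D.IHyp) : ed Gen.f V_14781 = V_14782 :=
  rfl
theorem F_7827 (IH : D.IHyp) : ed Gen.f V_14782 = V_14781 :=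
  flipE D.rels D.S (hinv Gen.f) (F_7826 IH)
theorem F_7828 (IH : D.IHyp) : ed Gen.e V_14690 = V_14782 :=
  gap_rel RW_63 (path_edge (F_7560 IH) (path_edge (F_7558 IH) (path_edge (F_7559 IH) (path_edge (F_7560 IH) (path_edge (F_7563 IH) (path_edge (F_5427 IH) (path_edge (F_5425 IH) (path_edge (F_3589 IH) (path_edge (F_266 IH) (path_edge (F_8 IH) (path_edge (F_21 IH) (path_edge (F_3 IH) (path_edge (F_160 IH) (path_edge (F_185 IH) (path_edge (F_423 IH) (path_edge (F_187 IH) (path_edge (F_494 IH) (path_edge (F_4918 IH) (path_edge (F_3692 IH) (path_edge (F_373 IH) (path_edge (F_192 IH) (path_edge (F_372 IH) (path_edge (F_4984 IH) (path_edge (F_195 IH) (path_edge (F_199 IH) (path_edge (F_197 IH) (path_edge (F_198 IH) (path_edge (F_196 IH) (path_edge (F_3919 IH) (path_edge (F_201 IH) (path_edge (F_111 IH) (path_edge (F_7743 IH) (path_edge (F_2302 IH) (path_edge (F_1830 IH) (path_edge (F_206 IH) (path_edge (F_2918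 IH) (path_edge (F_208 IH) (path_edge (F_2878 IH) (path_edge (F_4279 IH) (path_edge (F_310 IH) (path_edge (F_559 IH) (path_edge (F_3778 IH) (path_edge (F_214 IH) (path_edge (F_879 IH) (path_edge (F_4051 IH) (path_edge (F_2196 IH) (path_edge (F_3038 IH) (path_edge (F_7734 IH) (path_edge (F_7746 IH) (path_edge (F_7748 IH) (path_edge (F_7750 IH) (path_edge (F_7752 IH) (path_edge (F_7751 IH) (path_edge (F_7754 IH) (path_edge (F_7756 IH) (path_edge (F_7759 IH) (path_edge (F_7762 IH) (path_edge (F_7765 IH) (path_edge (F_7767 IH) (path_edge (F_7769 IH) (path_edge (F_7771 IH) (path_edge (F_7773 IH) (path_edge (F_7775 IH) (path_edge (F_7777 IH) (path_edge (F_7779 IH) (path_edge (F_7781 IH) (path_edge (F_7783 IH) (path_edge (F_7785 IH) (path_edge (F_7787 IH) (path_edge (F_7789 IH) (path_edge (F_7791 IH) (path_edge (F_7793 IH) (path_edge (F_7795 IH) (path_edge (F_7797 IH) (path_edge (F_7799 IH) (path_edge (F_7801 IH)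 (path_edge (F_7803 IH) (path_edge (F_7805 IH) (path_edge (F_7807 IH) (path_edge (F_7809 IH) (path_edge (F_7811 IH) (path_edge (F_7813 IH) (path_edge (F_7815 IH) (path_edge (F_7817 IH) (path_edge (F_7819 IH) (path_edge (F_7821 IH) (path_edge (F_7823 IH) (path_edge (F_7825 IH) (path_edge (F_7827 IH) (path_nil _))))))))))))))))))))))))))))))))))))))))))))))))))))))))))))))))))))))))))))))))))))))))))
theorem F_7829 (IH : D.IHyp) : ed Gen.e V_14782 = V_14690 :=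
  flipE D.rels D.S (hinv Gen.e) (F_7828 IH)
theorem F_7834 (IH : D.IHyp) : ed Gen.h V_14782 = V_14782 :=
  gap_rel RW_6 (path_edge (F_7828 IH) (path_edge (F_7561 IH) (path_edge (F_7829 IH) (path_nil _))))
theorem F_7835 (IH : D.IHyp) : ed Gen.i V_14353 = V_14782 :=
  gap_rel RW_7 (path_edge (F_4811 IH) (path_edge (F_7562 IH) (path_edge (F_7829 IH) (path_nil _))))
theorem F_7837 (IH : D.IHyp) : ed Gen.h V_14781 = V_14781 :=
  gap_rel RW_23 (path_edge (F_7827 IH) (path_edge (F_7834 IH) (path_edge (F_7826 IH) (path_nil _))))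
theorem F_7838 (IH : D.IHyp) : ed Gen.i V_14781 = V_14353 :=
  gap_rel RW_49 (path_edge (F_7827 IH) (path_edge (F_7835 IH) (path_edge (F_4859 IH) (path_nil _))))
theorem F_7852 (IH : D.IHyp) : ed Gen.i V_14351 = V_14780 :=
  gap_rel RW_20 (path_edge (F_4868 IH) (path_edge (F_7838 IH) (path_edge (F_7824 IH) (path_nil _))))
theorem F_7853 (IH : D.IHyp) : ed Gen.i V_14780 = V_14351 :=
  flipE D.rels D.S (hinv Gen.i) (F_7852 IH)
theorem F_7855 (IH : D.IHyp) : ed Gen.d V_14779 = V_14779 :=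
  gap_rel RW_44 (path_edge (F_7823 IH) (path_edge (F_7825 IH) (path_edge (F_7837 IH) (path_edge (F_7824 IH) (path_edge (F_7822 IH) (path_nil _))))))
theorem F_7858 (IH : D.IHyp) : ed Gen.c V_14348 = V_14780 :=
  gap_rel RW_52 (path_edge (F_4801 IH) (path_edge (F_4876 IH) (path_edge (F_7853 IH) (path_nil _))))
theorem F_7859 (IH : D.IHyp) : ed Gen.c V_14780 = V_14348 :=
  flipE D.rels D.S (hinv Gen.c) (F_7858 IH)
theorem F_7863 (IH : D.IHyp) : ed Gen.c V_14347 = V_14779 :=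
  gap_rel RW_39 (path_edge (F_4799 IH) (path_edge (F_7859 IH) (path_edge (F_7822 IH) (path_nil _))))
theorem F_7864 (IH : D.IHyp) : ed Gen.c V_14779 = V_14347 :=
  flipE D.rels D.S (hinv Gen.c) (F_7863 IH)
theorem F_7882 (IH : D.IHyp) : ed Gen.c V_14345 = V_14345 :=
  gap_rel RW_21 (path_edge (F_4890 IH) (path_edge (F_7864 IH) (path_edge (F_7855 IH) (path_edge (F_7863 IH) (path_edge (F_4886 IH) (path_nil _))))))
theorem F_7888 (IH : D.IHyp) : ed Gen.c V_14343 = V_14343 :=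
  gap_rel RW_5 (path_edge (F_4899 IH) (path_edge (F_7882 IH) (path_edge (F_4894 IH) (path_nil _))))
theorem F_7891 (IH : D.IHyp) : ed Gen.b V_14341 = V_14341 :=
  gap_rel RW_48 (path_edge (F_4787 IH) (path_edge (F_4789 IH) (path_edge (F_7888 IH) (path_edge (F_4788 IH) (path_edge (F_4786 IH) (path_nil _))))))
theorem F_7901 (IH : D.IHyp) : ed Gen.b V_14340 = V_14340 :=
  gap_rel RW_38 (path_edge (F_4785 IH) (path_edge (F_7891 IH) (path_edge (F_4784 IH) (path_nil _))))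
theorem F_7903 (IH : D.IHyp) : ed Gen.b V_14339 = V_14339 :=
  gap_rel RW_54 (path_edge (F_4783 IH) (path_edge (F_7901 IH) (path_edge (F_4782 IH) (path_nil _))))
theorem F_7905 (IH : D.IHyp) : ed Gen.b V_14338 = V_14338 :=
  gap_rel RW_33 (path_edge (F_4781 IH) (path_edge (F_7903 IH) (path_edge (F_4780 IH) (path_nil _))))
theorem F_7906 (IH : D.IHyp) : ed Gen.b V_14337 = V_14337 :=
  gap_rel RW_38 (path_edge (F_4779 IH) (path_edge (F_7905 IH) (path_edge (F_4778 IH) (path_nil _))))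
theorem F_7907 (IH : D.IHyp) : ed Gen.b V_14336 = V_14336 :=
  gap_rel RW_17 (path_edge (F_4777 IH) (path_edge (F_7906 IH) (path_edge (F_4776 IH) (path_nil _))))
theorem F_7908 (IH : D.IHyp) : ed Gen.b V_14335 = V_14335 :=
  gap_rel RW_4 (path_edge (F_4775 IH) (path_edge (F_7907 IH) (path_edge (F_4774 IH) (path_nil _))))
theorem F_7909 (IH : D.IHyp) : ed Gen.d V_14333 = V_14335 :=
  gap_rel RW_11 (path_edge (F_4770 IH) (path_edge (F_4773 IH) (path_edge (F_7908 IH) (path_nil _))))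
theorem F_7910 (IH : D.IHyp) : ed Gen.d V_14335 = V_14333 :=
  flipE D.rels D.S (hinv Gen.d) (F_7909 IH)
theorem F_7911 (IH : D.IHyp) : V_14334 = V_14333 :=
  edge_fun (F_4773 IH) (F_7910 IH)
theorem F_7913 (IH : D.IHyp) : ed Gen.c V_14334 = V_14333 :=
  (F_4771 IH).trans (F_7911 IH)
theorem F_7914 (IH : D.IHyp) : ed Gen.c V_14333 = V_14333 :=
  edge_congr (F_7913 IH) (F_7911 IH)
theorem F_7915 (IH : D.IHyp) : V_14332 = V_14333 :=
  edge_fun (F_4767 IH) (F_7914 IH)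
theorem F_7920 (IH : D.IHyp) : V_14333 = V_14332 :=
  (F_7915 IH).symm
theorem F_7926 (IH : D.IHyp) : ed Gen.d V_14332 = V_14335 :=
  edge_congr (F_7909 IH) (F_7920 IH)
theorem F_7927 (IH : D.IHyp) : V_14331 = V_14335 :=
  edge_fun (F_4763 IH) (F_7926 IH)
theorem F_7929 (IH : D.IHyp) : V_14335 = V_14331 :=
  (F_7927 IH).symm
theorem F_7933 (IH : D.IHyp) : ed Gen.e V_14331 = V_14336 :=
  edge_congr (F_4774 IH) (F_7929 IH)
theorem F_7934 (IH : D.IHyp) : ed Gen.e V_14336 = V_14331 :=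
  flipE D.rels D.S (hinv Gen.e) (F_7933 IH)
theorem F_7935 (IH : D.IHyp) : ed Gen.a V_14336 = V_14336 :=
  gap_rel RW_16 (path_edge (F_7933 IH) (path_edge (F_4760 IH) (path_edge (F_7934 IH) (path_nil _))))
theorem F_7936 (IH : D.IHyp) : ed Gen.a V_14337 = V_14337 :=
  gap_rel RW_42 (path_edge (F_4776 IH) (path_edge (F_7935 IH) (path_edge (F_4777 IH) (path_nil _))))
theorem F_7937 (IH : D.IHyp) : ed Gen.a V_14338 = V_14338 :=
  gap_rel RW_28 (path_edge (F_4778 IH) (path_edge (F_7936 IH) (path_edge (F_4779 IH) (path_nil _))))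
theorem F_7938 (IH : D.IHyp) : ed Gen.a V_14339 = V_14339 :=
  gap_rel RW_47 (path_edge (F_4780 IH) (path_edge (F_7937 IH) (path_edge (F_4781 IH) (path_nil _))))
theorem F_7939 (IH : D.IHyp) : ed Gen.a V_14340 = V_14340 :=
  gap_rel RW_53 (path_edge (F_4782 IH) (path_edge (F_7938 IH) (path_edge (F_4783 IH) (path_nil _))))
theorem F_7940 (IH : D.IHyp) : ed Gen.a V_14341 = V_14341 :=
  gap_rel RW_28 (path_edge (F_4784 IH) (path_edge (F_7939 IH) (path_edge (F_4785 IH) (path_nil _))))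
theorem F_7941 (IH : D.IHyp) : ed Gen.a V_14342 = V_14342 :=
  gap_rel RW_0 (path_edge (F_4786 IH) (path_edge (F_7940 IH) (path_edge (F_4787 IH) (path_nil _))))
theorem F_8195 (IH : D.IHyp) : ed Gen.i V_14549 = V_14829 :=
  rfl
theorem F_8196 (IH : D.IHyp) : ed Gen.i V_14829 = V_14549 :=
  flipE D.rels D.S (hinv Gen.i) (F_8195 IH)
theorem F_8197 (IH : D.IHyp) : ed Gen.a V_14348 = V_14829 :=
  gap_rel RW_53 (path_edge (F_4801 IH) (path_edge (F_6442 IH) (path_edge (F_8196 IH) (path_nil _))))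
theorem F_8198 (IH : D.IHyp) : ed Gen.a V_14829 = V_14348 :=
  flipE D.rels D.S (hinv Gen.a) (F_8197 IH)
theorem F_8202 (IH : D.IHyp) : ed Gen.h V_14829 = V_14830 :=
  rfl
theorem F_8203 (IH : D.IHyp) : ed Gen.h V_14830 = V_14829 :=
  flipE D.rels D.S (hinv Gen.h) (F_8202 IH)
theorem F_8204 (IH : D.IHyp) : ed Gen.a V_14347 = V_14830 :=
  gap_rel RW_47 (path_edge (F_4799 IH) (path_edge (F_8198 IH) (path_edge (F_8203 IH) (path_nil _))))
theorem F_8205 (IH : D.IHyp) : ed Gen.a V_14830 = V_14347 :=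
  flipE D.rels D.S (hinv Gen.a) (F_8204 IH)
theorem F_8208 (IH : D.IHyp) : ed Gen.d V_14830 = V_14831 :=
  rfl
theorem F_8209 (IH : D.IHyp) : ed Gen.d V_14831 = V_14830 :=
  flipE D.rels D.S (hinv Gen.d) (F_8208 IH)
theorem F_8210 (IH : D.IHyp) : ed Gen.a V_14345 = V_14831 :=
  gap_rel RW_28 (path_edge (F_4890 IH) (path_edge (F_8205 IH) (path_edge (F_8209 IH) (path_nil _))))
theorem F_8211 (IH : D.IHyp) : ed Gen.a V_14831 = V_14345 :=
  flipE D.rels D.S (hinv Gen.a) (F_8210 IH)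
theorem F_8215 (IH : D.IHyp) : ed Gen.e V_14831 = V_14832 :=
  rfl
theorem F_8216 (IH : D.IHyp) : ed Gen.e V_14832 = V_14831 :=
  flipE D.rels D.S (hinv Gen.e) (F_8215 IH)
theorem F_8217 (IH : D.IHyp) : ed Gen.a V_14343 = V_14832 :=
  gap_rel RW_16 (path_edge (F_4899 IH) (path_edge (F_8211 IH) (path_edge (F_8216 IH) (path_nil _))))
theorem F_8218 (IH : D.IHyp) : ed Gen.a V_14832 = V_14343 :=
  flipE D.rels D.S (hinv Gen.a) (F_8217 IH)
theorem F_8222 (IH : D.IHyp) : ed Gen.b V_14832 = V_14832 :=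
  gap_rel RW_32 (path_edge (F_8217 IH) (path_edge (F_4788 IH) (path_edge (F_7941 IH) (path_edge (F_4789 IH) (path_edge (F_8218 IH) (path_nil _))))))
theorem F_8223 (IH : D.IHyp) : ed Gen.b V_14831 = V_14831 :=
  gap_rel RW_4 (path_edge (F_8216 IH) (path_edge (F_8222 IH) (path_edge (F_8215 IH) (path_nil _))))
theorem F_8224 (IH : D.IHyp) : ed Gen.b V_14830 = V_14830 :=
  gap_rel RW_38 (path_edge (F_8209 IH) (path_edge (F_8223 IH) (path_edge (F_8208 IH) (path_nil _))))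
theorem F_8225 (IH : D.IHyp) : ed Gen.b V_14829 = V_14829 :=
  gap_rel RW_33 (path_edge (F_8203 IH) (path_edge (F_8224 IH) (path_edge (F_8202 IH) (path_nil _))))
theorem F_8226 (IH : D.IHyp) : ed Gen.i V_14550 = V_14829 :=
  gap_rel RW_13 (path_edge (F_6446 IH) (path_edge (F_8196 IH) (path_edge (F_8225 IH) (path_nil _))))
theorem F_8227 (IH : D.IHyp) : ed Gen.i V_14829 = V_14550 :=
  flipE D.rels D.S (hinv Gen.i) (F_8226 IH)
theorem F_8228 (IH : D.IHyp) : V_14549 = V_14550 :=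
  edge_fun (F_8196 IH) (F_8227 IH)
theorem F_8229 (IH : D.IHyp) : V_14550 = V_14549 :=
  (F_8228 IH).symm
theorem F_8230 (IH : D.IHyp) : ed Gen.a V_14549 = V_14551 :=
  edge_congr (F_6453 IH) (F_8229 IH)
theorem F_8231 (IH : D.IHyp) : V_14349 = V_14551 :=
  edge_fun (F_6442 IH) (F_8230 IH)
theorem F_8244 (IH : D.IHyp) : V_14551 = V_14349 :=
  (F_8231 IH).symm
theorem F_8246 (IH : D.IHyp) : ed Gen.c V_14349 = V_14234 :=
  edge_congr (F_6455 IH) (F_8244 IH)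
theorem F_8247 (IH : D.IHyp) : V_14351 = V_14234 :=
  edge_fun (F_4872 IH) (F_8246 IH)
theorem F_8285 (IH : D.IHyp) : ed Gen.h V_14234 = V_14587 :=
  edge_congr (F_6802 IH) (F_8247 IH)
theorem F_8286 (IH : D.IHyp) : V_14235 = V_14587 :=
  edge_fun (F_4216 IH) (F_8285 IH)
theorem F_8311 (IH : D.IHyp) : V_14587 = V_14235 :=
  (F_8286 IH).symm
theorem F_8317 (IH : D.IHyp) : ed Gen.d V_14235 = V_14191 :=
  edge_congr (F_6806 IH) (F_8311 IH)
theorem F_8318 (IH : D.IHyp) : V_14236 = V_14191 :=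
  edge_fun (F_4221 IH) (F_8317 IH)
theorem F_8340 (IH : D.IHyp) : ed Gen.c V_14191 = V_14237 :=
  edge_congr (F_4225 IH) (F_8318 IH)
theorem F_8341 (IH : D.IHyp) : V_14252 = V_14237 :=
  edge_fun (F_4335 IH) (F_8340 IH)
theorem F_8367 (IH : D.IHyp) : ed Gen.h V_14237 = V_14253 :=
  edge_congr (F_4268 IH) (F_8341 IH)
theorem F_8368 (IH : D.IHyp) : ed Gen.h V_14253 = V_14237 :=
  flipE D.rels D.S (hinv Gen.h) (F_8367 IH)
theorem F_8372 (IH : D.IHyp) : ed Gen.b V_14179 = V_14253 :=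
  gap_rel RW_33 (path_edge (F_3179 IH) (path_edge (F_4396 IH) (path_edge (F_8368 IH) (path_nil _))))
theorem F_8373 (IH : D.IHyp) : ed Gen.b V_14253 = V_14179 :=
  flipE D.rels D.S (hinv Gen.b) (F_8372 IH)
theorem F_8411 (IH : D.IHyp) : ed Gen.b V_14180 = V_14255 :=
  gap_rel RW_4 (path_edge (F_3184 IH) (path_edge (F_8373 IH) (path_edge (F_4298 IH) (path_nil _))))
theorem F_8412 (IH : D.IHyp) : ed Gen.b V_14255 = V_14180 :=
  flipE D.rels D.S (hinv Gen.b) (F_8411 IH)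
theorem F_8413 (IH : D.IHyp) : V_14460 = V_14180 :=
  edge_fun (F_5288 IH) (F_8412 IH)
theorem F_8421 (IH : D.IHyp) : ed Gen.d V_14180 = (D.P 409) :=
  edge_congr (F_5297 IH) (F_8413 IH)
theorem F_8422 (IH : D.IHyp) : V_14181 = (D.P 409) :=
  edge_fun (F_3187 IH) (F_8421 IH)
theorem F_8446 (IH : D.IHyp) : ed Gen.c (D.P 409) = V_14182 :=
  edge_congr (F_3190 IH) (F_8422 IH)
theorem F_8447 (IH : D.IHyp) : (D.P 326) = V_14182 :=
  edge_fun (F_4277 IH) (F_8446 IH)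
theorem F_8461 (IH : D.IHyp) : V_14182 = (D.P 326) :=
  (F_8447 IH).symm
theorem F_8465 (IH : D.IHyp) : ed Gen.b (D.P 326) = V_14183 :=
  edge_congr (F_3194 IH) (F_8461 IH)
theorem F_8466 (IH : D.IHyp) : (D.P 249) = V_14183 :=
  edge_fun (F_2308 IH) (F_8465 IH)
theorem F_8485 (IH : D.IHyp) : V_14183 = (D.P 249) :=
  (F_8466 IH).symm
theorem F_8493 (IH : D.IHyp) : ed Gen.h (D.P 249) = V_14185 :=
  edge_congr (F_3250 IH) (F_8485 IH)
theorem F_8494 (IH : D.IHyp) : (D.P 323) = V_14185 :=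
  edge_fun (F_50 IH) (F_8493 IH)
theorem F_8506 (IH : D.IHyp) : V_14185 = (D.P 323) :=
  (F_8494 IH).symm
theorem F_8512 (IH : D.IHyp) : ed Gen.f (D.P 323) = V_14186 :=
  edge_congr (F_3205 IH) (F_8506 IH)
theorem F_8513 (IH : D.IHyp) : (D.P 245) = V_14186 :=
  edge_fun (F_2360 IH) (F_8512 IH)
theorem F_8524 (IH : D.IHyp) : V_14186 = (D.P 245) :=
  (F_8513 IH).symm
theorem F_8528 (IH : D.IHyp) : ed Gen.e (D.P 245) = V_14187 :=
  edge_congr (F_3207 IH) (F_8524 IH)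
theorem F_8529 (IH : D.IHyp) : (D.P 185) = V_14187 :=
  edge_fun (F_3329 IH) (F_8528 IH)
theorem F_8542 (IH : D.IHyp) : V_14187 = (D.P 185) :=
  (F_8529 IH).symm
theorem F_8546 (IH : D.IHyp) : ed Gen.d (D.P 185) = V_14188 :=
  edge_congr (F_3210 IH) (F_8542 IH)
theorem F_8547 (IH : D.IHyp) : (D.P 185) = V_14188 :=
  edge_fun (F_516 IH) (F_8546 IH)
theorem F_8562 (IH : D.IHyp) : V_14188 = (D.P 185) :=
  (F_8547 IH).symm
theorem F_8566 (IH : D.IHyp) : ed Gen.c (D.P 185) = V_14189 :=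
  edge_congr (F_3213 IH) (F_8562 IH)
theorem F_8567 (IH : D.IHyp) : (D.P 138) = V_14189 :=
  edge_fun (F_2342 IH) (F_8566 IH)
theorem F_8582 (IH : D.IHyp) : V_14189 = (D.P 138) :=
  (F_8567 IH).symm
theorem F_8585 (IH : D.IHyp) : ed Gen.b (D.P 138) = V_14190 :=
  edge_congr (F_3216 IH) (F_8582 IH)
theorem F_8586 (IH : D.IHyp) : (D.P 179) = V_14190 :=
  edge_fun (F_924 IH) (F_8585 IH)
theorem F_8614 (IH : D.IHyp) : V_14190 = (D.P 179) :=
  (F_8586 IH).symm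
theorem F_8623 (IH : D.IHyp) : ed Gen.e (D.P 179) = V_14213 :=
  edge_congr (F_3665 IH) (F_8614 IH)
theorem F_8624 (IH : D.IHyp) : (D.P 236) = V_14213 :=
  edge_fun (F_207 IH) (F_8623 IH)
theorem F_8717 (IH : D.IHyp) : V_14213 = (D.P 236) :=
  (F_8624 IH).symm
theorem F_8724 (IH : D.IHyp) : ed Gen.f (D.P 236) = V_14466 :=
  edge_congr (F_5538 IH) (F_8717 IH)
theorem F_8725 (IH : D.IHyp) : (D.P 310) = V_14466 :=
  edge_fun (F_872 IH) (F_8724 IH)
theorem F_8937 (IH : D.IHyp) : V_14466 = (D.P 310) :=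
  (F_8725 IH).symm
theorem F_8949 (IH : D.IHyp) : ed Gen.h (D.P 310) = V_14118 :=
  edge_congr (F_5539 IH) (F_8937 IH)
theorem F_8950 (IH : D.IHyp) : (D.P 239) = V_14118 :=
  edge_fun (F_2304 IH) (F_8949 IH)
theorem F_9316 (IH : D.IHyp) : V_14118 = (D.P 239) :=
  (F_8950 IH).symm
theorem F_9326 (IH : D.IHyp) : ed Gen.d (D.P 239) = V_14091 :=
  edge_congr (F_2015 IH) (F_9316 IH)
theorem F_9327 (IH : D.IHyp) : (D.P 183) = V_14091 :=
  edge_fun (F_236 IH) (F_9326 IH)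
theorem F_9853 (IH : D.IHyp) : V_14091 = (D.P 183) :=
  (F_9327 IH).symm
theorem F_9863 (IH : D.IHyp) : ed Gen.e (D.P 183) = V_14083 :=
  edge_congr (F_789 IH) (F_9853 IH)
theorem F_9864 (IH : D.IHyp) : (D.P 143) = V_14083 :=
  edge_fun (F_343 IH) (F_9863 IH)
theorem F_10455 (IH : D.IHyp) : V_14083 = (D.P 143) :=
  (F_9864 IH).symm
theorem F_10467 (IH : D.IHyp) : ed Gen.f (D.P 143) = V_14080 :=
  edge_congr (F_448 IH) (F_10455 IH)
theorem F_10468 (IH : D.IHyp) : (D.P 105) = V_14080 :=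
  edge_fun (F_334 IH) (F_10467 IH)
theorem F_11028 (IH : D.IHyp) : V_14080 = (D.P 105) :=
  (F_10468 IH).symm
theorem F_11035 (IH : D.IHyp) : ed Gen.c (D.P 105) = (D.P 103) :=
  edge_congr (F_1 IH) (F_11028 IH)
theorem F_11036 (IH : D.IHyp) : ed Gen.c (D.P 103) = (D.P 105) :=
  flipE D.rels D.S (hinv Gen.c) (F_11035 IH)

theorem seed_main (IH : D.IHyp) : D.EOK Gen.c (D.mkF 103) :=
  D.seed_of_edge Gen.c 103 105 (by decide +kernel) (F_11036 IH)

theorem hseed : ∀ x p, D.isSeed x p = true →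
    (∀ y q, D.lvl y q < D.lvl x p → D.EOK y q) → D.EOK x p := by
  intro x p hs IH
  obtain ⟨hx, hp⟩ := D.isSeed_eq hs
  have hx' : x = Gen.c := hx
  have hp' : p = D.mkF 103 := hp
  subst hx'
  subst hp'
  have hl : D.lvl Gen.c (D.mkF 103) = D.L := by decide +kernel
  exact seed_main (fun y q h => IH y q (by rw [hl]; exact h))

end

end Cfsg.Agent.Helper27.Fi22TC.F0
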